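import Cfsg.Agent.Lib.HSLocal.Model

/-!
A map of codes into a group that is multiplicative on the products with generators is multiplicative.
-/

set_option autoImplicit false
set_option maxRecDepth 100000

namespace Cfsg.Agent.HSLocal.Coord

open Cfsg.Agent.HSLocal

/-- Generators of the stabilizer of the last point. -/
def gensB : List ℕ := [1, 2, 4, 8, 16, 2310, 2458]

/-- Generators of all the codes. -/
def gensH : List ℕ := [1, 2, 4, 8, 16, 2310, 2458, 4096]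

/-- The word of a code of the normal two-group. -/
def wR (s : ℕ) : List ℕ := List.replicate (s / 16) 16 ++ [1, 2, 4, 8].filter fun x => s / x % 2 == 1

/-- Words of the representatives of the permutations. -/
def wTab : List (List ℕ) := [
  [],
  [2458, 4096, 2310, 1, 4, 8],
  [2458, 2458, 2310, 2, 8],
  [2310, 2310, 2458, 4096, 4096, 4096, 16, 16, 1, 2, 4],
  [2458, 4096, 2458, 16, 16, 2, 4, 8],
  [2310, 2458, 4096, 16],
  [2458, 2310, 2458, 4],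
  [4096, 4096, 2458, 16, 16, 16, 1, 4],
  [2458, 2310, 2310, 1, 2, 4],
  [4096, 2458, 2310, 16, 16, 16, 1],
  [2310, 4096, 16, 16, 16, 1, 2, 4],
  [4096, 2458, 2458, 16, 2, 8],
  [2310, 2310, 2458, 2458, 2, 8],
  [2310, 2310, 4096, 2310, 1, 2, 4],
  [2310, 2310, 2458, 2310, 1],
  [2458, 2310, 2310, 4096, 4096, 2458, 16, 16, 2, 8],
  [2310, 2310, 4096, 2458, 16, 16, 1, 4],
  [2310, 2458, 2458, 4096, 1],
  [2310, 4096, 2458, 2310, 2310, 16, 16, 16, 1, 2, 8],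
  [2310, 4096, 4096, 2458, 2310, 1, 8],
  [2310, 2458, 4096, 2310, 4096, 2, 4],
  [4096, 2310, 2458, 16, 2, 8],
  [2310, 4096, 4096, 2458, 2458, 16, 16, 1, 2],
  [4096, 2310, 2310, 16, 16, 16],
  [2310, 2458, 2310, 2310, 16, 16, 16, 1, 2, 8],
  [2310, 4096, 2458, 2310, 1, 8],
  [2310, 2458, 2310, 2458, 16, 1],
  [2310, 4096, 4096, 2458, 16, 2, 8],
  [2310, 4096, 2458, 2458, 16, 16, 1, 2],
  [2310, 2310, 4096, 16, 16, 16],
  [2458, 2458, 2310, 2310, 16, 1, 8],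
  [2458, 4096, 2458, 2310, 1, 2, 4, 8],
  [2458, 2458, 2310, 2458, 16, 1, 2],
  [4096, 4096, 4096],
  [2458, 4096, 2458, 2458, 1, 4, 8],
  [2458, 2310, 4096, 16, 16, 16, 2, 4, 8],
  [2310, 16, 16, 16, 1, 2, 4],
  [2310, 2458, 4096, 2310, 16, 16, 4],
  [2458, 16, 16, 16, 1, 4],
  [2458, 2458, 4096, 2310, 2],
  [2310, 2458, 4096, 2458, 2, 4],
  [2310, 2310, 2458, 4096, 16, 16, 16, 4, 8],
  [2310, 4096, 2310, 2458, 16, 16, 1, 4],
  [2310, 2310, 2458, 4096, 2310, 4096, 16, 16, 1, 2],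
  [2310, 4096, 2310, 2310, 1, 2, 4],
  [2310, 2310, 4096, 4096, 2458, 2458, 2, 8],
  [4096, 4096, 2458, 4096, 4, 8],
  [2310, 2310, 4096, 4096, 2458, 2310, 1],
  [2310, 2310, 2458, 16, 16, 1, 4],
  [2310, 2458, 4096, 4096, 4096, 16, 2],
  [2310, 2310, 2310, 1, 2, 4],
  [2458, 2458, 2310, 4096, 2310, 16, 16, 16, 4],
  [2458, 4096, 4, 8],
  [2458, 2458, 2310, 4096, 2458, 16, 16, 16, 2, 4],
  [2310, 2458, 2458, 16, 16, 1, 2],
  [2310, 4096, 2310, 16, 16, 16],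
  [2310, 2458, 2310, 1, 8],
  [2310, 2310, 2458, 4096, 2458, 2310, 16, 1, 2, 4, 8],
  [2310, 4096, 2458, 16, 2, 8],
  [2458, 2458, 4096, 16, 16, 4],
  [2458, 2310, 2458, 2310, 1],
  [4096, 2458, 2458, 2310, 2, 8],
  [2458, 2310, 2458, 2458, 1, 2, 8],
  [2458, 2310, 4096, 2310, 16, 4, 8],
  [4096],
  [2458, 2310, 4096, 2458, 16, 16, 16, 2, 4, 8],
  [4096, 4096, 2458, 2310, 16, 16, 16, 1],
  [4096, 2458, 2310, 2310, 1, 2, 4],
  [4096, 4096, 2458, 2458, 16, 2, 8],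
  [4096, 2310, 4096, 16, 16, 16, 1, 2, 4],
  [2458, 4096, 2310, 4096, 16, 1, 2],
  [4096, 4096, 4096, 2458, 16, 16, 16, 1, 4],
  [2458, 2310, 16, 16, 16, 1],
  [2310, 2458, 4096, 2458, 2310, 16, 16, 1, 2],
  [2458, 2458, 16, 2, 8],
  [4096, 2310, 16, 16, 16, 1, 2, 4],
  [2310, 2458, 4096, 2458, 2458, 8],
  [4096, 2458, 16, 16, 16, 1, 4],
  [2310, 2310, 2458, 2310, 2310, 16, 16, 16, 1, 2, 4],
  [2310, 2310, 4096, 2458, 2310, 1],
  [2310, 2310, 2458, 2310, 2458, 16, 4],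
  [2310, 2310, 4096, 4096, 2458, 16, 16, 1, 4],
  [2458, 2310, 2310, 4096, 16, 1, 2],
  [2310, 2310, 2310, 4096, 1, 2, 4],
  [2310, 2458, 16, 2, 8],
  [2458, 4096, 4096, 4096, 16, 16, 16, 1, 2, 4],
  [2310, 2310, 16, 16, 16],
  [2310, 2310, 2458, 4096, 2310, 16, 1, 4, 8],
  [2458, 2458, 2310, 4096],
  [2310, 2310, 2458, 4096, 2458, 16, 2, 4, 8],
  [4096, 4096, 4096, 4096],
  [4096, 2458, 2458, 2310, 2458, 16, 1, 2],
  [4096, 2458, 2310, 4096, 16, 16, 16, 2, 4, 8],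
  [2458, 2310, 4096, 2310, 2458, 16, 16, 16, 2, 4, 8],
  [4096, 2458, 2458, 2310, 2310, 16, 1, 8],
  [2310, 4096, 4096, 2458, 4096, 16],
  [4096, 4096],
  [2458, 2458, 2310, 4096, 4096, 16, 16, 16, 4],
  [2310, 2458, 4096, 2458, 4096, 16, 16, 16, 1, 4, 8],
  [2458, 2310, 2310, 4096, 4096, 1, 4],
  [2458, 4096, 2458, 2458, 4096, 16, 16, 1, 2, 4],
  [2310, 4096, 2458, 4096, 16],
  [2458, 2310, 4096, 2458, 4096, 16, 2, 4],
  [4096, 4096, 4096, 4096, 2458, 16, 16, 16, 1, 4],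
  [2310, 2310, 4096, 2458, 4096, 16, 16, 16, 4, 8],
  [4096, 4096, 4096, 2458, 2310, 16, 16, 16, 1],
  [2310, 4096, 4096, 16, 16, 16, 1, 2, 4],
  [2458, 4096, 4096, 16, 1, 4, 8],
  [2310, 2310, 2458, 4096, 4096, 1, 4, 8],
  [4096, 2310, 2310, 2310, 1, 2, 4],
  [2310, 2458, 2458, 4096, 4096, 2, 4, 8],
  [4096, 2458, 4096, 4, 8],
  [2458, 4096, 2458, 4096, 16, 2],
  [2310, 4096, 2458, 2458, 4096, 1],
  [2458, 2310, 4096, 4096, 16, 2, 4],
  [2458, 2458, 4096, 4096, 2, 4],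
  [4096, 2458, 2458, 4096, 16, 16, 4],
  [4096, 2310, 4096, 2458, 16, 2, 8],
  [2310, 2458, 4096, 4096, 4],
  [2310, 2310, 4096, 4096, 16, 16, 16]]

/-- The word of a representative. -/
def wP (p : ℕ) : List ℕ := wTab.getD p []

/-- The code of a product of letters after a code. -/
def runC (a : ℕ) (w : List ℕ) : ℕ := w.foldl HSLocal.mul a

theorem qmul_fact : ∀ r, r < 64 → ∀ s, s < 64 → runC r (wR s) = qmul r s := by decide +kernel

theorem self_fact : ∀ s, s < 64 → runC 0 (wR s) = s ∧ ∀ u ∈ wR s, u ∈ [1, 2, 4, 8, 16] := by decide +kernel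

theorem act_fact : ∀ p, p < 120 → ∀ s, s < 64 → runC (64 * p) (wR s) = 64 * p + act p s ∧ act p s < 64 := by
  decide +kernel

theorem rep_fact : ∀ p, p < 120 → ∀ r, r < 64 → runC r (wP p) = 64 * p + r := by decide +kernel

theorem coc_fact : ∀ p, p < 120 → ∀ q, q < 120 →
    runC (64 * p) (wP q) = 64 * pmul p q + coc p q ∧ coc p q < 64 := by decide +kernel

variable {G : Type*} [Group G] {ρ : ℕ → G} {U : List ℕ} {P : ℕ → Prop}

theorem run_eq (h1 : ρ 0 = 1) (hU : ∀ u ∈ U, u < 7680 ∧ P (u / 64))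
    (hcl : ∀ a, a < 7680 → P (a / 64) → ∀ u ∈ U, P (HSLocal.mul a u / 64))
    (hstep : ∀ a, a < 7680 → P (a / 64) → ∀ u ∈ U, ρ (HSLocal.mul a u) = ρ a * ρ u) :
    ∀ (w : List ℕ), (∀ u ∈ w, u ∈ U) → ∀ a, a < 7680 → P (a / 64) →
      ρ (runC a w) = ρ a * (w.map ρ).prod := by
  intro w
  induction w with
  | nil => intro _ a _ _; simp [runC]
  | cons u w ih =>
    intro hw a ha hP
    have hu := hw u List.mem_cons_self
    rw [runC, List.foldl_cons, ← runC, ih (fun v hv => hw v (List.mem_cons_of_mem _ hv)) _ (mul_lt a u)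
      (hcl a ha hP u hu), hstep a ha hP u hu, List.map_cons, List.prod_cons, mul_assoc]

theorem mul_of_step (h1 : ρ 0 = 1) (hU : ∀ u ∈ U, u < 7680 ∧ P (u / 64)) (hR : ∀ u ∈ [1, 2, 4, 8, 16], u ∈ U)
    (hW : ∀ p, p < 120 → P p → ∀ u ∈ wP p, u ∈ U) (h0 : P 0)
    (hcl : ∀ a, a < 7680 → P (a / 64) → ∀ u ∈ U, P (HSLocal.mul a u / 64))
    (hmul : ∀ p, p < 120 → ∀ q, q < 120 → P p → P q → P (pmul p q))
    (hstep : ∀ a, a < 7680 → P (a / 64) → ∀ u ∈ U, ρ (HSLocal.mul a u) = ρ a * ρ u) :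
    ∀ a b, a < 7680 → b < 7680 → P (a / 64) → P (b / 64) → ρ (HSLocal.mul a b) = ρ a * ρ b := by
  have hz : P (0 / 64) := h0
  have split : ∀ w, (∀ u ∈ w, u ∈ U) → ∀ a, a < 7680 → P (a / 64) → ρ (runC a w) = ρ a * ρ (runC 0 w) := by
    intro w hw a ha hP
    rw [run_eq h1 hU hcl hstep w hw a ha hP, run_eq h1 hU hcl hstep w hw 0 (by norm_num) hz, h1, one_mul]
  have hP0 : ∀ r, r < 64 → P (r / 64) := fun r hr => by rw [Nat.div_eq_of_lt hr]; exact h0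
  have hwR : ∀ s, s < 64 → ∀ u ∈ wR s, u ∈ U := fun s hs u hu => hR u ((self_fact s hs).2 u hu)
  have hRmul : ∀ r, r < 64 → ∀ s, s < 64 → ρ r * ρ s = ρ (qmul r s) := fun r hr s hs => by
    rw [← qmul_fact r hr s hs, split _ (hwR s hs) r (by omega) (hP0 r hr), (self_fact s hs).1]
  have hsec : ∀ p, p < 120 → P p → ∀ r, r < 64 → ρ (64 * p + r) = ρ r * ρ (64 * p) := fun p hp hPp r hr => by
    have h2 := rep_fact p hp 0 (by norm_num)
    rw [add_zero] at h2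
    rw [← rep_fact p hp r hr, split _ (hW p hp hPp) r (by omega) (hP0 r hr), h2]
  intro a b ha hb hPa hPb
  obtain ⟨p, r, hp, hr, rfl⟩ : ∃ p r, p < 120 ∧ r < 64 ∧ a = 64 * p + r :=
    ⟨a / 64, a % 64, by omega, by omega, by omega⟩
  obtain ⟨q, s, hq, hs, rfl⟩ : ∃ q s, q < 120 ∧ s < 64 ∧ b = 64 * q + s :=
    ⟨b / 64, b % 64, by omega, by omega, by omega⟩
  rw [show (64 * p + r) / 64 = p by omega] at hPa
  rw [show (64 * q + s) / 64 = q by omega] at hPb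
  have hPp : P (64 * p / 64) := by rwa [show 64 * p / 64 = p by omega]
  obtain ⟨e1, a1⟩ := act_fact p hp s hs
  obtain ⟨e2, c2⟩ := coc_fact p hp q hq
  have hpq : pmul p q < 120 := pmul_lt p hp q hq
  have hPpq := hmul p hp q hq hPa hPb
  have m1 : ρ (64 * p) * ρ s = ρ (act p s) * ρ (64 * p) := by
    rw [← hsec p hp hPa _ a1, ← e1, split _ (hwR s hs) _ (by omega) hPp, (self_fact s hs).1]
  have m2 : ρ (64 * p) * ρ (64 * q) = ρ (coc p q) * ρ (64 * pmul p q) := by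
    have h2 := rep_fact q hq 0 (by norm_num)
    rw [add_zero] at h2
    rw [← hsec _ hpq hPpq _ c2, ← e2, split _ (hW q hq hPb) _ (by omega) hPp, h2]
  have hm : HSLocal.mul (64 * p + r) (64 * q + s) =
      64 * pmul p q + qmul (qmul r (act p s)) (coc p q) := by
    unfold HSLocal.mul pp qp
    rw [show (64 * p + r) / 64 % 120 = p by omega, show (64 * q + s) / 64 % 120 = q by omega,
      show (64 * p + r) % 64 = r by omega, show (64 * q + s) % 64 = s by omega]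
    omega
  rw [hm, hsec _ hpq hPpq _ (qmul_lt _ _), ← hRmul _ (qmul_lt _ _) _ c2, ← hRmul _ hr _ a1,
    hsec p hp hPa r hr, hsec q hq hPb s hs]
  calc ρ r * ρ (act p s) * ρ (coc p q) * ρ (64 * pmul p q)
      = ρ r * ρ (act p s) * (ρ (64 * p) * ρ (64 * q)) := by rw [m2, ← mul_assoc]
    _ = ρ r * (ρ (64 * p) * ρ s) * ρ (64 * q) := by rw [m1]; simp only [mul_assoc]
    _ = ρ r * ρ (64 * p) * (ρ s * ρ (64 * q)) := by simp only [mul_assoc]

end Cfsg.Agent.HSLocal.Coord
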