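import Cfsg.Agent.Lib.HSLocal.Coord.Engine
import Cfsg.Agent.Lib.HSLocal.Coord.HHom

/-!
The codes fixing the last point inside the normal forms of `4^3 . L3(2)`.
-/

set_option autoImplicit false
set_option maxRecDepth 100000

namespace Cfsg.Agent.HSLocal.Coord

open Cfsg.Agent.HSLocal

/-- The permutation fixes the last point. -/
def Stab4 (p : ℕ) : Prop := img p 4 = 4

instance (p : ℕ) : Decidable (Stab4 p) := inferInstanceAs (Decidable (img p 4 = 4))

/-- A word run from a code of the engine. -/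
def runE (n : ℕ) (w : List ℕ) : ℕ := w.foldl (mulL 0) n

/-- The images of the normal two-group. -/
def phiR : List ℕ := [0, 40, 34, 10, 4009, 3969, 3979, 4003, 4833, 4809, 4803, 4843, 6922, 6946, 6952, 6912, 1, 41, 35, 11, 4010, 3970, 3976, 4000, 4834, 4810, 4800, 4840, 6923, 6947, 6953, 6913, 2, 42, 32, 8, 4011, 3971, 3977, 4001, 4835, 4811, 4801, 4841, 6920, 6944, 6954, 6914, 3, 43, 33, 9, 4008, 3968, 3978, 4002, 4832, 4808, 4802, 4842, 6921, 6945, 6955, 6915]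

/-- Words of the images of the representatives. -/
def phiP : List (List ℕ) := [
  [],
  [],
  [1, 3, 2, 0, 1, 3, 0, 0, 0],
  [],
  [],
  [],
  [1, 0, 2, 0, 3, 2, 0],
  [],
  [0, 3, 0, 3, 0, 1, 0, 0],
  [],
  [],
  [],
  [0, 0, 3, 0, 1, 1, 0, 3, 3],
  [],
  [0, 2, 3, 0, 2, 3, 0, 1],
  [],
  [],
  [],
  [],
  [],
  [],
  [],
  [],
  [],
  [1, 1, 0, 2, 3, 3, 0, 0, 0, 3],
  [],
  [0, 1, 3, 0, 0, 2, 0, 3, 0],
  [],
  [],
  [],
  [0, 0, 3, 0, 0, 0, 3, 2, 0, 1],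
  [],
  [1, 2, 0, 1, 0, 3, 2, 0],
  [],
  [],
  [],
  [0, 3, 2, 0, 0, 2, 1, 3, 3, 0],
  [],
  [0, 0, 0, 0, 0, 2, 0],
  [],
  [],
  [],
  [],
  [],
  [],
  [],
  [],
  [],
  [0, 2, 0, 0, 3, 0, 2, 3, 3],
  [],
  [0, 2, 3, 0, 0, 3, 0, 3],
  [],
  [],
  [],
  [0, 2, 3, 0, 1, 0, 1],
  [],
  [0, 3, 0, 3, 0, 1, 2, 0],
  [],
  [],
  [],
  [0, 1, 0, 3, 2, 0, 1, 3, 3],
  [],
  [0, 1, 2, 0, 0, 0, 3, 0, 1, 0, 1],
  [],
  [],
  [],
  [],
  [],
  [],
  [],
  [],
  [],
  [1, 3, 0, 2, 3, 0, 0, 0],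
  [],
  [2, 0, 2, 0, 0, 0],
  [],
  [],
  [],
  [0, 0, 3, 0, 2, 0, 3, 0, 2, 0],
  [],
  [1, 0, 2, 3, 0, 1, 3, 0],
  [],
  [],
  [],
  [0, 3, 0, 2, 0, 1, 0, 0],
  [],
  [1, 0, 1, 3, 0, 2, 0, 3, 3],
  [],
  [],
  [],
  [],
  [],
  [],
  [],
  [],
  [],
  [],
  [],
  [],
  [],
  [],
  [],
  [],
  [],
  [],
  [],
  [],
  [],
  [],
  [],
  [],
  [],
  [],
  [],
  [],
  [],
  [],
  [],
  [],
  []]

/-- Words of the images of the generators. -/
def phiU : List (ℕ × List ℕ) := [(1, [0, 0, 0, 0, 3, 3, 0, 0, 0]), (2, [1, 0, 1, 0, 1, 3, 3, 0]), (4, [1, 0, 1, 3, 0, 3, 2, 0]), (8, [0, 1, 3, 0, 3, 0, 2, 0, 0]), (16, [3]), (2310, [0, 3, 2, 0, 0, 0]), (2458, [1])]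

/-- The image of a code. -/
def phi (b : ℕ) : ℕ := runE (phiR.getD (b % 64) 0) (phiP.getD (b / 64) [])

theorem phi_stepR : ∀ r, r < 64 → ∀ uw ∈ phiU.take 5,
    runE (phi r) uw.2 = phi (HSLocal.mul r uw.1) ∧ HSLocal.mul r uw.1 < 64 := by decide +kernel

theorem phi_stepP : ∀ p, p < 120 → Stab4 p → ∀ uw ∈ phiU,
    runE (phi (64 * p)) uw.2 = phi (HSLocal.mul (64 * p) uw.1) := by decide +kernel

theorem mul_split : ∀ p, p < 120 → Stab4 p → ∀ r, r < 64 → ∀ u ∈ gensB,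
    HSLocal.mul (64 * p + r) u =
      64 * (HSLocal.mul (64 * p) u / 64) + qmul r (HSLocal.mul (64 * p) u % 64) ∧
    Stab4 (HSLocal.mul (64 * p + r) u / 64) := by decide +kernel

theorem phi_facts : phi 0 = 0 ∧ phi 32 = 2 ∧ phi 16 = 1 ∧ phiU.map Prod.fst = gensB ∧
    (∀ uw ∈ phiU, runE 0 uw.2 = phi uw.1) := by decide +kernel

theorem stab4_facts : Stab4 0 ∧ (∀ u ∈ gensB, Stab4 (u / 64)) ∧
    ∀ p, p < 120 → Stab4 p → ∀ u ∈ wP p, u ∈ gensB := by decide +kernel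

theorem stab4_mul : ∀ p, p < 120 → ∀ q, q < 120 → Stab4 p → Stab4 q → Stab4 (pmul p q) := by decide +kernel

theorem el_runE {X : Type*} [Group X] (M : MR X 0) (w : List ℕ) :
    ∀ n, M.el (runE n w) = M.el n * M.val w := by
  induction w with
  | nil => intro n; simp [runE, MR.val]
  | cons a w ih =>
    intro n
    rw [runE, List.foldl_cons, ← runE, ih, MR.el_mulL, MR.val, MR.val, List.map_cons, List.prod_cons, mul_assoc]

theorem el_phi_two {X : Type*} [Group X] (M : MR X 0) {r s : ℕ} (hr : r < 64) (hs : s < 64) :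
    M.el (phi r) * M.el (phi s) = M.el (phi (qmul r s)) := by
  have key : ∀ w : List ℕ, (∀ u ∈ w, u ∈ [1, 2, 4, 8, 16]) → ∀ r, r < 64 →
      M.el (phi (runC r w)) = M.el (phi r) * (w.map fun u => M.el (phi u)).prod := by
    intro w
    induction w with
    | nil => intro _ r _; simp [runC]
    | cons u w ih =>
      intro hw r hr
      obtain ⟨uw, huw, rfl⟩ : ∃ uw ∈ phiU.take 5, uw.1 = u := by
        exact (by decide : ∀ u ∈ [1, 2, 4, 8, 16], ∃ uw ∈ phiU.take 5, uw.1 = u) u (hw u List.mem_cons_self)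
      obtain ⟨e, hlt⟩ := phi_stepR r hr uw huw
      rw [runC, List.foldl_cons, ← runC, ih (fun v hv => hw v (List.mem_cons_of_mem _ hv)) _ hlt, ← e,
        el_runE, List.map_cons, List.prod_cons, mul_assoc,
        ← phi_facts.2.2.2.2 uw (List.mem_of_mem_take huw), el_runE M _ 0, M.el_zero, one_mul]
  have h := key (wR s) (self_fact s hs).2
  have h0 := h 0 (by norm_num)
  rw [(self_fact s hs).1, phi_facts.1, M.el_zero, one_mul] at h0
  rw [← qmul_fact r hr s hs, h r hr, h0]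

theorem el_phi_split {X : Type*} [Group X] (M : MR X 0) (p : ℕ) {r : ℕ} (hr : r < 64) :
    M.el (phi (64 * p + r)) = M.el (phi r) * M.el (phi (64 * p)) := by
  have h0 : phi (64 * p) = runE 0 (phiP.getD p []) := by
    rw [phi, show 64 * p % 64 = 0 by omega, show 64 * p / 64 = p by omega]
    rfl
  have h1 : phi (64 * p + r) = runE (phiR.getD r 0) (phiP.getD p []) := by
    rw [phi, show (64 * p + r) % 64 = r by omega, show (64 * p + r) / 64 = p by omega]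
  have h2 : phi r = phiR.getD r 0 := by
    have : phiP.getD 0 [] = [] := by decide
    rw [phi, Nat.mod_eq_of_lt hr, Nat.div_eq_of_lt hr, this]
    rfl
  rw [h0, h1, h2, el_runE, el_runE M _ 0, M.el_zero, one_mul]

/-- The engine gives coordinates of the stabilizer of the last point. -/
theorem el_phi_mul {X : Type*} [Group X] (M : MR X 0) :
    ∀ a b, a < 7680 → b < 7680 → Stab4 (a / 64) → Stab4 (b / 64) →
      M.el (phi (HSLocal.mul a b)) = M.el (phi a) * M.el (phi b) := by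
  refine mul_of_step (ρ := fun b => M.el (phi b)) (U := gensB) (P := Stab4) ?_ ?_ (by decide)
    stab4_facts.2.2 stab4_facts.1 ?_ stab4_mul ?_
  · show M.el (phi 0) = 1
    rw [phi_facts.1, M.el_zero]
  · exact fun u hu => ⟨by revert u; decide, stab4_facts.2.1 u hu⟩
  all_goals
    intro a ha hP u hu
    obtain ⟨e, hst⟩ := mul_split (a / 64) (by omega) hP (a % 64) (Nat.mod_lt _ (by norm_num)) u hu
    rw [Nat.div_add_mod] at e hst
  · exact hst
  · obtain ⟨uw, huw, rfl⟩ : ∃ uw ∈ phiU, uw.1 = u := by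
      rw [← phi_facts.2.2.2.1, List.mem_map] at hu
      exact hu
    show M.el (phi (HSLocal.mul a uw.1)) = M.el (phi a) * M.el (phi uw.1)
    have hr : a % 64 < 64 := Nat.mod_lt _ (by norm_num)
    conv_rhs => rw [← Nat.div_add_mod a 64, el_phi_split M _ hr]
    have h3 := congrArg M.el (phi_stepP (a / 64) (by omega) hP uw huw)
    rw [el_runE, ← Nat.div_add_mod (HSLocal.mul (64 * (a / 64)) uw.1) 64,
      el_phi_split M _ (Nat.mod_lt _ (by norm_num))] at h3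
    rw [e, el_phi_split M _ (qmul_lt _ _), ← el_phi_two M hr (Nat.mod_lt _ (by norm_num)), mul_assoc, ← h3,
      ← phi_facts.2.2.2.2 uw huw, el_runE M _ 0, M.el_zero, one_mul, mul_assoc]

end Cfsg.Agent.HSLocal.Coord
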