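import Cfsg.Agent.Lib.HSLocal.Coord.RCodes
import Cfsg.Agent.Lib.HSLocal.Coord.BData

/-!
Fast products of the codes fixing the central involution.
-/

set_option autoImplicit false
set_option maxRecDepth 100000
set_option maxHeartbeats 4000000

namespace Cfsg.Agent.HSLocal.Coord

/-- An entry of a packed table. -/
def tget (t w j : ℕ) : ℕ := Nat.mod (Nat.shiftRight t (Nat.mul w j)) (Nat.pow 2 w)

/-- The number of a class among those fixing the involution. -/
def qpos (q : ℕ) : ℕ := tget BData.pos 5 q

/-- The table of products of classes. -/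
def cocTab : ℕ → ℕ
  | 0 => BData.coc0
  | _ => BData.coc1

/-- The table of inverses of classes. -/
def invTab : ℕ → ℕ
  | 0 => BData.inv0
  | _ => BData.inv1

/-- The sum of vectors, from the table. -/
def addT (u v : ℕ) : ℕ := tget BData.add 6 (u * 64 + v)

/-- The action of a class, from the table. -/
def actB (j v : ℕ) : ℕ := tget BData.act 6 (j * 64 + v)

/-- Joins a vector to a table entry. -/
def joinB (v e : ℕ) : ℕ := e / 64 * 64 + addT v (e % 64)

/-- The product of two codes fixing the involution. -/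
def mulB (c n k : ℕ) : ℕ :=
  joinB (addT (n % 64) (actB (qpos (n / 64)) (k % 64)))
    (tget (cocTab c) 14 (qpos (n / 64) * 24 + qpos (k / 64)))

/-- The inverse of a code fixing the involution. -/
def invB (c n : ℕ) : ℕ := mulB c (tget (invTab c) 14 (qpos (n / 64))) (smulV 3 (n % 64))

/-- A conjugate. -/
def cjB (c g n : ℕ) : ℕ := mulB c (mulB c g n) (invB c g)

/-- A commutator. -/
def commB (c p q : ℕ) : ℕ := mulB c (mulB c (mulB c p q) (invB c p)) (invB c q)

/-- The code fixes the involution, from the table. -/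
def isB (n : ℕ) : Bool := Nat.blt n 10752 && Nat.blt (qpos (n / 64)) 24

theorem qb_len : BData.qb.length = 24 := by decide +kernel

theorem qpos_ok : ((List.range 168).all fun q => (!Nat.blt (qpos q) 24 && !inB (64 * q)) ||
    (inB (64 * q) && Nat.beq (BData.qb.getD (qpos q) 999) q && Nat.blt (qpos q) 24)) = true := by
  decide +kernel

theorem qb_ok : ((List.range 24).all fun j => Nat.blt (BData.qb.getD j 999) 168 &&
    Nat.beq (qpos (BData.qb.getD j 999)) j) = true := by decide +kernel

theorem addT_ok : ((List.range 64).all fun u => (List.range 64).all fun v =>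
    Nat.beq (addT u v) (addV u v)) = true := by decide +kernel

/-- A block of the check of the action table. -/
def actCheck (j : ℕ) : Bool :=
  (List.range 64).all fun v => Nat.beq (actB j v) (actN (64 * BData.qb.getD j 999) v)

theorem act_ok : ((List.range 24).all actCheck) = true := by decide +kernel

/-- A check of one row of products. -/
def cocCheck (c j : ℕ) : Bool :=
  (List.range 24).all fun l =>
    let e := tget (cocTab c) 14 (j * 24 + l)
    Nat.beq e (mulC c (64 * BData.qb.getD j 999) (64 * BData.qb.getD l 999)) && isB e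

theorem coc0_ok : ((List.range 24).all fun j => cocCheck 0 j) = true := by decide +kernel

theorem coc1_ok : ((List.range 24).all fun j => cocCheck 1 j) = true := by decide +kernel

/-- A check of one inverse. -/
def invCheck (c j : ℕ) : Bool :=
  let e := tget (invTab c) 14 j
  Nat.beq e (invC c (64 * BData.qb.getD j 999)) && isB e

theorem inv0_ok : ((List.range 24).all fun j => invCheck 0 j) = true := by decide +kernel

theorem inv1_ok : ((List.range 24).all fun j => invCheck 1 j) = true := by decide +kernel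

theorem isB_iff {n : ℕ} : isB n = true ↔ n < 10752 ∧ qpos (n / 64) < 24 := by
  simp [isB, Nat.blt]

theorem isB_inB {n : ℕ} (h : n < 10752) : isB n = true ↔ inB (64 * (n / 64)) = true := by
  have := List.all_eq_true.1 qpos_ok (n / 64) (List.mem_range.2 (by omega))
  simp only [Bool.or_eq_true, Bool.and_eq_true, Bool.not_eq_true', Nat.beq_eq] at this
  rw [isB_iff]
  rcases this with ⟨h1, h2⟩ | ⟨⟨h1, -⟩, h3⟩
  · simp only [Nat.blt, Nat.ble_eq, Bool.eq_false_iff, ne_eq] at h1
    simp only [h2, Bool.false_eq_true, iff_false]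
    omega
  · simp only [Nat.blt, Nat.ble_eq] at h3
    simp only [h1, iff_true]
    omega

theorem qb_get {n : ℕ} (h : isB n = true) : BData.qb.getD (qpos (n / 64)) 999 = n / 64 := by
  obtain ⟨h1, h2⟩ := isB_iff.1 h
  have := List.all_eq_true.1 qpos_ok (n / 64) (List.mem_range.2 (by omega))
  simp only [Bool.or_eq_true, Bool.and_eq_true, Bool.not_eq_true', Nat.beq_eq] at this
  rcases this with ⟨h3, -⟩ | ⟨⟨-, h4⟩, -⟩
  · simp only [Nat.blt, Nat.ble_eq, Bool.eq_false_iff, ne_eq] at h3; omega
  · exact h4

theorem addT_eq {u v : ℕ} (hu : u < 64) (hv : v < 64) : addT u v = addV u v := by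
  have := List.all_eq_true.1 addT_ok u (List.mem_range.2 hu)
  exact Nat.eq_of_beq_eq_true (List.all_eq_true.1 this v (List.mem_range.2 hv))

theorem tget_lt (t w j : ℕ) : tget t w j < 2 ^ w := Nat.mod_lt _ (Nat.two_pow_pos w)

theorem addT_lt (u v : ℕ) : addT u v < 64 := tget_lt _ _ _

theorem mulB_isB {c n k : ℕ} (hc : c ≤ 1) (hn : isB n = true) (hk : isB k = true) :
    isB (mulB c n k) = true := by
  obtain ⟨h1, h2⟩ := isB_iff.1 hn
  obtain ⟨h3, h4⟩ := isB_iff.1 hk
  have hck : ((List.range 24).all fun j => cocCheck c j) = true := by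
    interval_cases c
    · exact coc0_ok
    · exact coc1_ok
  have hrow := List.all_eq_true.1 (List.all_eq_true.1 hck _ (List.mem_range.2 h2)) _ (List.mem_range.2 h4)
  simp only [Bool.and_eq_true] at hrow
  obtain ⟨e1, e2⟩ := isB_iff.1 hrow.2
  rw [isB_iff, mulB, joinB]
  generalize hA : addT _ _ = w
  have hw : w < 64 := hA ▸ addT_lt _ _
  clear hA
  refine ⟨by omega, ?_⟩
  rwa [show ∀ q, (q / 64 * 64 + w) / 64 = q / 64 from fun q => by omega]

theorem invB_isB {c n : ℕ} (hc : c ≤ 1) (hn : isB n = true) : isB (invB c n) = true := by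
  obtain ⟨h1, h2⟩ := isB_iff.1 hn
  have hck : ((List.range 24).all fun j => invCheck c j) = true := by
    interval_cases c
    · exact inv0_ok
    · exact inv1_ok
  have hrow := List.all_eq_true.1 hck _ (List.mem_range.2 h2)
  simp only [invCheck, Bool.and_eq_true] at hrow
  refine mulB_isB hc hrow.2 ?_
  have : smulV 3 (n % 64) < 64 := by unfold smulV mkV; omega
  rw [isB_inB (by omega), show 64 * (smulV 3 (n % 64) / 64) = 0 by omega]
  decide +kernel

namespace MR

variable {X : Type*} [Group X] {c : ℕ} (M : MR X c)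

theorem el_base (n : ℕ) : M.el n = M.vc (n % 64) * M.el (64 * (n / 64)) := by
  rw [el, el, show cV (64 * (n / 64)) = 0 by unfold cV; omega,
    show cI (64 * (n / 64)) = cI n by unfold cI; omega,
    show cJ (64 * (n / 64)) = cJ n by unfold cJ; omega,
    show cM (64 * (n / 64)) = cM n by unfold cM; omega]
  show _ = M.vc (n % 64) * (M.vc 0 * M.x ^ cI n * M.y ^ cJ n * M.tl (cM n))
  rw [show M.vc 0 = 1 from vec_zero _ _ _, one_mul]
  show M.vc (n % 64) * _ * _ * _ = _
  simp only [mul_assoc]

theorem el_mulB (hc : c ≤ 1) {n k : ℕ} (hn : isB n = true) (hk : isB k = true) :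
    M.el (mulB c n k) = M.el n * M.el k := by
  obtain ⟨h1, h2⟩ := isB_iff.1 hn
  obtain ⟨h3, h4⟩ := isB_iff.1 hk
  have hck : ((List.range 24).all fun j => cocCheck c j) = true := by
    interval_cases c
    · exact coc0_ok
    · exact coc1_ok
  have hrow := List.all_eq_true.1 (List.all_eq_true.1 hck _ (List.mem_range.2 h2)) _ (List.mem_range.2 h4)
  simp only [Bool.and_eq_true, Nat.beq_eq, qb_get hn, qb_get hk] at hrow
  have hact := List.all_eq_true.1 (List.all_eq_true.1 act_ok _ (List.mem_range.2 h2)) (k % 64)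
    (List.mem_range.2 (Nat.mod_lt _ (by norm_num)))
  simp only [Nat.beq_eq, qb_get hn] at hact
  set w := actB (qpos (n / 64)) (k % 64) with hw
  set e := tget (cocTab c) 14 (qpos (n / 64) * 24 + qpos (k / 64)) with he
  have hA := addT_lt (addT (n % 64) w) (e % 64)
  rw [mulB, joinB, ← hw, ← he, el_base,
    show (e / 64 * 64 + addT (addT (n % 64) w) (e % 64)) % 64 = addT (addT (n % 64) w) (e % 64) by omega,
    show (e / 64 * 64 + addT (addT (n % 64) w) (e % 64)) / 64 = e / 64 by omega,
    addT_eq (addT_lt _ _) (Nat.mod_lt _ (by norm_num)), ← mul_vc, mul_assoc, ← el_base,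
    hrow.1, el_mulC, addT_eq (Nat.mod_lt _ (by norm_num)) (tget_lt _ _ _), ← mul_vc, el_base M n,
    el_base M k]
  have hswap : M.el (64 * (n / 64)) * M.vc (k % 64) = M.vc w * M.el (64 * (n / 64)) := by
    rw [el_actN, show cV (64 * (n / 64)) = 0 by unfold cV; omega, hact]
    simp [vc, vec_zero]
  calc M.vc (n % 64) * M.vc w * (M.el (64 * (n / 64)) * M.el (64 * (k / 64)))
      = M.vc (n % 64) * (M.vc w * M.el (64 * (n / 64))) * M.el (64 * (k / 64)) := by simp only [mul_assoc]
    _ = _ := by rw [← hswap]; simp only [mul_assoc]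

theorem el_invB (hc : c ≤ 1) {n : ℕ} (hn : isB n = true) : M.el (invB c n) = (M.el n)⁻¹ := by
  obtain ⟨h1, h2⟩ := isB_iff.1 hn
  have hck : ((List.range 24).all fun j => invCheck c j) = true := by
    interval_cases c
    · exact inv0_ok
    · exact inv1_ok
  have hrow := List.all_eq_true.1 hck _ (List.mem_range.2 h2)
  simp only [invCheck, Bool.and_eq_true, Nat.beq_eq, qb_get hn] at hrow
  have hv : smulV 3 (n % 64) < 64 := by unfold smulV mkV; omega
  have hvB : isB (smulV 3 (n % 64)) = true := by
    rw [isB_inB (by omega), show 64 * (smulV 3 (n % 64) / 64) = 0 by omega]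
    decide +kernel
  rw [invB, el_mulB M hc hrow.2 hvB, hrow.1, el_invC, el_base M n, mul_inv_rev,
    el_lt M _ hv]
  congr 1
  refine (inv_eq_of_mul_eq_one_right ?_).symm
  rw [vc, vc, ← M.abel'.vec_pow, ← pow_succ', M.abel'.vec_pow]
  simp [smulV, mkV, Nat.mul_mod_right, vec_zero]

theorem el_cjB (hc : c ≤ 1) {g n : ℕ} (hg : isB g = true) (hn : isB n = true) :
    M.el (cjB c g n) = M.el g * M.el n * (M.el g)⁻¹ := by
  rw [cjB, M.el_mulB hc (mulB_isB hc hg hn) (invB_isB hc hg), M.el_mulB hc hg hn, M.el_invB hc hg]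

theorem el_commB (hc : c ≤ 1) {p q : ℕ} (hp : isB p = true) (hq : isB q = true) :
    M.el (commB c p q) = M.el p * M.el q * (M.el p)⁻¹ * (M.el q)⁻¹ := by
  rw [commB, M.el_mulB hc (mulB_isB hc (mulB_isB hc hp hq) (invB_isB hc hp)) (invB_isB hc hq),
    M.el_mulB hc (mulB_isB hc hp hq) (invB_isB hc hp), M.el_mulB hc hp hq, M.el_invB hc hp,
    M.el_invB hc hq]

end MR

theorem cjB_isB {c g n : ℕ} (hc : c ≤ 1) (hg : isB g = true) (hn : isB n = true) :
    isB (cjB c g n) = true :=
  mulB_isB hc (mulB_isB hc hg hn) (invB_isB hc hg)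

theorem commB_isB {c p q : ℕ} (hc : c ≤ 1) (hp : isB p = true) (hq : isB q = true) :
    isB (commB c p q) = true :=
  mulB_isB hc (mulB_isB hc (mulB_isB hc hp hq) (invB_isB hc hp)) (invB_isB hc hq)

end Cfsg.Agent.HSLocal.Coord
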