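import Cfsg.Agent.Lib.HSLocal.Coord.Vec

/-!
Normal forms in a group generated by `x, y, s, e` with the relations of the two extensions
`4^3 . L3(2)`: every word equals `a x^i y^j` or `a x^i y^j s x^k`, and the latter code is computable.
-/

set_option autoImplicit false

namespace Cfsg.Agent.HSLocal.Coord

/-- The action of `x` on codes. -/
def actX (v : ℕ) : ℕ := linV 4 16 45 v

/-- The action of `y` on codes. -/
def actY (v : ℕ) : ℕ := linV 1 16 62 v

/-- The action of `s` on codes. -/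
def actS (v : ℕ) : ℕ := linV 3 16 4 v

/-- Repeated action of `x`. -/
def actXn : ℕ → ℕ → ℕ
  | 0, v => v
  | n + 1, v => actX (actXn n v)

/-- Repeated action of `y`. -/
def actYn : ℕ → ℕ → ℕ
  | 0, v => v
  | n + 1, v => actY (actYn n v)

/-- The action of the tail `s x^(m-1)`. -/
def actT : ℕ → ℕ → ℕ
  | 0, v => v
  | k + 1, v => actS (actXn k v)

/-- The vector `f^c`. -/
def vF (c : ℕ) : ℕ := mkV 0 c 0

/-- The four data of `s x^k s = a x^p y^r s x^l`. -/
def flipA (c : ℕ) : ℕ → ℕ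
  | 1 => vF c
  | 2 => actYn 2 (vF c)
  | 3 => actXn 2 (actYn 2 (actS (actXn 2 (smulV 3 (actY (vF c))))))
  | 4 => actY (vF c)
  | 5 => actXn 4 (actY (actS (actXn 4 (smulV 3 (actYn 2 (vF c))))))
  | 6 => actX (actS (actX (smulV 3 (vF c))))
  | _ => 0

/-- The exponents of `s x^k s`. -/
def flipE : ℕ → ℕ × ℕ × ℕ
  | 1 => (6, 0, 6)
  | 2 => (3, 1, 3)
  | 3 => (2, 2, 2)
  | 4 => (5, 2, 5)
  | 5 => (4, 1, 4)
  | 6 => (1, 0, 1)
  | _ => (0, 0, 0)

/-- The code of a normal form. -/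
def pack (v i j m : ℕ) : ℕ := v % 64 + 64 * (i % 7) + 448 * (j % 3) + 1344 * m

/-- The vector part of a code. -/
def cV (n : ℕ) : ℕ := n % 64

/-- The exponent of `x`. -/
def cI (n : ℕ) : ℕ := n / 64 % 7

/-- The exponent of `y`. -/
def cJ (n : ℕ) : ℕ := n / 448 % 3

/-- The tail. -/
def cM (n : ℕ) : ℕ := n / 1344

/-- The exponent `2^j`. -/
def twoPow : ℕ → ℕ
  | 0 => 1
  | 1 => 2
  | _ => 4

/-- Multiplication by `x`. -/
def mulX (n : ℕ) : ℕ :=
  match cM n with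
  | 0 => pack (cV n) (cI n + twoPow (cJ n)) (cJ n) 0
  | k + 1 => pack (cV n) (cI n) (cJ n) ((k + 1) % 7 + 1)

/-- Multiplication by `y`. -/
def mulY (n : ℕ) : ℕ :=
  match cM n with
  | 0 => pack (cV n) (cI n) (cJ n + 1) 0
  | k + 1 => pack (cV n) (cI n) (cJ n + 2) (4 * k % 7 + 1)

/-- Multiplication by `s`. -/
def mulS (c n : ℕ) : ℕ :=
  match cM n with
  | 0 => pack (cV n) (cI n) (cJ n) 1
  | k + 1 =>
    match k % 7 with
    | 0 => pack (cV n) (cI n) (cJ n) 0
    | l + 1 => pack (addV (cV n) (actXn (cI n) (actYn (cJ n) (flipA c (l + 1)))))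
        (cI n + twoPow (cJ n) * (flipE (l + 1)).1) (cJ n + (flipE (l + 1)).2.1) ((flipE (l + 1)).2.2 + 1)

/-- Multiplication by `e`. -/
def mulE (n : ℕ) : ℕ :=
  pack (addV (cV n) (actXn (cI n) (actYn (cJ n) (actT (cM n) 1)))) (cI n) (cJ n) (cM n)

/-- Multiplication by a letter: `0, 1, 2, 3` for `x, y, s, e`. -/
def mulL (c n : ℕ) : ℕ → ℕ
  | 0 => mulX n
  | 1 => mulY n
  | 2 => mulS c n
  | _ => mulE n

/-- The code of a word. -/
def eval (c : ℕ) (w : List ℕ) : ℕ := w.foldl (mulL c) 0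

/-- Generators with the relations. -/
structure MR (X : Type*) [Group X] (c : ℕ) where
  x : X
  y : X
  s : X
  e : X
  x7 : x ^ 7 = 1
  y3 : y ^ 3 = 1
  ss : s * s = 1
  yx : y * x = x ^ 2 * y
  sy : s * y = y ^ 2 * s
  sxs : s * x * s = (x * e * x⁻¹) ^ c * x ^ 6 * s * x ^ 6
  abel : Abel4 e (x * e * x⁻¹) (x * (x * e * x⁻¹) * x⁻¹)
  xh : x * (x * (x * e * x⁻¹) * x⁻¹) =
    vec e (x * e * x⁻¹) (x * (x * e * x⁻¹) * x⁻¹) 45 * x
  ye : y * e = e * y
  yh : y * (x * (x * e * x⁻¹) * x⁻¹) =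
    vec e (x * e * x⁻¹) (x * (x * e * x⁻¹) * x⁻¹) 62 * y
  se : s * e = e ^ 3 * s
  sf : s * (x * e * x⁻¹) = x * (x * e * x⁻¹) * x⁻¹ * s

namespace MR

variable {X : Type*} [Group X] {c : ℕ} (M : MR X c)

/-- The element `f`. -/
def f : X := M.x * M.e * M.x⁻¹

/-- The element `h`. -/
def h : X := M.x * M.f * M.x⁻¹

/-- The element of a vector code. -/
def vc (v : ℕ) : X := vec M.e M.f M.h v

theorem abel' : Abel4 M.e M.f M.h := M.abel

theorem mul_vc (u v : ℕ) : M.vc u * M.vc v = M.vc (addV u v) := M.abel'.mul_vec u v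

theorem vc_one : M.vc 1 = M.e := by simp [vc, vec]

theorem vc_four : M.vc 4 = M.f := by simp [vc, vec]

theorem vc_sixteen : M.vc 16 = M.h := by simp [vc, vec]

theorem vc_three : M.vc 3 = M.e ^ 3 := by simp [vc, vec]

theorem vc_vF : M.vc (vF c) = M.f ^ c := by
  rw [vc, vF, vec_mkV M.abel'.e4 M.abel'.f4 M.abel'.h4, pow_zero, pow_zero, one_mul, mul_one]

theorem vc_mod (v : ℕ) : M.vc (v % 64) = M.vc v := by
  unfold vc vec
  rw [show v % 64 % 4 = v % 4 by omega, show v % 64 / 4 % 4 = v / 4 % 4 by omega,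
    show v % 64 / 16 % 4 = v / 16 % 4 by omega]

theorem x_vc (v : ℕ) : M.x * M.vc v = M.vc (actX v) * M.x := by
  refine M.abel'.conj_vec M.x 4 16 45 ?_ ?_ M.xh v
  · show M.x * M.e = M.vc 4 * M.x
    rw [vc_four, f, inv_mul_cancel_right]
  · show M.x * M.f = M.vc 16 * M.x
    rw [vc_sixteen, h, inv_mul_cancel_right]

theorem y_f : M.y * M.f = M.h * M.y := by
  have h1 : M.x ^ 2 * M.e = M.h * M.x ^ 2 := by
    rw [h, f, pow_two]
    group
  have h2 : M.y * M.f = M.x ^ 2 * (M.y * M.e) * M.x⁻¹ := by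
    rw [f, ← mul_assoc, ← mul_assoc, M.yx, mul_assoc (M.x ^ 2) M.y M.e]
  rw [h2, M.ye, ← mul_assoc, h1, mul_assoc M.h, ← M.yx]
  group

theorem y_vc (v : ℕ) : M.y * M.vc v = M.vc (actY v) * M.y := by
  refine M.abel'.conj_vec M.y 1 16 62 ?_ ?_ M.yh v
  · show M.y * M.e = M.vc 1 * M.y
    rw [vc_one, M.ye]
  · show M.y * M.f = M.vc 16 * M.y
    rw [vc_sixteen, y_f]

theorem s_vc (v : ℕ) : M.s * M.vc v = M.vc (actS v) * M.s := by
  refine M.abel'.conj_vec M.s 3 16 4 ?_ ?_ ?_ v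
  · show M.s * M.e = M.vc 3 * M.s
    rw [vc_three, M.se]
  · show M.s * M.f = M.vc 16 * M.s
    rw [vc_sixteen]
    exact M.sf
  · show M.s * M.h = M.vc 4 * M.s
    rw [vc_four]
    have h1 : M.s * M.f = M.h * M.s := M.sf
    have h2 : M.h = M.s * M.f * M.s⁻¹ := by rw [h1, mul_inv_cancel_right]
    have h3 : M.s⁻¹ = M.s := inv_eq_of_mul_eq_one_right M.ss
    rw [h2, h3, mul_assoc M.s M.f M.s, ← mul_assoc M.s M.s, M.ss, one_mul]

theorem xn_vc (n v : ℕ) : M.x ^ n * M.vc v = M.vc (actXn n v) * M.x ^ n := by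
  induction n with
  | zero => simp [actXn]
  | succ n ih => rw [pow_succ', mul_assoc, ih, ← mul_assoc, x_vc, mul_assoc]; rfl

theorem yn_vc (n v : ℕ) : M.y ^ n * M.vc v = M.vc (actYn n v) * M.y ^ n := by
  induction n with
  | zero => simp [actYn]
  | succ n ih => rw [pow_succ', mul_assoc, ih, ← mul_assoc, y_vc, mul_assoc]; rfl

/-- The tail. -/
def tl : ℕ → X
  | 0 => 1
  | k + 1 => M.s * M.x ^ k

theorem tl_vc (m v : ℕ) : M.tl m * M.vc v = M.vc (actT m v) * M.tl m := by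
  rcases m with _ | k
  · simp [tl, actT]
  · rw [tl, mul_assoc, xn_vc, ← mul_assoc, s_vc, mul_assoc]
    rfl

theorem xmod (n : ℕ) : M.x ^ (n % 7) = M.x ^ n := (pow_eq_pow_mod n M.x7).symm

theorem ymod (n : ℕ) : M.y ^ (n % 3) = M.y ^ n := (pow_eq_pow_mod n M.y3).symm

theorem twoPow_mod (j : ℕ) (hj : j < 3) : twoPow j = 2 ^ j := by
  interval_cases j <;> rfl

theorem y_x_pow (n : ℕ) : M.y * M.x ^ n = M.x ^ (2 * n) * M.y := by
  induction n with
  | zero => simp
  | succ n ih =>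
    calc M.y * M.x ^ (n + 1) = M.y * M.x ^ n * M.x := by rw [pow_succ, mul_assoc]
      _ = M.x ^ (2 * n) * (M.y * M.x) := by rw [ih, mul_assoc]
      _ = _ := by rw [M.yx, ← mul_assoc, ← pow_add]; ring_nf

theorem yn_x_pow (j n : ℕ) : M.y ^ j * M.x ^ n = M.x ^ (2 ^ j * n) * M.y ^ j := by
  induction j with
  | zero => simp
  | succ j ih =>
    rw [pow_succ', mul_assoc, ih, ← mul_assoc, y_x_pow, mul_assoc]
    ring_nf

theorem x_pow_y (n : ℕ) : M.x ^ n * M.y = M.y * M.x ^ (4 * n) := by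
  rw [y_x_pow, ← xmod M (2 * (4 * n)), ← xmod M n]
  congr 2
  omega

theorem s_y_pow (n : ℕ) : M.s * M.y ^ n = M.y ^ (2 * n) * M.s := by
  induction n with
  | zero => simp
  | succ n ih =>
    calc M.s * M.y ^ (n + 1) = M.s * M.y ^ n * M.y := by rw [pow_succ, mul_assoc]
      _ = M.y ^ (2 * n) * (M.s * M.y) := by rw [ih, mul_assoc]
      _ = _ := by rw [M.sy, ← mul_assoc, ← pow_add]; ring_nf

/-- The value of a flip. -/
def flipVal (k : ℕ) : X :=
  M.vc (flipA c k) * M.x ^ (flipE k).1 * M.y ^ (flipE k).2.1 * M.s * M.x ^ (flipE k).2.2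

theorem flip_one : M.s * M.x ^ 1 * M.s = M.flipVal 1 := by
  show _ = M.vc (vF c) * M.x ^ 6 * M.y ^ 0 * M.s * M.x ^ 6
  rw [vc_vF, pow_one, pow_zero, mul_one]
  exact M.sxs

theorem flip_double {k : ℕ} {a p r l : ℕ}
    (hk : M.s * M.x ^ k * M.s = M.vc a * M.x ^ p * M.y ^ r * M.s * M.x ^ l) :
    M.s * M.x ^ (2 * k % 7) * M.s =
      M.vc (actYn 2 a) * M.x ^ (4 * p % 7) * M.y ^ ((r + 1) % 3) * M.s * M.x ^ (4 * l % 7) := by
  have h1 : M.s * M.x ^ (2 * k) * M.s = M.y ^ 2 * (M.s * M.x ^ k * M.s) * M.y := by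
    calc M.s * M.x ^ (2 * k) * M.s = M.s * (M.x ^ (2 * k) * M.y ^ 3) * M.s := by rw [M.y3, mul_one]
      _ = M.s * (M.x ^ (2 * k) * M.y * M.y ^ 2) * M.s := by rw [mul_assoc _ M.y, ← pow_succ']
      _ = M.s * (M.y * M.x ^ k * M.y ^ 2) * M.s := by rw [← y_x_pow]
      _ = (M.s * M.y) * M.x ^ k * (M.y ^ 2 * M.s) := by simp only [mul_assoc]
      _ = (M.y ^ 2 * M.s) * M.x ^ k * (M.s * M.y) := by rw [← M.sy]
      _ = _ := by simp only [mul_assoc]
  rw [xmod, h1, hk]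
  calc M.y ^ 2 * (M.vc a * M.x ^ p * M.y ^ r * M.s * M.x ^ l) * M.y
      = (M.y ^ 2 * M.vc a) * M.x ^ p * M.y ^ r * M.s * (M.x ^ l * M.y) := by simp only [mul_assoc]
    _ = M.vc (actYn 2 a) * (M.y ^ 2 * M.x ^ p) * M.y ^ r * (M.s * M.y) * M.x ^ (4 * l) := by
      rw [yn_vc, x_pow_y]; simp only [mul_assoc]
    _ = M.vc (actYn 2 a) * M.x ^ (4 * p) * (M.y ^ 2 * M.y ^ r * M.y ^ 2) * M.s * M.x ^ (4 * l) := by
      rw [yn_x_pow, M.sy]; simp only [mul_assoc]; norm_num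
    _ = _ := by
      rw [xmod, xmod, ← pow_add, ← pow_add, ← ymod M (2 + r + 2), ← ymod M ((r + 1) % 3)]
      congr 4
      omega

theorem flip_neg {k : ℕ} {a p r l : ℕ} (hk7 : k ≤ 7) (hp : p ≤ 7) (hl : l ≤ 7)
    (hk : M.s * M.x ^ k * M.s = M.vc a * M.x ^ p * M.y ^ r * M.s * M.x ^ l) :
    M.s * M.x ^ (7 - k) * M.s =
      M.vc (actXn (7 - l) (actYn r (actS (actXn (7 - p) (smulV 3 a))))) * M.x ^ (7 - l) * M.y ^ r *
        M.s * M.x ^ (7 - p) := by
  have hx : ∀ n, n ≤ 7 → (M.x ^ n)⁻¹ = M.x ^ (7 - n) := fun n hn =>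
    inv_eq_of_mul_eq_one_right (by rw [← pow_add, show n + (7 - n) = 7 by omega, M.x7])
  have hs : M.s⁻¹ = M.s := inv_eq_of_mul_eq_one_right M.ss
  have ha : (M.vc a)⁻¹ = M.vc (smulV 3 a) := by
    refine inv_eq_of_mul_eq_one_right ?_
    rw [vc, vc, ← M.abel'.vec_pow, ← pow_succ', M.abel'.vec_pow]
    have : smulV 4 a = 0 := by simp [smulV, mkV, Nat.mul_mod_right]
    rw [show 3 + 1 = 4 from rfl, this, vec_zero]
  have hsy : M.s * (M.y ^ r)⁻¹ = M.y ^ r * M.s := by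
    rw [eq_comm, eq_mul_inv_iff_mul_eq, mul_assoc, s_y_pow, ← mul_assoc, ← pow_add,
      show r + 2 * r = 3 * r by ring, pow_mul, M.y3, one_pow, one_mul]
  calc M.s * M.x ^ (7 - k) * M.s = (M.s * M.x ^ k * M.s)⁻¹ := by
        rw [mul_inv_rev, mul_inv_rev, hs, hx k hk7, mul_assoc]
    _ = M.x ^ (7 - l) * (M.s * (M.y ^ r)⁻¹) * M.x ^ (7 - p) * M.vc (smulV 3 a) := by
        rw [hk]; simp only [mul_inv_rev, hs, hx l hl, hx p hp, ha, mul_assoc]
    _ = M.x ^ (7 - l) * M.y ^ r * M.s * (M.x ^ (7 - p) * M.vc (smulV 3 a)) := by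
        rw [hsy]; simp only [mul_assoc]
    _ = _ := by
        rw [xn_vc]
        calc M.x ^ (7 - l) * M.y ^ r * M.s * (M.vc (actXn (7 - p) (smulV 3 a)) * M.x ^ (7 - p))
            = M.x ^ (7 - l) * (M.y ^ r * (M.s * M.vc (actXn (7 - p) (smulV 3 a)))) * M.x ^ (7 - p) := by
              simp only [mul_assoc]
          _ = _ := by
              rw [s_vc, ← mul_assoc (M.y ^ r), yn_vc, mul_assoc (M.vc _) _ M.s, ← mul_assoc (M.x ^ _), xn_vc]
              simp only [mul_assoc]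

theorem flip_two : M.s * M.x ^ 2 * M.s = M.flipVal 2 :=
  M.flip_double M.flip_one

theorem flip_four : M.s * M.x ^ 4 * M.s = M.flipVal 4 := by
  have := M.flip_double M.flip_two
  have e : actYn 2 (actYn 2 (vF c)) = actY (vF c) := by
    have : ∀ v < 64, actYn 2 (actYn 2 v) = actY v := by decide +kernel
    exact this _ (by unfold vF mkV; omega)
  show _ = M.vc (actY (vF c)) * M.x ^ 5 * M.y ^ 2 * M.s * M.x ^ 5
  rw [← e]
  exact this

theorem flip {k : ℕ} (h0 : 1 ≤ k) (h6 : k ≤ 6) : M.s * M.x ^ k * M.s = M.flipVal k := by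
  have h1 := M.flip_one
  have h2 := M.flip_two
  have h4 := M.flip_four
  interval_cases k
  · exact h1
  · exact h2
  · simp only [flipVal, flipA, flipE] at h4 ⊢
    exact M.flip_neg (by norm_num) (by norm_num) (by norm_num) h4
  · exact h4
  · simp only [flipVal, flipA, flipE] at h2 ⊢
    exact M.flip_neg (by norm_num) (by norm_num) (by norm_num) h2
  · simp only [flipVal, flipA, flipE] at h1 ⊢
    exact M.flip_neg (by norm_num) (by norm_num) (by norm_num) h1

/-- The element of a code. -/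
def el (n : ℕ) : X := M.vc (cV n) * M.x ^ cI n * M.y ^ cJ n * M.tl (cM n)

theorem el_pack (v i j m : ℕ) : M.el (pack v i j m) = M.vc v * M.x ^ i * M.y ^ j * M.tl m := by
  have h1 : cV (pack v i j m) = v % 64 := by unfold cV pack; omega
  have h2 : cI (pack v i j m) = i % 7 := by unfold cI pack; omega
  have h3 : cJ (pack v i j m) = j % 3 := by unfold cJ pack; omega
  have h4 : cM (pack v i j m) = m := by unfold cM pack; omega
  rw [el, h1, h2, h3, h4, vc_mod, xmod, ymod]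

/-- The letter. -/
def gen : ℕ → X
  | 0 => M.x
  | 1 => M.y
  | 2 => M.s
  | _ => M.e

theorem el_mulX (n : ℕ) : M.el (mulX n) = M.el n * M.x := by
  unfold mulX
  rcases hm : cM n with _ | k
  · rw [el_pack, el, hm]
    simp only [tl, mul_one]
    have := M.yn_x_pow (cJ n) 1
    rw [pow_one, mul_one, ← twoPow_mod (cJ n) (Nat.mod_lt _ (by norm_num))] at this
    rw [mul_assoc _ (M.y ^ cJ n) M.x, this, pow_add]
    simp only [mul_assoc]
  · rw [el_pack, el, hm]
    simp only [tl, xmod, pow_succ, mul_assoc]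

theorem el_mulY (n : ℕ) : M.el (mulY n) = M.el n * M.y := by
  unfold mulY
  rcases hm : cM n with _ | k
  · rw [el_pack, el, hm]
    simp only [tl, mul_one, pow_succ, mul_assoc]
  · rw [el_pack, el, hm]
    simp only [tl, xmod]
    have : M.s * M.x ^ k * M.y = M.y ^ 2 * (M.s * M.x ^ (4 * k)) := by
      rw [mul_assoc, x_pow_y, ← mul_assoc, M.sy, mul_assoc]
    calc M.vc (cV n) * M.x ^ cI n * M.y ^ (cJ n + 2) * (M.s * M.x ^ (4 * k))
        = M.vc (cV n) * M.x ^ cI n * M.y ^ cJ n * (M.y ^ 2 * (M.s * M.x ^ (4 * k))) := by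
          rw [pow_add]; simp only [mul_assoc]
      _ = _ := by rw [← this]; simp only [mul_assoc]

theorem el_mulE (n : ℕ) : M.el (mulE n) = M.el n * M.e := by
  rw [mulE, el_pack, ← mul_vc, el, mul_assoc _ (M.tl (cM n)) M.e, ← vc_one, tl_vc,
    mul_assoc _ (M.y ^ cJ n) (_ * _), ← mul_assoc (M.y ^ cJ n) (M.vc _), yn_vc,
    mul_assoc (M.vc (cV n)) (M.x ^ cI n) (_ * _ * _), ← mul_assoc (M.x ^ cI n) (_ * _),
    ← mul_assoc (M.x ^ cI n) (M.vc _), xn_vc]
  simp only [mul_assoc]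

theorem el_mulS (n : ℕ) : M.el (mulS c n) = M.el n * M.s := by
  unfold mulS
  rcases hm : cM n with _ | k
  · rw [el_pack, el, hm]
    simp only [tl, mul_one, pow_zero]
  · simp only []
    have hred : M.el n * M.s = M.vc (cV n) * M.x ^ cI n * M.y ^ cJ n * (M.s * M.x ^ (k % 7) * M.s) := by
      rw [el, hm, tl, xmod]; simp only [mul_assoc]
    rcases hk : k % 7 with _ | l
    · rw [el_pack, hred, hk, pow_zero, mul_one, M.ss, mul_one]
      simp [tl]
    · rw [el_pack, hred, hk, M.flip (by omega) (by omega), ← mul_vc, flipVal]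
      simp only [tl]
      rw [twoPow_mod (cJ n) (Nat.mod_lt _ (by norm_num))]
      set a := flipA c (l + 1)
      set p := (flipE (l + 1)).1
      set r := (flipE (l + 1)).2.1
      set q := (flipE (l + 1)).2.2
      symm
      calc M.vc (cV n) * M.x ^ cI n * M.y ^ cJ n * (M.vc a * M.x ^ p * M.y ^ r * M.s * M.x ^ q)
          = M.vc (cV n) * (M.x ^ cI n * (M.y ^ cJ n * M.vc a)) * M.x ^ p * M.y ^ r * (M.s * M.x ^ q) := by
            simp only [mul_assoc]
        _ = M.vc (cV n) * (M.x ^ cI n * M.vc (actYn (cJ n) a)) * (M.y ^ cJ n * M.x ^ p) * M.y ^ r *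
              (M.s * M.x ^ q) := by
            rw [yn_vc]; simp only [mul_assoc]
        _ = _ := by
            rw [xn_vc, yn_x_pow, pow_add, pow_add]; simp only [mul_assoc]

theorem el_mulL (n k : ℕ) : M.el (mulL c n k) = M.el n * M.gen k := by
  match k with
  | 0 => exact M.el_mulX n
  | 1 => exact M.el_mulY n
  | 2 => exact M.el_mulS n
  | _ + 3 => exact M.el_mulE n

/-- The value of a word. -/
def val (w : List ℕ) : X := (w.map M.gen).prod

theorem el_zero : M.el 0 = 1 := by simp [el, cV, cI, cJ, cM, vc, vec_zero, tl]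

theorem el_eval (w : List ℕ) : M.el (eval c w) = M.val w := by
  have key : ∀ (w : List ℕ) (n : ℕ), M.el (w.foldl (mulL c) n) = M.el n * M.val w := by
    intro w
    induction w with
    | nil => intro n; simp [val]
    | cons a w ih =>
      intro n
      rw [List.foldl_cons, ih, el_mulL, val, val, List.map_cons, List.prod_cons, mul_assoc]
  rw [eval, key, el_zero, one_mul]

theorem val_append (u w : List ℕ) : M.val (u ++ w) = M.val u * M.val w := by simp [val]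

theorem val_eq {u w : List ℕ} (h : eval c u = eval c w) : M.val u = M.val w := by
  rw [← el_eval, h, el_eval]

theorem val_eq_one {u : List ℕ} (h : eval c u = 0) : M.val u = 1 := by
  rw [← el_eval, h, el_zero]

end MR

end Cfsg.Agent.HSLocal.Coord
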