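import Cfsg.Agent.Lib.HSLocal.Coord.ShapeDec
import Cfsg.Agent.Lib.Classical.Linear

/-!
The part of a group `4^3 . L3(2)` needed for coordinates: a Frobenius complement of order 21 and a
basis of the normal subgroup adapted to it.
-/

set_option autoImplicit false
set_option linter.unusedSectionVars false
set_option linter.style.haveILetI false

namespace Cfsg.Agent.HSLocal.Coord.Shape

universe u

variable {K : Type u} [Group K] [Finite K]

/-- An abelian normal subgroup of type `4^3` with faithful action on its involutions, and one of these. -/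
structure Base (A : Subgroup K) (t : K) : Prop where
  normal : A.Normal
  comm : ∀ a ∈ A, ∀ b ∈ A, a * b = b * a
  pow4 : ∀ a ∈ A, a ^ 4 = 1
  card : Nat.card A = 64
  two_card : Nat.card {v : A // (v : K) ^ 2 = 1} = 8
  root : ∀ a ∈ A, a ^ 2 = 1 → ∃ b ∈ A, b ^ 2 = a
  cent : ∀ k : K, (∀ v ∈ A, v ^ 2 = 1 → k * v = v * k) → k ∈ A
  tA : t ∈ A
  t2 : t ^ 2 = 1
  t1 : t ≠ 1
  index : Nat.card (K ⧸ A) = 168
  frob : ∃ u w : K, u ^ 7 ∈ A ∧ u ∉ A ∧ w ^ 3 ∈ A ∧ w * u * w⁻¹ * (u ^ 2)⁻¹ ∈ A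

open Matrix in
theorem isSimpleGroup_gl : IsSimpleGroup (GL (Fin 3) (ZMod 2)) := by
  haveI : Subsingleton (ZMod 2)ˣ := Finite.card_le_one_iff_subsingleton.1 (by
    rw [Classical.Linear.natCard_units_eq, ZMod.card])
  have hs : Function.Surjective
      (SpecialLinearGroup.toGL : SpecialLinearGroup (Fin 3) (ZMod 2) →* GL (Fin 3) (ZMod 2)) := by
    rw [← MonoidHom.range_eq_top, Classical.Linear.range_toGL_eq_ker_det, eq_top_iff]
    intro g _
    exact Subsingleton.elim _ _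
  have hz : Subgroup.center (SpecialLinearGroup (Fin 3) (ZMod 2)) = ⊥ :=
    Subgroup.eq_bot_of_card_eq _ (by rw [Classical.Linear.natCard_center_SL, ZMod.card]; simp)
  have e : GL (Fin 3) (ZMod 2) ≃* ProjectiveSpecialLinearGroup (Fin 3) (ZMod 2) :=
    (MulEquiv.ofBijective _ ⟨SpecialLinearGroup.toGL_injective, hs⟩).symm.trans
      (QuotientGroup.quotientBot.symm.trans (QuotientGroup.quotientMulEquivOfEq hz.symm))
  haveI : IsSimpleGroup (ProjectiveSpecialLinearGroup (Fin 3) (ZMod 2)) :=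
    Classical.Linear.isSimpleGroup_PSL (by rw [Fintype.card_fin])
  exact e.isSimpleGroup

/-- A Frobenius group of order 21 in `L3(2)`. -/
theorem exists_frob_gl : ∃ X Y : GL (Fin 3) (ZMod 2), X ^ 7 = 1 ∧ X ≠ 1 ∧ Y ^ 3 = 1 ∧
    Y * X * Y⁻¹ * (X ^ 2)⁻¹ = 1 := by
  refine ⟨⟨!![0, 0, 1; 1, 0, 1; 0, 1, 0], !![1, 1, 0; 0, 0, 1; 1, 0, 0], by decide +kernel, by decide +kernel⟩,
    ⟨!![1, 0, 0; 0, 0, 1; 0, 1, 1], !![1, 0, 0; 0, 1, 1; 0, 1, 0], by decide +kernel, by decide +kernel⟩,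
    ?_, ?_, ?_, ?_⟩ <;> decide +kernel

theorem card_gl : Nat.card (GL (Fin 3) (ZMod 2)) = 168 := by
  rw [Matrix.card_GL_field]
  simp [Fin.prod_univ_three]

/-- A group extending `4^3` by `L3(2)` in which some involution of the normal subgroup is not central
is of the required shape. -/
theorem Base.mk' (A : Subgroup K) [A.Normal] (eA : A ≃* Multiplicative (ZMod 4 × ZMod 4 × ZMod 4))
    (eQ : K ⧸ A ≃* GL (Fin 3) (ZMod 2)) {t : K} (htA : t ∈ A) (ht2 : t ^ 2 = 1)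
    (hnc : ∃ k, k * t ≠ t * k) : Base A t := by
  have hval : ∀ (a : A) (n : ℕ), (a : K) ^ n = 1 ↔ eA a ^ n = 1 := fun a n => by
    rw [← map_pow, map_eq_one_iff eA eA.injective]
    exact ⟨fun h => Subtype.ext (by simpa using h), fun h => by simpa using congrArg Subtype.val h⟩
  have comm : ∀ a ∈ A, ∀ b ∈ A, a * b = b * a := fun a ha b hb =>
    congrArg Subtype.val (eA.injective (show eA (⟨a, ha⟩ * ⟨b, hb⟩) = eA (⟨b, hb⟩ * ⟨a, ha⟩) by
      rw [map_mul, map_mul, mul_comm]))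
  refine ⟨‹_›, comm, fun a ha => (hval ⟨a, ha⟩ 4).2 ?_, ?_, ?_, ?_, ?_, htA, ht2, ?_, ?_, ?_⟩
  · generalize eA ⟨a, ha⟩ = m
    have key : ∀ v : ZMod 4 × ZMod 4 × ZMod 4, 4 • v = 0 := by decide
    exact congrArg Multiplicative.ofAdd (key m.toAdd)
  · rw [Nat.card_congr eA.toEquiv, Nat.card_eq_fintype_card]
    simp
  · rw [Nat.card_congr (eA.toEquiv.subtypeEquiv (p := fun v : A => (v : K) ^ 2 = 1)
      (q := fun m => m ^ 2 = 1) fun a => hval a 2), Nat.card_eq_fintype_card]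
    decide +kernel
  · intro a ha h2
    have key : ∀ v : ZMod 4 × ZMod 4 × ZMod 4, 2 • v = 0 → ∃ w : ZMod 4 × ZMod 4 × ZMod 4, 2 • w = v := by
      decide +kernel
    obtain ⟨w, hw⟩ := key (eA ⟨a, ha⟩).toAdd (congrArg Multiplicative.toAdd ((hval ⟨a, ha⟩ 2).1 h2))
    refine ⟨eA.symm (Multiplicative.ofAdd w), SetLike.coe_mem _, ?_⟩
    have h1 : eA.symm (Multiplicative.ofAdd w) ^ 2 = (⟨a, ha⟩ : A) := by
      rw [← map_pow, ← ofAdd_nsmul, hw, ofAdd_toAdd, MulEquiv.symm_apply_apply]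
    exact congrArg Subtype.val h1
  · intro k hk
    let W : Set K := {v | v ∈ A ∧ v ^ 2 = 1}
    let C := Subgroup.centralizer W
    have hC : ∀ g, g ∈ C ↔ ∀ v ∈ A, v ^ 2 = 1 → g * v = v * g := fun g =>
      ⟨fun h v hv h2 => (Subgroup.mem_centralizer_iff.1 h v ⟨hv, h2⟩).symm,
        fun h => Subgroup.mem_centralizer_iff.2 fun v hv => (h v hv.1 hv.2).symm⟩
    haveI : C.Normal := ⟨fun c hc g => (hC _).2 fun v hv h2 => by
      have h3 := (hC c).1 hc (g⁻¹ * v * g) (by simpa using ‹A.Normal›.conj_mem v hv g⁻¹) (by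
        rw [show g⁻¹ * v * g = g⁻¹ * v * g⁻¹⁻¹ by group, conj_pow, h2]; group)
      calc g * c * g⁻¹ * v = g * (c * (g⁻¹ * v * g)) * g⁻¹ := by group
        _ = g * ((g⁻¹ * v * g) * c) * g⁻¹ := by rw [h3]
        _ = _ := by group⟩
    haveI : IsSimpleGroup (K ⧸ A) := by
      haveI := isSimpleGroup_gl
      exact eQ.isSimpleGroup
    have hAC : A ≤ C := fun a ha => (hC a).2 fun v hv _ => comm a ha v hv
    rcases (Subgroup.Normal.map (H := C) inferInstance (QuotientGroup.mk' A)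
      (QuotientGroup.mk'_surjective A)).eq_bot_or_eq_top with h | h
    · exact (QuotientGroup.eq_one_iff k).1 ((Subgroup.map_eq_bot_iff _).1 h ((hC k).2 hk))
    · exfalso
      obtain ⟨g, hg⟩ := hnc
      obtain ⟨c, hc, hce⟩ := (h ▸ Subgroup.mem_top (QuotientGroup.mk' A g) :
        QuotientGroup.mk' A g ∈ C.map (QuotientGroup.mk' A))
      have : g ∈ C := by
        have h1 : c⁻¹ * g ∈ A := QuotientGroup.eq.1 hce
        simpa using mul_mem hc (hAC h1)
      exact hg ((hC g).1 this t htA ht2)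
  · rintro rfl
    obtain ⟨g, hg⟩ := hnc
    simp at hg
  · rw [Nat.card_congr eQ.toEquiv, card_gl]
  · obtain ⟨X, Y, hX, hX1, hY, hYX⟩ := exists_frob_gl
    obtain ⟨u, hu⟩ := QuotientGroup.mk'_surjective A (eQ.symm X)
    obtain ⟨w, hw⟩ := QuotientGroup.mk'_surjective A (eQ.symm Y)
    refine ⟨u, w, (QuotientGroup.eq_one_iff _).1 ?_, fun h => hX1 ?_, (QuotientGroup.eq_one_iff _).1 ?_,
      (QuotientGroup.eq_one_iff _).1 ?_⟩
    · show QuotientGroup.mk' A (u ^ 7) = 1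
      rw [map_pow, hu, ← map_pow, hX, map_one]
    · exact (map_eq_one_iff eQ.symm eQ.symm.injective).1 (hu ▸ (QuotientGroup.eq_one_iff u).2 h)
    · show QuotientGroup.mk' A (w ^ 3) = 1
      rw [map_pow, hw, ← map_pow, hY, map_one]
    · show QuotientGroup.mk' A (w * u * w⁻¹ * (u ^ 2)⁻¹) = 1
      rw [map_mul, map_mul, map_mul, map_inv, map_inv, map_pow, hu, hw, ← map_pow, ← map_inv, ← map_inv,
        ← map_mul, ← map_mul, ← map_mul, hYX, map_one]

namespace Base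

variable {A : Subgroup K} {t : K} (B : Base A t)
include B

theorem conj_mem {a : K} (ha : a ∈ A) (g : K) : g * a * g⁻¹ ∈ A := B.normal.conj_mem a ha g

/-- The number of involutions of `A` (and `1`) fixed by an element of prime order is right modulo the prime. -/
theorem fixed_card {p : ℕ} [Fact p.Prime] {k : K} (hk : k ^ p = 1) :
    Nat.card {v : A // (v : K) ^ 2 = 1 ∧ k * v = v * k} % p = 8 % p := by
  classical
  haveI := Fintype.ofFinite {v : A // (v : K) ^ 2 = 1}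
  let φ : Equiv.Perm {v : A // (v : K) ^ 2 = 1} :=
    { toFun := fun v => ⟨⟨k * v.1 * k⁻¹, B.conj_mem v.1.2 k⟩, by
        show (k * (v.1 : K) * k⁻¹) ^ 2 = 1
        rw [conj_pow, v.2, mul_one, mul_inv_cancel]⟩
      invFun := fun v => ⟨⟨k⁻¹ * v.1 * k, by simpa using B.conj_mem v.1.2 k⁻¹⟩, by
        show (k⁻¹ * (v.1 : K) * k) ^ 2 = 1
        rw [show k⁻¹ * (v.1 : K) * k = k⁻¹ * (v.1 : K) * k⁻¹⁻¹ by group, conj_pow, v.2]
        group⟩
      left_inv := fun v => Subtype.ext (Subtype.ext (show k⁻¹ * (k * (v.1 : K) * k⁻¹) * k = v.1 by group))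
      right_inv := fun v => Subtype.ext (Subtype.ext (show k * (k⁻¹ * (v.1 : K) * k) * k⁻¹ = v.1 by group)) }
  have happ : ∀ (n : ℕ) (v), (((φ ^ n) v).1 : K) = k ^ n * v.1 * (k ^ n)⁻¹ := by
    intro n
    induction n with
    | zero => intro v; simp
    | succ n ih =>
      intro v
      rw [pow_succ', Equiv.Perm.mul_apply]
      show k * (((φ ^ n) v).1 : K) * k⁻¹ = _
      rw [ih, pow_succ']
      group
  have hφ : φ ^ p ^ 1 = 1 := by
    rw [pow_one]
    ext v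
    rw [happ, hk]
    simp
  have h1 := Equiv.Perm.card_compl_support_modEq hφ
  rw [show Fintype.card {v : A // (v : K) ^ 2 = 1} = 8 by rw [← Nat.card_eq_fintype_card, B.two_card]] at h1
  rw [← h1]
  congr 1
  rw [← Nat.card_eq_finsetCard]
  refine Nat.card_congr ((Equiv.subtypeSubtypeEquivSubtypeInter _ _).symm.trans
    (Equiv.subtypeEquivRight fun v => ?_))
  rw [Finset.mem_compl, Equiv.Perm.notMem_support]
  constructor
  · intro h
    refine Subtype.ext (Subtype.ext ?_)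
    show k * (v.1 : K) * k⁻¹ = v.1
    rw [h, mul_inv_cancel_right]
  · intro h
    have h2 : k * (v.1 : K) * k⁻¹ = v.1 := congrArg (fun w => (w.1 : K)) h
    exact mul_inv_eq_iff_eq_mul.1 h2

theorem fixedFree {x : K} (hx : x ^ 7 = 1) (hxA : x ∉ A) : ∀ a ∈ A, x * a = a * x → a = 1 := by
  classical
  haveI : Fact (Nat.Prime 7) := ⟨by norm_num⟩
  have hsm : ∀ v ∈ A, v ^ 2 = 1 → x * v = v * x → v = 1 := by
    intro v hv h2 hc
    by_contra hne
    let ι : {w : A // (w : K) ^ 2 = 1 ∧ x * w = w * x} → {w : A // (w : K) ^ 2 = 1} := fun w => ⟨w.1, w.2.1⟩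
    have hinj : Function.Injective ι := fun a b h => Subtype.ext (Subtype.mk.inj h)
    have hle := Nat.card_le_card_of_injective ι hinj
    rw [B.two_card] at hle
    have hgt : 1 < Nat.card {w : A // (w : K) ^ 2 = 1 ∧ x * w = w * x} :=
      (Finite.one_lt_card_iff_nontrivial).2
        ⟨⟨⟨1, one_mem A⟩, by simp⟩, ⟨⟨v, hv⟩, h2, hc⟩, fun e => hne
          (congrArg (fun z => (z.1 : K)) e).symm⟩
    have hmod := B.fixed_card (p := 7) hx
    have h8 : Nat.card {w : A // (w : K) ^ 2 = 1 ∧ x * w = w * x} = 8 := by omega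
    have hsur := (Nat.bijective_iff_injective_and_card ι).2 ⟨hinj, by rw [h8, B.two_card]⟩
    refine hxA (B.cent x fun w hw hw2 => ?_)
    obtain ⟨w', hw'⟩ := hsur.2 ⟨⟨w, hw⟩, hw2⟩
    have := w'.2.2
    rwa [show (w'.1 : K) = w from congrArg (fun z => (z.1 : K)) hw'] at this
  intro a ha hc
  refine hsm a ha ?_ hc
  refine hsm _ (pow_mem ha 2) ?_ ((show Commute x a from hc).pow_right 2).eq
  rw [← pow_mul]
  exact B.pow4 a ha

/-- The seven involutions of `A` are conjugate under an element of order seven. -/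
theorem transitive {x : K} (hx : x ^ 7 = 1) (hxA : x ∉ A) {a b : K} (ha : a ∈ A) (ha2 : a ^ 2 = 1)
    (ha1 : a ≠ 1) (hb : b ∈ A) (hb2 : b ^ 2 = 1) (hb1 : b ≠ 1) :
    ∃ i : ℕ, x ^ i * a * (x ^ i)⁻¹ = b := by
  classical
  let F : Fin 7 → {v : A // (v : K) ^ 2 = 1} := fun i => ⟨⟨x ^ (i : ℕ) * a * (x ^ (i : ℕ))⁻¹,
    B.conj_mem ha _⟩, by show (x ^ (i : ℕ) * a * (x ^ (i : ℕ))⁻¹) ^ 2 = 1; rw [conj_pow, ha2]; group⟩
  have hinj : Function.Injective F := by
    have key : ∀ i j : ℕ, i < j → j < 7 → x ^ i * a * (x ^ i)⁻¹ ≠ x ^ j * a * (x ^ j)⁻¹ := by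
      intro i j hij hj e
      have h1 : x ^ (j - i) * a = a * x ^ (j - i) := by
        rw [show x ^ j = x ^ i * x ^ (j - i) by rw [← pow_add]; congr 1; omega] at e
        have e2 : x ^ i * a * (x ^ i)⁻¹ = x ^ i * (x ^ (j - i) * a * (x ^ (j - i))⁻¹) * (x ^ i)⁻¹ :=
          e.trans (by group)
        have e3 := mul_left_cancel (mul_right_cancel e2)
        exact (eq_mul_inv_iff_mul_eq.1 e3).symm
      obtain ⟨m, hm⟩ : ∃ m, (j - i) * m % 7 = 1 := by
        have : ∀ d < 7, 0 < d → ∃ m < 7, d * m % 7 = 1 := by decide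
        obtain ⟨m, -, hm⟩ := this (j - i) (by omega) (by omega)
        exact ⟨m, hm⟩
      have h2 : (x ^ (j - i)) ^ m = x := by
        rw [← pow_mul, pow_eq_pow_mod _ hx, hm, pow_one]
      have h3 := ((show Commute (x ^ (j - i)) a from h1).pow_left m).eq
      rw [h2] at h3
      exact ha1 (B.fixedFree hx hxA a ha h3)
    intro i j e
    have e' : x ^ (i : ℕ) * a * (x ^ (i : ℕ))⁻¹ = x ^ (j : ℕ) * a * (x ^ (j : ℕ))⁻¹ :=
      congrArg (fun z => (z.1 : K)) e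
    rcases lt_trichotomy (i : ℕ) j with h | h | h
    · exact absurd e' (key _ _ h j.2)
    · exact Fin.ext h
    · exact absurd e'.symm (key _ _ h i.2)
  haveI := Fintype.ofFinite {v : A // (v : K) ^ 2 = 1}
  by_contra hne
  push Not at hne
  let F' : Option (Option (Fin 7)) → {v : A // (v : K) ^ 2 = 1}
    | none => ⟨⟨b, hb⟩, hb2⟩
    | some none => ⟨⟨1, one_mem A⟩, by simp⟩
    | some (some i) => F i
  have h1 : ∀ i : Fin 7, (((F i).1 : A) : K) ≠ 1 := fun i e => ha1 (by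
    have e' : x ^ (i : ℕ) * a * (x ^ (i : ℕ))⁻¹ = 1 := e
    exact conj_eq_one_iff.1 e')
  have hF' : Function.Injective F' := by
    rintro (_ | _ | i) (_ | _ | j) e <;> simp only [F'] at e <;>
      first
        | rfl
        | exact absurd (congrArg (fun z => (z.1 : K)) e) hb1
        | exact absurd (congrArg (fun z => (z.1 : K)) e).symm hb1
        | exact absurd (congrArg (fun z => (z.1 : K)) e).symm (hne _)
        | exact absurd (congrArg (fun z => (z.1 : K)) e) (hne _)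
        | exact absurd (congrArg (fun z => (z.1 : K)) e) (h1 _)
        | exact absurd (congrArg (fun z => (z.1 : K)) e).symm (h1 _)
        | rw [hinj e]
  have := Nat.card_le_card_of_injective F' hF'
  rw [B.two_card] at this
  simp at this

theorem exists_xy : ∃ x y : K, x ^ 7 = 1 ∧ x ∉ A ∧ y ^ 3 = 1 ∧ y * x = x ^ 2 * y ∧ y * t = t * y := by
  classical
  haveI := B.normal
  obtain ⟨u, w, hu7, huA, hw3, hwu⟩ := B.frob
  set x := u ^ 8 with hxdef
  have hxu : QuotientGroup.mk' A x = QuotientGroup.mk' A u := by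
    rw [hxdef, pow_succ', map_mul, show QuotientGroup.mk' A (u ^ 7) = 1 from
      (QuotientGroup.eq_one_iff _).2 hu7, mul_one]
  have hx : x ^ 7 = 1 := by
    rw [hxdef, ← pow_mul, show 8 * 7 = 7 * 4 * 2 by norm_num, pow_mul, pow_mul, B.pow4 _ hu7, one_pow]
  have hxA : x ∉ A := fun h => huA ((QuotientGroup.eq_one_iff u).1 (hxu.symm.trans
    ((QuotientGroup.eq_one_iff x).2 h)))
  have ha : w * x * w⁻¹ * (x ^ 2)⁻¹ ∈ A := by
    refine (QuotientGroup.eq_one_iff _).1 ?_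
    show QuotientGroup.mk' A (w * x * w⁻¹ * (x ^ 2)⁻¹) = 1
    simp only [map_mul, map_inv, map_pow, hxu]
    simp only [← map_pow, ← map_inv, ← map_mul]
    exact (QuotientGroup.eq_one_iff _).2 hwu
  let ψ : A → A := fun b => ⟨(b : K)⁻¹ * (x ^ 2 * b * (x ^ 2)⁻¹),
    mul_mem (inv_mem b.2) (B.conj_mem b.2 _)⟩
  have hψ : Function.Injective ψ := by
    intro b c e
    have e' : (b : K)⁻¹ * (x ^ 2 * b * (x ^ 2)⁻¹) = (c : K)⁻¹ * (x ^ 2 * c * (x ^ 2)⁻¹) :=
      congrArg Subtype.val e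
    have hm : (c : K) * (b : K)⁻¹ ∈ A := mul_mem c.2 (inv_mem b.2)
    have h1 : x ^ 2 * ((c : K) * (b : K)⁻¹) * (x ^ 2)⁻¹ = (c : K) * (b : K)⁻¹ := by
      calc x ^ 2 * ((c : K) * (b : K)⁻¹) * (x ^ 2)⁻¹
          = (x ^ 2 * c * (x ^ 2)⁻¹) * (x ^ 2 * b * (x ^ 2)⁻¹)⁻¹ := by group
        _ = ((c : K) * ((b : K)⁻¹ * (x ^ 2 * b * (x ^ 2)⁻¹))) * (x ^ 2 * b * (x ^ 2)⁻¹)⁻¹ := by
            rw [e', mul_inv_cancel_left]
        _ = _ := by group
    have h2 : Commute (x ^ 2) ((c : K) * (b : K)⁻¹) := mul_inv_eq_iff_eq_mul.1 h1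
    have h3 := (h2.pow_left 4).eq
    rw [← pow_mul, show 2 * 4 = 7 + 1 by norm_num, pow_succ, hx, one_mul] at h3
    exact (Subtype.ext (mul_inv_eq_one.1 (B.fixedFree hx hxA _ hm h3))).symm
  obtain ⟨⟨b, hb⟩, hbe⟩ := (Finite.injective_iff_surjective.1 hψ) ⟨_, ha⟩
  have hbe' : b⁻¹ * (x ^ 2 * b * (x ^ 2)⁻¹) = w * x * w⁻¹ * (x ^ 2)⁻¹ := congrArg Subtype.val hbe
  set y₀ := b * w with hy₀
  have hyx0 : y₀ * x = x ^ 2 * y₀ := by
    have h1 : w * x * w⁻¹ = b⁻¹ * (x ^ 2 * b * (x ^ 2)⁻¹) * x ^ 2 := by rw [hbe', inv_mul_cancel_right]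
    calc y₀ * x = b * (w * x * w⁻¹) * w := by rw [hy₀]; group
      _ = x ^ 2 * y₀ := by rw [h1, hy₀]; group
  have hy₀3 : y₀ ^ 3 = 1 := by
    have h1 : y₀ ^ 3 ∈ A := (QuotientGroup.eq_one_iff _).1 (by
      have : QuotientGroup.mk' A (y₀ ^ 3) = 1 := by
        rw [map_pow, hy₀, map_mul, show QuotientGroup.mk' A b = 1 from (QuotientGroup.eq_one_iff b).2 hb,
          one_mul, ← map_pow]
        exact (QuotientGroup.eq_one_iff _).2 hw3
      exact this)
    refine B.fixedFree hx hxA _ h1 ?_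
    have hs : ∀ n : ℕ, y₀ * x ^ n = x ^ (2 * n) * y₀ := by
      intro n
      induction n with
      | zero => simp
      | succ n ih => rw [pow_succ, ← mul_assoc, ih, mul_assoc, hyx0, ← mul_assoc, ← pow_add]; rfl
    symm
    calc y₀ ^ 3 * x = y₀ * (y₀ * (y₀ * x)) := by rw [pow_three]; simp only [mul_assoc]
      _ = x ^ 8 * (y₀ * (y₀ * y₀)) := by
        rw [hyx0, ← mul_assoc y₀ (x ^ 2), hs 2, mul_assoc (x ^ _) y₀ y₀, ← mul_assoc y₀ (x ^ _), hs,
          mul_assoc]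
      _ = x * y₀ ^ 3 := by rw [← pow_three, pow_succ, hx, one_mul]
  haveI : Fact (Nat.Prime 3) := ⟨by norm_num⟩
  have hmod := B.fixed_card (p := 3) hy₀3
  have hgt : 1 < Nat.card {v : A // (v : K) ^ 2 = 1 ∧ y₀ * v = v * y₀} := by
    have : 0 < Nat.card {v : A // (v : K) ^ 2 = 1 ∧ y₀ * v = v * y₀} :=
      Nat.card_pos_iff.2 ⟨⟨⟨1, one_mem A⟩, by simp⟩, inferInstance⟩
    omega
  obtain ⟨t0, ht0A, ht02, ht0c, ht01⟩ : ∃ v ∈ A, v ^ 2 = 1 ∧ y₀ * v = v * y₀ ∧ v ≠ 1 := by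
    haveI := Finite.one_lt_card_iff_nontrivial.1 hgt
    obtain ⟨v, hv⟩ := exists_ne (⟨⟨1, one_mem A⟩, by simp⟩ : {v : A // (v : K) ^ 2 = 1 ∧ y₀ * v = v * y₀})
    exact ⟨v.1, v.1.2, v.2.1, v.2.2, fun e => hv (Subtype.ext (Subtype.ext e))⟩
  obtain ⟨i, hi⟩ := B.transitive hx hxA ht0A ht02 ht01 B.tA B.t2 B.t1
  refine ⟨x, x ^ i * y₀ * (x ^ i)⁻¹, hx, hxA, ?_, ?_, ?_⟩
  · rw [conj_pow, hy₀3]; group
  · calc x ^ i * y₀ * (x ^ i)⁻¹ * x = x ^ i * (y₀ * x) * (x ^ i)⁻¹ := by group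
      _ = _ := by rw [hyx0]; group
  · rw [← hi]
    calc x ^ i * y₀ * (x ^ i)⁻¹ * (x ^ i * t0 * (x ^ i)⁻¹) = x ^ i * (y₀ * t0) * (x ^ i)⁻¹ := by group
      _ = _ := by rw [ht0c]; group

end Base

end Cfsg.Agent.HSLocal.Coord.Shape
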