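import Cfsg.Prelude
import Cfsg.Agent.Lib.HSLocal.Coord.MBase
import Cfsg.Agent.Lib.CharP.Sylow

/-!
The frame of a centraliser `(4 * 2^(1+4)).S5` with a normal `2^3` in its core whose normaliser is `4^3.L3(2)`.
-/

set_option autoImplicit false
set_option linter.unusedSectionVars false
set_option linter.style.haveILetI false

namespace Cfsg.Agent.HSLocal.Coord

open Subgroup

/-- The facts about `C(t)`, `R = O2(C(t))` and `V` used for coordinates. -/
structure GFrame {G : Type*} [Group G] (t : G) (R V : Subgroup G) : Prop where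
  tR : t ∈ R
  cardR : Nat.card R = 64
  Rle : ∀ r ∈ R, r * t = t * r
  Rnorm : ∀ h, h * t = t * h → ∀ r ∈ R, h * r * h⁻¹ ∈ R
  sq : ∀ r ∈ R, r ^ 2 = 1 ∨ r ^ 2 = t
  comm : ∀ r ∈ R, ∀ r2 ∈ R, r * r2 * r⁻¹ * r2⁻¹ = 1 ∨ r * r2 * r⁻¹ * r2⁻¹ = t
  cardC : Nat.card (centralizer ({t} : Set G)) = 7680
  tV : t ∈ V
  VR : V ≤ R
  cardV : Nat.card V = 8
  Vsq : ∀ v ∈ V, v ^ 2 = 1
  Vnorm : R ≤ normalizer (V : Set G)
  cardNC : Nat.card ↥(centralizer ({t} : Set G) ⊓ normalizer (V : Set G)) = 1536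
  self_cent : ∀ h, h * t = t * h → (∀ r ∈ R, h * r = r * h) → h ∈ R
  five : ∃ g, g * t = t * g ∧ g ^ 5 = 1 ∧ g ∉ normalizer (V : Set G)

namespace GFrameAux

/-- Distinct permutations of five points commute with everything only trivially. -/
theorem perm_five_center : ∀ x : Equiv.Perm (Fin 5), (∀ g, g * x = x * g) → x = 1 := by decide +kernel

theorem card_perm_five : Nat.card (Equiv.Perm (Fin 5)) = 120 := by
  rw [Nat.card_perm, Nat.card_fin]; rfl

/-- A nontrivial normal subgroup of `S5` has order at least 60. -/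
theorem sixty_le (N : Subgroup (Equiv.Perm (Fin 5))) [hN : N.Normal] (h : N ≠ ⊥) : 60 ≤ Nat.card N := by
  haveI := alternatingGroup.isSimpleGroup_five
  obtain ⟨x, hx, hx1⟩ : ∃ x ∈ N, x ≠ 1 := by
    by_contra hh; push Not at hh
    exact h ((Subgroup.eq_bot_iff_forall N).2 hh)
  obtain ⟨g, hg⟩ : ∃ g, g * x ≠ x * g := by
    by_contra hh; push Not at hh
    exact hx1 (perm_five_center x hh)
  have hc : g * x * g⁻¹ * x⁻¹ ∈ N := mul_mem (hN.conj_mem x hx g) (inv_mem hx)
  have ha : g * x * g⁻¹ * x⁻¹ ∈ alternatingGroup (Fin 5) := by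
    rw [Equiv.Perm.mem_alternatingGroup, map_mul, map_mul, map_mul, map_inv, map_inv]
    rcases Int.units_eq_one_or (Equiv.Perm.sign g) with e | e <;>
      rcases Int.units_eq_one_or (Equiv.Perm.sign x) with e' | e' <;> simp [e, e']
  have hc1 : g * x * g⁻¹ * x⁻¹ ≠ 1 := fun e => hg (mul_inv_eq_iff_eq_mul.1 (mul_inv_eq_one.1 e))
  rcases (hN.subgroupOf (alternatingGroup (Fin 5))).eq_bot_or_eq_top with e | e
  · exfalso
    have := Subgroup.mem_bot.1 (e ▸ mem_subgroupOf.2 hc :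
      (⟨_, ha⟩ : alternatingGroup (Fin 5)) ∈ (⊥ : Subgroup (alternatingGroup (Fin 5))))
    exact hc1 (congrArg Subtype.val this)
  · have := Subgroup.card_le_card_group (H := (alternatingGroup (Fin 5)))
    calc 60 = Nat.card (alternatingGroup (Fin 5)) := by
          rw [Nat.card_eq_fintype_card]; decide +kernel
      _ ≤ Nat.card N := Nat.card_le_card_of_injective
          (fun a => (⟨a.1, (mem_subgroupOf.1 (e ▸ Subgroup.mem_top a : a ∈ N.subgroupOf _))⟩ : N))
          (fun a b e => Subtype.ext (congrArg (fun z : N => (z : Equiv.Perm (Fin 5))) e))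

variable {G : Type*} [Group G] [Finite G]

/-- What is used about the core `R`. -/
structure RData (t : G) (R Cy E : Subgroup G) : Prop where
  card : Nat.card R = 64
  cardCy : Nat.card Cy = 4
  cyR : Cy ≤ R
  center : ∀ r ∈ R, (∀ x ∈ R, r * x = x * r) → r ∈ Cy
  cy_comm : ∀ c ∈ Cy, ∀ r ∈ R, c * r = r * c
  tR : t ∈ R
  t2 : t ^ 2 = 1
  t1 : t ≠ 1
  sq : ∀ r ∈ R, r ^ 2 = 1 ∨ r ^ 2 = t
  comm : ∀ r ∈ R, ∀ r2 ∈ R, r * r2 * r⁻¹ * r2⁻¹ = 1 ∨ r * r2 * r⁻¹ * r2⁻¹ = t
  tCy : t ∈ Cy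
  four : ∃ c ∈ Cy, c ^ 2 = t

theorem rdata (t : G) (ht : orderOf t = 2) (R Cy E : Subgroup G) (htR : t ∈ R)
    (htc : ∀ r ∈ R, r * t = t * r) (hCy : IsCyclic Cy) (hCycard : Nat.card Cy = 4)
    (hCyle : Cy ≤ R ⊓ centralizer (R : Set G))
    (hEle : E ≤ R) (hEex : Cfsg.IsExtraspecial 2 E) (hEcard : Nat.card E = 32)
    (hprod : Cy ⊔ E = R) (hmeet : Cy ⊓ E = E ⊓ centralizer (E : Set G)) : RData t R Cy E := by
  classical
  obtain ⟨⟨-, -, hcom⟩, hzc⟩ := hEex
  have cyR : Cy ≤ R := hCyle.trans inf_le_left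
  have cyC : ∀ c ∈ Cy, ∀ r ∈ R, c * r = r * c := fun c hc r hr =>
    (mem_centralizer_iff.1 (hCyle hc).2 r hr).symm
  let ψ : Cy × E →* G := MonoidHom.noncommCoprod Cy.subtype E.subtype
    fun c e => cyC c c.2 e (hEle e.2)
  have hrange : ψ.range = R := by
    refine le_antisymm ?_ (hprod ▸ sup_le ?_ ?_)
    · rintro _ ⟨p, rfl⟩
      exact mul_mem (cyR p.1.2) (hEle p.2.2)
    · exact fun c hc => ⟨(⟨c, hc⟩, 1), mul_one c⟩
    · exact fun e he => ⟨(1, ⟨e, he⟩), one_mul e⟩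
  have hψ : ∀ p, ψ p = (p.1 : G) * p.2 := fun p => rfl
  have hsplit : ∀ r ∈ R, ∃ c ∈ Cy, ∃ e : E, r = c * e := by
    intro r hr
    rw [← hrange] at hr
    obtain ⟨⟨c, e⟩, rfl⟩ := hr
    exact ⟨c, c.2, e, rfl⟩
  -- the centre of `E`
  have hmem : ∀ e : E, e ∈ Subgroup.center E ↔ (e : G) ∈ Cy := fun e => by
    constructor
    · intro h
      refine (hmeet.symm ▸ ⟨e.2, mem_centralizer_iff.2 fun x hx => ?_⟩ : (e : G) ∈ Cy ⊓ E).1
      exact congrArg Subtype.val (mem_center_iff.1 h ⟨x, hx⟩)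
    · intro h
      exact mem_center_iff.2 fun x => Subtype.ext (cyC _ h _ (hEle x.2)).symm
  have center : ∀ r ∈ R, (∀ x ∈ R, r * x = x * r) → r ∈ Cy := by
    intro r hr hall
    obtain ⟨c, hc, e, rfl⟩ := hsplit r hr
    refine mul_mem hc ((hmem e).1 (mem_center_iff.2 fun x => Subtype.ext ?_))
    have h := hall x (hEle x.2)
    rw [← mul_assoc (x : G), ← cyC c hc x (hEle x.2), mul_assoc, mul_assoc] at h
    exact (mul_left_cancel h).symm
  have tCy : t ∈ Cy := center t htR fun x hx => (htc x hx).symm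
  have t2 : t ^ 2 = 1 := by rw [← ht, pow_orderOf_eq_one]
  have t1 : t ≠ 1 := fun e => by rw [e, orderOf_one] at ht; omega
  obtain ⟨c₀, hgen⟩ := hCy.exists_generator
  have hc0o : orderOf c₀ = 4 := by
    rw [← hCycard, orderOf_eq_card_of_forall_mem_zpowers hgen]
  have hinv : ∀ y : Cy, y ^ 2 = 1 → y = 1 ∨ y = c₀ ^ 2 := by
    intro y h2
    obtain ⟨n, hn⟩ := (mem_powers_iff_mem_zpowers.2 (hgen y) : y ∈ Submonoid.powers c₀)
    have hn' : c₀ ^ n = y := hn
    rw [← hn', ← pow_mul, ← orderOf_dvd_iff_pow_eq_one, hc0o] at h2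
    rw [← hn', ← pow_mod_orderOf c₀ n, hc0o]
    rcases (show n % 4 = 0 ∨ n % 4 = 2 by omega) with e | e <;> rw [e]
    · exact Or.inl (pow_zero _)
    · exact Or.inr rfl
  have htsq : c₀ ^ 2 = ⟨t, tCy⟩ := ((hinv ⟨t, tCy⟩ (Subtype.ext t2)).resolve_left
    fun e => t1 (congrArg Subtype.val e)).symm
  have small : ∀ y ∈ Cy, y ^ 2 = 1 → y = 1 ∨ y = t := fun y hy h2 => by
    rcases hinv ⟨y, hy⟩ (Subtype.ext h2) with e | e
    · exact Or.inl (congrArg Subtype.val e)
    · exact Or.inr (congrArg Subtype.val (e.trans htsq))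
  have cz2 : ∀ e : E, e ∈ Subgroup.center E → e ^ 2 = 1 := fun e he => by
    have := pow_card_eq_one' (x := (⟨e, he⟩ : Subgroup.center E))
    rw [hzc] at this
    exact congrArg Subtype.val this
  have hcent : ∀ e : E, e ∈ Subgroup.center E → (e : G) = 1 ∨ (e : G) = t := fun e he =>
    small _ ((hmem e).1 he) (congrArg Subtype.val (cz2 e he))
  have card : Nat.card R = 64 := by
    have hi : Nat.card ψ.ker = 2 := by
      have hk : ∀ p : Cy × E, p ∈ ψ.ker → (p.1 : G) = (p.2 : G)⁻¹ := fun p hp =>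
        eq_inv_of_mul_eq_one_left hp
      refine (Nat.card_eq_of_bijective
        (fun p : ψ.ker => (⟨(p : Cy × E).2, (hmem _).2 ?_⟩ : Subgroup.center E)) ⟨?_, ?_⟩).trans hzc
      · have h := hk p p.2
        rw [← inv_inv ((p : Cy × E).2 : G), ← h]
        exact inv_mem (p : Cy × E).1.2
      · intro p q h
        have h2 : (p : Cy × E).2 = (q : Cy × E).2 := congrArg Subtype.val h
        exact Subtype.ext (Prod.ext (Subtype.ext (by rw [hk p p.2, hk q q.2, h2])) h2)
      · intro z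
        exact ⟨⟨(⟨_, inv_mem ((hmem z).1 z.2)⟩, z), MonoidHom.mem_ker.2 (by rw [hψ]; simp)⟩, rfl⟩
    have h := ψ.ker.card_mul_index
    rw [index_ker, hrange, hi, Nat.card_prod, hCycard, hEcard] at h
    omega
  have sq : ∀ r ∈ R, r ^ 2 = 1 ∨ r ^ 2 = t := by
    intro r hr
    obtain ⟨c, hc, e, rfl⟩ := hsplit r hr
    have hz : e ^ 2 ∈ Subgroup.center E := mem_center_iff.2 fun y => by
      have hzm : e * y * e⁻¹ * y⁻¹ ∈ Subgroup.center E := hcom ▸
        commutator_mem_commutator (mem_top e) (mem_top y)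
      obtain ⟨z, hz⟩ : ∃ z, z = e * y * e⁻¹ * y⁻¹ := ⟨_, rfl⟩
      rw [← hz] at hzm
      have hey : e * y = z * y * e := by rw [hz]; group
      symm
      calc e ^ 2 * y = e * (e * y) := by rw [pow_two, mul_assoc]
        _ = e * z * y * e := by rw [hey]; group
        _ = z * (e * y) * e := by rw [mem_center_iff.1 hzm e]; group
        _ = z ^ 2 * (y * e ^ 2) := by rw [hey, pow_two, pow_two]; group
        _ = _ := by rw [cz2 z hzm, one_mul]
    have hc4 : (c ^ 2) ^ 2 = 1 := by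
      have := pow_card_eq_one' (x := (⟨c, hc⟩ : Cy))
      rw [hCycard] at this
      rw [← pow_mul]
      exact congrArg Subtype.val this
    rw [(show Commute c (e : G) from cyC c hc e (hEle e.2)).mul_pow]
    have he2 : (e : G) ^ 2 = 1 ∨ (e : G) ^ 2 = t := hcent _ hz
    rcases small _ (pow_mem hc 2) hc4 with a | a <;> rcases he2 with b | b <;> rw [a, b]
    · exact Or.inl (one_mul _)
    · exact Or.inr (one_mul _)
    · exact Or.inr (mul_one _)
    · exact Or.inl (by rw [← pow_two, t2])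
  have comm : ∀ r ∈ R, ∀ r2 ∈ R, r * r2 * r⁻¹ * r2⁻¹ = 1 ∨ r * r2 * r⁻¹ * r2⁻¹ = t := by
    intro r hr r2 hr2
    obtain ⟨c, hc, e, rfl⟩ := hsplit r hr
    obtain ⟨d, hd, f, rfl⟩ := hsplit r2 hr2
    have hzm : e * f * e⁻¹ * f⁻¹ ∈ Subgroup.center E := hcom ▸
      commutator_mem_commutator (mem_top e) (mem_top f)
    have h1 : c * (e : G) * (d * f) * (c * e)⁻¹ * (d * f)⁻¹ = (e : G) * f * (e : G)⁻¹ * (f : G)⁻¹ := by
      calc c * (e : G) * (d * f) * (c * e)⁻¹ * (d * f)⁻¹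
            = c * ((e : G) * d) * f * (e : G)⁻¹ * c⁻¹ * (f : G)⁻¹ * d⁻¹ := by group
        _ = c * d * ((e : G) * f * (e : G)⁻¹) * c⁻¹ * (f : G)⁻¹ * d⁻¹ := by
            rw [← cyC d hd e (hEle e.2)]; group
        _ = c * d * (c⁻¹ * ((e : G) * f * (e : G)⁻¹)) * (f : G)⁻¹ * d⁻¹ := by
            rw [cyC c⁻¹ (inv_mem hc) _ (mul_mem (mul_mem (hEle e.2) (hEle f.2)) (inv_mem (hEle e.2)))]
            group
        _ = c * (d * c⁻¹) * ((e : G) * f * (e : G)⁻¹ * (f : G)⁻¹) * d⁻¹ := by group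
        _ = c * (c⁻¹ * d) * (d⁻¹ * ((e : G) * f * (e : G)⁻¹ * (f : G)⁻¹)) := by
            rw [cyC d hd c⁻¹ (inv_mem (cyR hc)), cyC d⁻¹ (inv_mem hd) _ (mul_mem (mul_mem
              (mul_mem (hEle e.2) (hEle f.2)) (inv_mem (hEle e.2))) (inv_mem (hEle f.2)))]
            group
        _ = _ := by group
    rw [h1]
    exact hcent _ hzm
  exact ⟨card, hCycard, cyR, center, cyC, htR, t2, t1, sq, comm, tCy, c₀, c₀.2,
    congrArg Subtype.val htsq⟩

/-- An elementary abelian subgroup of order 8 of the core contains `t`. -/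
theorem t_mem {t : G} {R Cy E : Subgroup G} (D : RData t R Cy E) {V : Subgroup G}
    (hVcomm : IsMulCommutative V) (hVexp : ∀ v ∈ V, v ^ 2 = 1) (hVcard : Nat.card V = 8)
    (hVR : V ≤ R) : t ∈ V := by
  classical
  by_contra htV
  let ψ : V × Cy →* G := MonoidHom.noncommCoprod V.subtype Cy.subtype
    fun v c => (D.cy_comm c c.2 v (hVR v.2)).symm
  have hψ : ∀ p, ψ p = (p.1 : G) * p.2 := fun p => rfl
  have hinj : Function.Injective ψ := by
    rw [injective_iff_map_eq_one]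
    rintro ⟨v, c⟩ h
    rw [hψ] at h
    have hv : (v : G) = (c : G)⁻¹ := eq_inv_of_mul_eq_one_left h
    have hvC : (v : G) ∈ Cy := hv ▸ inv_mem c.2
    have hv1 : (v : G) = 1 := by
      have h2 := hVexp v v.2
      by_contra hne
      apply htV
      suffices (v : G) = t from this ▸ v.2
      obtain ⟨c₀, hc₀, hsq⟩ := D.four
      have ho : orderOf (⟨c₀, hc₀⟩ : Cy) = 4 := by
        refine orderOf_eq_prime_pow (p := 2) (n := 1) (fun e => D.t1 ?_) (Subtype.ext ?_)
        · rw [← hsq]; exact congrArg Subtype.val e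
        · show c₀ ^ (2 ^ (1 + 1)) = 1
          rw [show (2 : ℕ) ^ (1 + 1) = 2 * 2 by rfl, pow_mul, hsq, D.t2]
      obtain ⟨n, hn⟩ := (mem_powers_iff_mem_zpowers.2
        (eq_top_of_card_eq (zpowers (⟨c₀, hc₀⟩ : Cy)) (by rw [Nat.card_zpowers, ho, D.cardCy]) ▸
          Subgroup.mem_top (⟨v, hvC⟩ : Cy)) :
          (⟨v, hvC⟩ : Cy) ∈ Submonoid.powers ⟨c₀, hc₀⟩)
      have hn' : c₀ ^ n = (v : G) := congrArg Subtype.val hn
      have ho' : orderOf c₀ = 4 := (Subgroup.orderOf_coe (⟨c₀, hc₀⟩ : Cy)).trans ho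
      rw [← hn', ← pow_mul, ← orderOf_dvd_iff_pow_eq_one, ho'] at h2
      rw [← hn', ← pow_mod_orderOf c₀ n, ho'] at hne ⊢
      rcases (show n % 4 = 0 ∨ n % 4 = 2 by omega) with e | e <;> rw [e] at hne ⊢
      · exact absurd (pow_zero _) hne
      · exact hsq
    exact Prod.ext (Subtype.ext hv1) (Subtype.ext (inv_eq_one.1 (hv.symm.trans hv1)))
  set K := ψ.range with hKdef
  have hK32 : Nat.card K = 32 := by
    rw [← Nat.card_congr (MonoidHom.ofInjective hinj).toEquiv, Nat.card_prod, hVcard, D.cardCy]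
  have hKR : K ≤ R := by
    rintro _ ⟨⟨v, c⟩, rfl⟩
    exact mul_mem (hVR v.2) (D.cyR c.2)
  have hKab : ∀ a ∈ K, ∀ b ∈ K, a * b = b * a := by
    rintro _ ⟨p, rfl⟩ _ ⟨q, rfl⟩
    rw [← map_mul, ← map_mul]
    exact congrArg ψ (Prod.ext (hVcomm.is_comm.comm _ _)
      (Subtype.ext (D.cy_comm _ p.2.2 _ (D.cyR q.2.2))))
  obtain ⟨x, hxR, hxK⟩ : ∃ x ∈ R, x ∉ K := by
    by_contra hh; push Not at hh
    have := card_dvd_of_le (hh : R ≤ K)
    rw [hK32, D.card] at this
    omega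
  have key : ∀ k ∈ K, x * k = k * x → k ∈ Cy := fun k hk hc => by
    refine D.center k (hKR hk) fun y hy => ?_
    let S := centralizer ({k} : Set G) ⊓ R
    have hS : R ≤ S := by
      have hle : K ≤ S := fun a ha => ⟨mem_centralizer_singleton_iff.2 (hKab a ha k hk), hKR ha⟩
      have hxS : x ∈ S := ⟨mem_centralizer_singleton_iff.2 hc, hxR⟩
      have hlt : 32 < Nat.card S := by
        rw [← hK32]
        exact Set.Finite.card_lt_card (Set.toFinite _) ⟨hle, fun e => hxK (e hxS)⟩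
      have hd : Nat.card S ∣ 2 ^ 6 := by
        have := card_dvd_of_le (inf_le_right : S ≤ R)
        rwa [D.card] at this
      obtain ⟨m, hm, he⟩ := (Nat.dvd_prime_pow Nat.prime_two).1 hd
      have : m = 6 := by
        rcases (show m = 0 ∨ m = 1 ∨ m = 2 ∨ m = 3 ∨ m = 4 ∨ m = 5 ∨ m = 6 by omega) with
          rfl | rfl | rfl | rfl | rfl | rfl | rfl <;> omega
      have hSR : Nat.card S = Nat.card R := by rw [D.card, he, this]; rfl
      exact (Subgroup.eq_of_le_of_card_ge inf_le_right hSR.ge).ge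
    exact (mem_centralizer_singleton_iff.1 (hS hy).1).symm
  obtain ⟨k1, hk1, hcov⟩ : ∃ k1 ∈ K, ∀ k ∈ K, k ∈ Cy ∨ k1⁻¹ * k ∈ Cy := by
    by_cases hex : ∃ k1 ∈ K, x * k1 * x⁻¹ * k1⁻¹ = t
    · obtain ⟨k1, hk1, hk1t⟩ := hex
      refine ⟨k1, hk1, fun k hk => ?_⟩
      rcases D.comm x hxR k (hKR hk) with e | e
      · exact Or.inl (key k hk (mul_inv_eq_iff_eq_mul.1 (mul_inv_eq_one.1 e)))
      · refine Or.inr (key _ (mul_mem (inv_mem hk1) hk) ?_)
        have a : x * k = t * k * x := by rw [← e]; group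
        have b : x * k1 = t * k1 * x := by rw [← hk1t]; group
        have b' : x * k1⁻¹ = k1⁻¹ * t * x := by
          have h0 : k1⁻¹ * t * x * k1 = x := by
            calc k1⁻¹ * t * x * k1 = k1⁻¹ * t * (x * k1) := by group
              _ = k1⁻¹ * t ^ 2 * k1 * x := by rw [b, pow_two]; group
              _ = x := by rw [D.t2]; group
          calc x * k1⁻¹ = k1⁻¹ * t * x * k1 * k1⁻¹ := by rw [h0]
            _ = _ := by group
        calc x * (k1⁻¹ * k) = x * k1⁻¹ * k := by group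
          _ = k1⁻¹ * t * (x * k) := by rw [b']; group
          _ = k1⁻¹ * t ^ 2 * k * x := by rw [a, pow_two]; group
          _ = _ := by rw [D.t2]; group
    · push Not at hex
      exact ⟨1, one_mem K, fun k hk => Or.inl (key k hk (mul_inv_eq_iff_eq_mul.1
        (mul_inv_eq_one.1 ((D.comm x hxR k (hKR hk)).resolve_right (hex k hk)))))⟩
  let f : Bool × Cy → G := fun p => (if p.1 then k1 else 1) * (p.2 : G)
  have hsub : (K : Set G) ⊆ Set.range f := fun k hk => by
    rcases hcov k hk with e | e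
    · exact ⟨(false, ⟨k, e⟩), one_mul _⟩
    · exact ⟨(true, ⟨_, e⟩), mul_inv_cancel_left _ _⟩
  have h8 : Nat.card K ≤ 8 := by
    calc Nat.card K ≤ Nat.card (Set.range f) := Nat.card_mono (Set.toFinite _) hsub
      _ ≤ Nat.card (Bool × Cy) := Finite.card_range_le f
      _ = 8 := by rw [Nat.card_prod, D.cardCy]; simp
  omega

/-- An involution of the core outside an elementary subgroup and `Cy`. -/
theorem exists_outside {t : G} {R Cy E : Subgroup G} (D : RData t R Cy E) {V : Subgroup G}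
    (hVcard : Nat.card V = 8) (hVR : V ≤ R) : ∃ r ∈ R, r * r = 1 ∧ r ∉ V := by
  classical
  let ψ : V × Cy →* G := MonoidHom.noncommCoprod V.subtype Cy.subtype
    fun v c => (D.cy_comm c c.2 v (hVR v.2)).symm
  have hle : Nat.card ψ.range ≤ 32 := by
    calc Nat.card ψ.range ≤ Nat.card (V × Cy) :=
          Nat.card_le_card_of_surjective _ ψ.rangeRestrict_surjective
      _ = 32 := by rw [Nat.card_prod, hVcard, D.cardCy]
  obtain ⟨r, hr, hrK⟩ : ∃ r ∈ R, r ∉ ψ.range := by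
    by_contra hh; push Not at hh
    have := Nat.le_of_dvd (Nat.card_pos) (card_dvd_of_le (hh : R ≤ ψ.range))
    rw [D.card] at this
    omega
  rcases D.sq r hr with e | e
  · exact ⟨r, hr, by rw [← pow_two, e], fun h => hrK ⟨(⟨r, h⟩, 1), mul_one _⟩⟩
  · obtain ⟨c, hc, hsq⟩ := D.four
    refine ⟨c * r, mul_mem (D.cyR hc) hr, ?_, fun h => hrK ⟨(⟨_, h⟩, ⟨c⁻¹, inv_mem hc⟩), ?_⟩⟩
    · rw [← pow_two, (show Commute c r from D.cy_comm c hc r hr).mul_pow, hsq, e, ← pow_two, D.t2]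
    · show c * r * c⁻¹ = r
      rw [D.cy_comm c hc r hr, mul_inv_cancel_right]

end GFrameAux

/-- The frame from the hypotheses of the characterisation, with what is needed on the side of `N(V)`. -/
theorem gframe {G : Type*} [Group G] [Finite G]
    (t : G) (ht : orderOf t = 2) (H : Subgroup G) (hH : H = Subgroup.centralizer ({t} : Set G))
    (R : Subgroup G) (hR : R = (Cfsg.pCore 2 H).map H.subtype)
    (Cy E : Subgroup G) (hCy : IsCyclic Cy) (hCycard : Nat.card Cy = 4)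
    (hCyle : Cy ≤ R ⊓ Subgroup.centralizer (R : Set G))
    (hEle : E ≤ R) (hEex : Cfsg.IsExtraspecial 2 E) (hEcard : Nat.card E = 32)
    (hprod : Cy ⊔ E = R) (hmeet : Cy ⊓ E = E ⊓ Subgroup.centralizer (E : Set G))
    (eH : H ⧸ Cfsg.pCore 2 H ≃* Equiv.Perm (Fin 5))
    (V : Subgroup G) (hVcomm : IsMulCommutative V) (hVexp : ∀ v ∈ V, v ^ 2 = 1) (hVcard : Nat.card V = 8)
    (hVR : V ≤ R) (M : Subgroup G) (hM : M = Subgroup.normalizer (V : Set G))
    (eOM : Cfsg.pCore 2 M ≃* Multiplicative (ZMod 4 × ZMod 4 × ZMod 4))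
    (eM : M ⧸ Cfsg.pCore 2 M ≃* GL (Fin 3) (ZMod 2)) :
    GFrame t R V ∧ ∃ htM : t ∈ M, (⟨t, htM⟩ : M) ∈ Cfsg.pCore 2 M ∧
      (∃ k : M, k * ⟨t, htM⟩ ≠ ⟨t, htM⟩ * k) ∧
      ∃ r : M, (r : G) ∈ R ∧ r * r = 1 ∧ r ∉ Cfsg.pCore 2 M := by
  classical
  subst hH
  set H := centralizer ({t} : Set G) with hHdef
  have hHmem : ∀ h, h ∈ H ↔ h * t = t * h := fun h => mem_centralizer_singleton_iff
  have hRH : R ≤ H := hR ▸ map_subtype_le _
  have Rle : ∀ r ∈ R, r * t = t * r := fun r hr => (hHmem r).1 (hRH hr)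
  have Rnorm : ∀ h, h * t = t * h → ∀ r ∈ R, h * r * h⁻¹ ∈ R := fun h hh r hr => by
    have := CharP.le_normalizer_pCoreOf 2 H ((hHmem h).2 hh)
    rw [Cfsg.pCoreOf, ← hR] at this
    exact (mem_normalizer_iff.1 this r).1 hr
  have htR : t ∈ R := by
    have hle : zpowers t ≤ H := by rw [zpowers_le]; exact (hHmem t).2 rfl
    rw [hR, ← Cfsg.pCoreOf]
    refine CharP.le_pCoreOf hle (fun h hh => ?_)
      (IsPGroup.of_card (n := 1) (by rw [Nat.card_zpowers, ht]; rfl)) (mem_zpowers t)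
    have hc : h * t = t * h := (hHmem h).1 hh
    rw [mem_normalizer_iff]
    intro y
    constructor
    · rintro ⟨n, rfl⟩
      exact ⟨n, by
        show t ^ n = h * t ^ n * h⁻¹
        rw [((show Commute h t from hc).zpow_right n).eq, mul_inv_cancel_right]⟩
    · rintro ⟨n, hn⟩
      refine ⟨n, ?_⟩
      have hn' : t ^ n = h * y * h⁻¹ := hn
      show t ^ n = y
      have hc' : h * t ^ n = t ^ n * h := ((show Commute h t from hc).zpow_right n).eq
      calc t ^ n = h⁻¹ * (h * t ^ n) := (inv_mul_cancel_left h _).symm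
        _ = h⁻¹ * (t ^ n * h) := by rw [hc']
        _ = y := by rw [hn']; group
  have D := GFrameAux.rdata t ht R Cy E htR Rle hCy hCycard hCyle hEle hEex hEcard hprod hmeet
  have tV : t ∈ V := GFrameAux.t_mem D hVcomm hVexp hVcard hVR
  have Vnorm : R ≤ normalizer (V : Set G) := fun r hr => by
    have hfwd : ∀ s ∈ R, ∀ v ∈ V, s * v * s⁻¹ ∈ V := fun s hs v hv => by
      have h : s * v * s⁻¹ = (s * v * s⁻¹ * v⁻¹) * v := by group
      rw [h]
      refine mul_mem ?_ hv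
      rcases D.comm s hs v (hVR hv) with e | e <;> rw [e]
      exacts [one_mem V, tV]
    rw [mem_normalizer_iff]
    refine fun v => ⟨hfwd r hr v, fun h => ?_⟩
    simpa [mul_assoc] using hfwd r⁻¹ (inv_mem hr) _ h
  have cardQ : Nat.card (Cfsg.pCore 2 H) = 64 := by
    rw [Nat.card_congr (Subgroup.equivMapOfInjective _ _ H.subtype_injective).toEquiv, ← hR, D.card]
  have cardC : Nat.card H = 7680 := by
    rw [(Cfsg.pCore 2 H).card_eq_card_quotient_mul_card_subgroup, Nat.card_congr eH.toEquiv,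
      GFrameAux.card_perm_five, cardQ]
  -- the side of `N(V)`
  have hVM : V ≤ M := hM ▸ le_normalizer
  have htM : t ∈ M := hVM tV
  set A := Cfsg.pCore 2 M with hAdef
  set tM : M := ⟨t, htM⟩ with htMdef
  have hVA : V.subgroupOf M ≤ A := by
    refine CharP.le_pCore ((normal_subgroupOf_iff_le_normalizer hVM).2 hM.le) ?_
    intro v
    exact ⟨1, Subtype.ext (Subtype.ext (hVexp _ (mem_subgroupOf.1 v.2)))⟩
  have htA : tM ∈ A := hVA (mem_subgroupOf.2 tV)
  have cardA : Nat.card A = 64 := by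
    rw [Nat.card_congr eOM.toEquiv, Nat.card_eq_fintype_card]; simp
  have cardM : Nat.card M = 10752 := by
    rw [A.card_eq_card_quotient_mul_card_subgroup, Nat.card_congr eM.toEquiv, Shape.card_gl, cardA]
  have hnc : ∃ k : M, k * tM ≠ tM * k := by
    by_contra hh; push Not at hh
    have hle : M ≤ H := fun k hk => (hHmem k).2 (congrArg Subtype.val (hh ⟨k, hk⟩))
    have := Nat.le_of_dvd Nat.card_pos (card_dvd_of_le hle)
    rw [cardM, cardC] at this
    omega
  have t2M : tM ^ 2 = 1 := Subtype.ext D.t2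
  have B := Shape.Base.mk' A eOM eM htA t2M hnc
  have hinvA : ∀ a ∈ A, a ^ 2 = 1 → (a : G) ∈ V := by
    let ι : V → {v : A // (v : M) ^ 2 = 1} := fun v =>
      ⟨⟨⟨v, hVM v.2⟩, hVA (mem_subgroupOf.2 v.2)⟩, Subtype.ext (hVexp v v.2)⟩
    have hb : Function.Bijective ι := (Nat.bijective_iff_injective_and_card ι).2
      ⟨fun a b e => Subtype.ext (congrArg (fun z : {v : A // (v : M) ^ 2 = 1} => ((z.1 : M) : G)) e),
        by rw [B.two_card, hVcard]⟩
    intro a ha h2
    obtain ⟨v, hv⟩ := hb.2 ⟨⟨a, ha⟩, h2⟩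
    have : (v : G) = a := congrArg (fun z : {v : A // (v : M) ^ 2 = 1} => ((z.1 : M) : G)) hv
    exact this ▸ v.2
  have cardNC : Nat.card ↥(H ⊓ normalizer (V : Set G)) = 1536 := by
    obtain ⟨x, -, hx7, hxA, -⟩ := B.exists_xy
    let F : Fin 7 × {k : M // k * tM = tM * k} → M := fun p => x ^ (p.1 : ℕ) * p.2.1
    have hFbij : Function.Bijective F := by
      constructor
      · have key : ∀ i j : ℕ, i < j → j < 7 → ∀ c d : M, c * tM = tM * c → d * tM = tM * d →
            x ^ i * c ≠ x ^ j * d := by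
          intro i j hij hj c d hc hd e
          have h1 : x ^ (j - i) = c * d⁻¹ := by
            rw [show x ^ j = x ^ i * x ^ (j - i) by rw [← pow_add]; congr 1; omega, mul_assoc] at e
            rw [mul_left_cancel e, mul_inv_cancel_right]
          obtain ⟨m, hm⟩ : ∃ m, (j - i) * m % 7 = 1 := by
            have : ∀ n < 7, 0 < n → ∃ m < 7, n * m % 7 = 1 := by decide
            obtain ⟨m, -, hm⟩ := this (j - i) (by omega) (by omega)
            exact ⟨m, hm⟩
          have hcm : Commute (x ^ (j - i)) tM := by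
            rw [h1]; exact (show Commute c tM from hc).mul_left (show Commute d tM from hd).inv_left
          have h3 := (hcm.pow_left m).eq
          rw [← pow_mul, pow_eq_pow_mod _ hx7, hm, pow_one] at h3
          exact D.t1 (congrArg Subtype.val (B.fixedFree hx7 hxA tM htA h3))
        rintro ⟨i, c⟩ ⟨j, d⟩ e
        rcases lt_trichotomy (i : ℕ) j with h | h | h
        · exact absurd e (key _ _ h j.2 _ _ c.2 d.2)
        · obtain rfl := Fin.ext h
          exact Prod.ext rfl (Subtype.ext (mul_left_cancel e))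
        · exact absurd e.symm (key _ _ h i.2 _ _ d.2 c.2)
      · intro k
        have hb : k * tM * k⁻¹ ≠ 1 := fun e => B.t1 (conj_eq_one_iff.1 e)
        obtain ⟨i, hi⟩ := B.transitive hx7 hxA htA t2M B.t1 (B.conj_mem htA k)
          (by rw [conj_pow, t2M, mul_one, mul_inv_cancel]) hb
        rw [pow_eq_pow_mod i hx7] at hi
        refine ⟨(⟨i % 7, Nat.mod_lt _ (by omega)⟩, ⟨(x ^ (i % 7))⁻¹ * k, ?_⟩), mul_inv_cancel_left _ _⟩
        calc (x ^ (i % 7))⁻¹ * k * tM = (x ^ (i % 7))⁻¹ * (k * tM * k⁻¹) * k := by group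
          _ = tM * ((x ^ (i % 7))⁻¹ * k) := by rw [← hi]; group
    have h7 := Nat.card_eq_of_bijective F hFbij
    rw [Nat.card_prod, Nat.card_fin, cardM] at h7
    have e : {k : M // k * tM = tM * k} ≃ ↥(H ⊓ normalizer (V : Set G)) :=
      { toFun := fun k => ⟨k.1, (hHmem _).2 (congrArg Subtype.val k.2),
          (congrArg ((k.1 : G) ∈ ·) hM).mp k.1.2⟩
        invFun := fun g => ⟨⟨g, hM ▸ g.2.2⟩, Subtype.ext ((hHmem _).1 g.2.1)⟩
        left_inv := fun k => rfl
        right_inv := fun g => rfl }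
    rw [← Nat.card_congr e]
    omega
  have self_cent : ∀ h, h * t = t * h → (∀ r ∈ R, h * r = r * h) → h ∈ R := by
    intro h hh hall
    by_contra hR'
    set Q := Cfsg.pCore 2 H with hQdef
    let π : H →* Equiv.Perm (Fin 5) := eH.toMonoidHom.comp (QuotientGroup.mk' Q)
    have hπs : Function.Surjective π :=
      eH.surjective.comp (QuotientGroup.mk'_surjective Q)
    have hπk : ∀ q ∈ Q, π q = 1 := fun q hq => by
      show eH (QuotientGroup.mk' Q q) = 1
      rw [show QuotientGroup.mk' Q q = 1 from (QuotientGroup.eq_one_iff q).2 hq, map_one]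
    let Dc : Subgroup H := centralizer (Q : Set H)
    haveI : Dc.Normal := inferInstance
    haveI : (Dc.map π).Normal := Subgroup.Normal.map inferInstance π hπs
    have hne : Dc.map π ≠ ⊥ := fun e => by
      have hd : (⟨h, (hHmem h).2 hh⟩ : H) ∈ Dc := mem_centralizer_iff.2 fun q hq =>
        Subtype.ext (hall q (hR ▸ mem_map_of_mem _ hq)).symm
      have h1 : π ⟨h, (hHmem h).2 hh⟩ = 1 := mem_bot.1 (e ▸ mem_map_of_mem π hd)
      have h2 : (⟨h, (hHmem h).2 hh⟩ : H) ∈ Q :=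
        (QuotientGroup.eq_one_iff _).1 ((map_eq_one_iff eH eH.injective).1 h1)
      exact hR' (hR ▸ mem_map_of_mem H.subtype h2)
    have h60 := GFrameAux.sixty_le (Dc.map π) hne
    have hDN : ∀ d ∈ Dc, (d : G) ∈ normalizer (V : Set G) := fun d hd => by
      have hdv : ∀ v ∈ V, (d : G) * v * (d : G)⁻¹ = v := fun v hv => by
        obtain ⟨q, hq, hqv⟩ := (hR ▸ hVR hv : v ∈ Q.map H.subtype)
        subst hqv
        have : ((q : G)) * d = d * q := congrArg Subtype.val (mem_centralizer_iff.1 hd q hq)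
        show (d : G) * q * (d : G)⁻¹ = q
        rw [← this, mul_inv_cancel_right]
      rw [mem_normalizer_iff]
      refine fun v => ⟨fun hv => (hdv v hv).symm ▸ hv, fun hv => ?_⟩
      have h2 : (d : G) * v * (d : G)⁻¹ = v := mul_left_cancel (mul_right_cancel (hdv _ hv))
      rwa [h2] at hv
    let f : Dc.map π × Q → ↥(H ⊓ normalizer (V : Set G)) := fun p =>
      ⟨((Classical.choose (mem_map.1 p.1.2) : H) : G) * ((p.2 : H) : G),
        mul_mem (Classical.choose (mem_map.1 p.1.2) : H).2 (p.2 : H).2,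
        mul_mem (hDN _ (Classical.choose_spec (mem_map.1 p.1.2)).1)
          (Vnorm (hR ▸ mem_map_of_mem H.subtype p.2.2))⟩
    have hf : Function.Injective f := by
      intro p q e
      have e' : (Classical.choose (mem_map.1 p.1.2) : H) * (p.2 : H)
          = Classical.choose (mem_map.1 q.1.2) * (q.2 : H) :=
        Subtype.ext (congrArg (fun z : ↥(H ⊓ normalizer (V : Set G)) => (z : G)) e)
      have e1 : (p.1 : Equiv.Perm (Fin 5)) = q.1 := by
        have := congrArg π e'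
        rwa [map_mul, map_mul, hπk _ p.2.2, hπk _ q.2.2, mul_one, mul_one,
          (Classical.choose_spec (mem_map.1 p.1.2)).2, (Classical.choose_spec (mem_map.1 q.1.2)).2] at this
      obtain ⟨⟨s, hs⟩, a⟩ := p
      obtain ⟨⟨s', hs'⟩, b⟩ := q
      obtain rfl : s = s' := e1
      exact Prod.ext rfl (Subtype.ext (mul_left_cancel e'))
    have := Nat.card_le_card_of_injective f hf
    rw [Nat.card_prod, cardQ, cardNC] at this
    omega
  have five : ∃ g, g * t = t * g ∧ g ^ 5 = 1 ∧ g ∉ normalizer (V : Set G) := by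
    haveI : Fact (Nat.Prime 5) := ⟨by norm_num⟩
    obtain ⟨g, hg⟩ := exists_prime_orderOf_dvd_card' (G := H) 5 (by rw [cardC]; norm_num)
    refine ⟨g, (hHmem _).1 g.2, ?_, fun hn => ?_⟩
    · rw [← hg, ← SubgroupClass.coe_pow, pow_orderOf_eq_one]; rfl
    · have := Subgroup.orderOf_dvd_natCard (H ⊓ normalizer (V : Set G)) (x := (g : G)) ⟨g.2, hn⟩
      rw [cardNC, Subgroup.orderOf_coe, hg] at this
      omega
  refine ⟨⟨htR, D.card, Rle, Rnorm, D.sq, D.comm, cardC, tV, hVR, hVcard, hVexp, Vnorm, cardNC,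
    self_cent, five⟩, htM, htA, hnc, ?_⟩
  obtain ⟨r, hr, hr2, hrV⟩ := GFrameAux.exists_outside D hVcard hVR
  refine ⟨⟨r, hM ▸ Vnorm hr⟩, hr, Subtype.ext hr2, fun hA => hrV (hinvA _ hA ?_)⟩
  rw [pow_two]
  exact Subtype.ext hr2

end Cfsg.Agent.HSLocal.Coord
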