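import Cfsg.Agent.Lib.HSLocal.Coord.HGen

/-!
The action of an element of `C(t)` on the core modulo `⟨e⟩`, as a packed map of the sixteen classes.
-/

set_option autoImplicit false
set_option maxRecDepth 100000
set_option linter.unusedSectionVars false

namespace Cfsg.Agent.HSLocal.Coord

open Subgroup

theorem clsZero_ok : ∀ a ∈ [0, 4], ((coreL a).all fun n => Nat.beq (clsC a n) 0 == Nat.blt n 4) = true ∧
    ([0, 1, 2, 3, 8, 32, genR a, genQ a].all fun n => memB n (coreL a)) = true := by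
  decide +kernel

variable {a : ℕ} (ha : a = 0 ∨ a = 4)

theorem mem_pair (ha : a = 0 ∨ a = 4) : a ∈ [0, 4] := by rcases ha with rfl | rfl <;> simp

include ha

theorem coreL_core : coreL a = coreList a := coreL_eq a (mem_pair ha)

theorem isB_core {n : ℕ} (hn : n ∈ coreL a) : isB n = true := by
  rw [coreL_core ha] at hn
  exact List.all_eq_true.1 (coreList_ok a (mem_pair ha)).2.2.2 n hn

theorem lt_core {n : ℕ} (hn : n ∈ coreL a) : n < 10752 := (isB_iff.1 (isB_core ha hn)).1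

theorem repC_mem {x : ℕ} (hx : x < 16) : repC a x ∈ coreL a ∧ clsC a (repC a x) = x := by
  have h := repC_ok a (mem_pair ha)
  rw [Bool.and_eq_true] at h
  have := List.all_eq_true.1 h.1 x (List.mem_range.2 hx)
  simpa [memB_iff] using this

theorem clsC_lt {n : ℕ} (hn : n ∈ coreL a) : clsC a n < 16 := by
  have h := repC_ok a (mem_pair ha)
  rw [Bool.and_eq_true] at h
  have := List.all_eq_true.1 (of_decide_eq_true h.2) n hn
  simp only [Bool.and_eq_true, Nat.blt, Nat.ble_eq] at this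
  exact this.1

theorem clsC_mul {p q : ℕ} (hp : p ∈ coreL a) (hq : q ∈ coreL a) :
    clsC a (mulB 0 p q) = Nat.xor (clsC a p) (clsC a q) ∧ mulB 0 p q ∈ coreL a ∧
      formC a (clsC a p) (clsC a q) = Nat.beq (commB 0 p q) 0 := by
  have hs : clsHomB a = true := by
    rcases ha with rfl | rfl
    · exact clsHom0
    · exact clsHom4
  have := List.all_eq_true.1 (List.all_eq_true.1 hs p hp) q hq
  simpa [memB_iff, and_assoc] using this

theorem clsC_zero {n : ℕ} (hn : n ∈ coreL a) : clsC a n = 0 ↔ n < 4 := by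
  have := List.all_eq_true.1 (clsZero_ok a (mem_pair ha)).1 n hn
  rw [beq_iff_eq] at this
  rw [← Nat.beq_eq, this]
  simp [Nat.blt]

theorem gen_mem {n : ℕ} (hn : n ∈ [0, 1, 2, 3, 8, 32, genR a, genQ a]) : n ∈ coreL a :=
  memB_iff.1 (List.all_eq_true.1 (clsZero_ok a (mem_pair ha)).2 n hn)

variable {G : Type*} [Group G] [Finite G] {t : G} {R V : Subgroup G} (F : GFrame t R V) (C : RCoord t R V a)
include C

theorem RCoord.mem (g : G) : g ∈ R ↔ ∃ n ∈ coreL a, C.P.el n = g := by rw [C.memR, coreL_core ha]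

theorem RCoord.el_mem {n : ℕ} (hn : n ∈ coreL a) : C.P.el n ∈ R := (C.mem ha _).2 ⟨n, hn, rfl⟩

theorem RCoord.el_mul {p q : ℕ} (hp : p ∈ coreL a) (hq : q ∈ coreL a) :
    C.P.el (mulB 0 p q) = C.P.el p * C.P.el q := C.P.el_mulB zero_le_one (isB_core ha hp) (isB_core ha hq)

theorem RCoord.el_inj {p q : ℕ} (hp : p ∈ coreL a) (hq : q ∈ coreL a) (e : C.P.el p = C.P.el q) : p = q :=
  C.inj p (lt_core ha hp) q (lt_core ha hq) e

theorem RCoord.beq_comm {p q : ℕ} (hp : p ∈ coreL a) (hq : q ∈ coreL a) :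
    Nat.beq (commB 0 p q) 0 = true ↔ C.P.el p * C.P.el q = C.P.el q * C.P.el p := by
  have hB := commB_isB zero_le_one (isB_core ha hp) (isB_core ha hq)
  have he := C.P.el_commB zero_le_one (isB_core ha hp) (isB_core ha hq)
  rw [Nat.beq_eq]
  constructor
  · intro h
    rw [h, C.P.el_zero] at he
    exact (mul_inv_eq_iff_eq_mul.1 (mul_inv_eq_one.1 he.symm))
  · intro h
    refine C.inj _ (isB_iff.1 hB).1 0 (by norm_num) ?_
    rw [he, C.P.el_zero, h, mul_inv_cancel_right, mul_inv_cancel]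

theorem RCoord.commute_t {n : ℕ} (hn : isB n = true) : C.P.el n * t = t * C.P.el n :=
  (C.memB n (isB_iff.1 hn).1).2 hn

include F

/-- The code of the image of a code under conjugation. -/
theorem RCoord.exists_img {h : G} (hh : h * t = t * h) {n : ℕ} (hn : n ∈ coreL a) :
    ∃ m ∈ coreL a, C.P.el m = h * C.P.el n * h⁻¹ :=
  (C.mem ha _).1 (F.Rnorm h hh _ (C.el_mem ha hn))

/-- A code of a central element is a power of `e`. -/
theorem RCoord.central_lt {n : ℕ} (hn : n ∈ coreL a)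
    (h : ∀ k ∈ coreL a, C.P.el n * C.P.el k = C.P.el k * C.P.el n) : n < 4 := by
  have := List.all_eq_true.1 (center_ok a (mem_pair ha)) n hn
  simp only [Bool.or_eq_true, Bool.not_eq_true', Nat.blt, Nat.ble_eq] at this
  refine this.resolve_right fun hc => ?_
  rw [List.all_eq_false] at hc
  obtain ⟨k, hk, hne⟩ := hc
  refine hne ?_
  rw [Nat.beq_eq]
  refine C.el_inj ha (clsC_mul ha hn hk).2.1 (clsC_mul ha hk hn).2.1 ?_
  rw [C.el_mul ha hn hk, C.el_mul ha hk hn, h k hk]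

theorem RCoord.lt_central {n : ℕ} (hn : n < 4) (k : ℕ) (hk : k ∈ coreL a) :
    C.P.el n * C.P.el k = C.P.el k * C.P.el n := by
  have hm : n ∈ coreL a := gen_mem ha (by interval_cases n <;> simp)
  rw [← C.beq_comm ha hm hk, ← (clsC_mul ha hm hk).2.2, (clsC_zero ha hm).2 hn]
  have key : ∀ a ∈ [0, 4], ∀ x < 16, formC a 0 x = true := by decide +kernel
  exact key a (mem_pair ha) _ (clsC_lt ha hk)

theorem RCoord.img_lt {h : G} (hh : h * t = t * h) {n m : ℕ} (hn : n < 4) (hm : m ∈ coreL a)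
    (he : C.P.el m = h * C.P.el n * h⁻¹) : m < 4 := by
  refine C.central_lt ha F hm fun k hk => ?_
  have hh' : h⁻¹ * t = t * h⁻¹ := (show Commute h t from hh).inv_left.eq
  obtain ⟨k', hk', hke⟩ := C.exists_img ha F hh' hk
  have hc := C.lt_central ha F hn k' hk'
  rw [hke] at hc
  rw [he]
  calc h * C.P.el n * h⁻¹ * C.P.el k = h * (C.P.el n * (h⁻¹ * C.P.el k * h⁻¹⁻¹)) * h⁻¹ := by group
    _ = h * ((h⁻¹ * C.P.el k * h⁻¹⁻¹) * C.P.el n) * h⁻¹ := by rw [hc]
    _ = _ := by group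

omit F

/-- Conjugation by `h` induces the map `L` on classes. -/
def RCoord.Act (h : G) (L : ℕ) : Prop :=
  L = mkL (nib L 0) (nib L 1) (nib L 2) (nib L 3) ∧
    ∀ n ∈ coreL a, ∀ m ∈ coreL a, C.P.el m = h * C.P.el n * h⁻¹ → clsC a m = appL L (clsC a n)

omit ha C

theorem nib_mkL {p q r u : ℕ} (hp : p < 16) (hq : q < 16) (hr : r < 16) (hu : u < 16) :
    nib (mkL p q r u) 0 = p ∧ nib (mkL p q r u) 1 = q ∧ nib (mkL p q r u) 2 = r ∧ nib (mkL p q r u) 3 = u := by
  unfold nib mkL; omega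

theorem nib_lt (L i : ℕ) : nib L i < 16 := Nat.mod_lt _ (by norm_num)

theorem appL_basis (L : ℕ) : appL L 1 = nib L 0 ∧ appL L 2 = nib L 1 ∧ appL L 4 = nib L 2 ∧
    appL L 8 = nib L 3 := by
  refine ⟨?_, ?_, ?_, ?_⟩ <;> simp [appL]

theorem additive_eq {f : ℕ → ℕ} (h : ∀ x < 16, ∀ y < 16, f (Nat.xor x y) = Nat.xor (f x) (f y))
    {x : ℕ} (hx : x < 16) (hlt : ∀ y < 16, f y < 16) : f x = appL (mkL (f 1) (f 2) (f 4) (f 8)) x := by
  obtain ⟨e1, e2, e3, e4⟩ := nib_mkL (hlt 1 (by norm_num)) (hlt 2 (by norm_num)) (hlt 4 (by norm_num))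
    (hlt 8 (by norm_num))
  have h0 : f 0 = 0 := by
    have := h 0 (by norm_num) 0 (by norm_num)
    change f (0 ^^^ 0) = f 0 ^^^ f 0 at this
    rwa [Nat.xor_self, Nat.xor_self] at this
  have hd : x = Nat.xor (Nat.xor (x % 2 * 1) (x / 2 % 2 * 2)) (Nat.xor (x / 4 % 2 * 4) (x / 8 % 2 * 8)) := by
    revert x; decide
  rw [appL, e1, e2, e3, e4]
  conv_lhs => rw [hd]
  have hb : ∀ b, b < 2 → ∀ w, f (b * w) = b * f w := fun b hb w => by
    interval_cases b <;> simp [h0]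
  have k1 : x % 2 * 1 < 16 ∧ x / 2 % 2 * 2 < 16 ∧ x / 4 % 2 * 4 < 16 ∧ x / 8 % 2 * 8 < 16 := by omega
  have hx' : ∀ u < 16, ∀ v < 16, Nat.xor u v < 16 := by decide +kernel
  rw [h _ (hx' _ k1.1 _ k1.2.1) _ (hx' _ k1.2.2.1 _ k1.2.2.2), h _ k1.1 _ k1.2.1, h _ k1.2.2.1 _ k1.2.2.2,
    hb _ (Nat.mod_lt _ (by norm_num)), hb _ (Nat.mod_lt _ (by norm_num)), hb _ (Nat.mod_lt _ (by norm_num)),
    hb _ (Nat.mod_lt _ (by norm_num))]

include ha C F

theorem RCoord.exists_act {h : G} (hh : h * t = t * h) : ∃ L, C.Act h L := by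
  classical
  let φ : ℕ → ℕ := fun n => if hn : n ∈ coreL a then (C.exists_img ha F hh hn).choose else 0
  have hφ : ∀ n ∈ coreL a, φ n ∈ coreL a ∧ C.P.el (φ n) = h * C.P.el n * h⁻¹ := fun n hn => by
    simp only [φ, dif_pos hn]
    exact (C.exists_img ha F hh hn).choose_spec
  have hmul : ∀ p ∈ coreL a, ∀ q ∈ coreL a,
      clsC a (φ (mulB 0 p q)) = Nat.xor (clsC a (φ p)) (clsC a (φ q)) := by
    intro p hp q hq
    obtain ⟨-, hpq, -⟩ := clsC_mul ha hp hq
    have : φ (mulB 0 p q) = mulB 0 (φ p) (φ q) := by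
      refine C.el_inj ha (hφ _ hpq).1 (clsC_mul ha (hφ p hp).1 (hφ q hq).1).2.1 ?_
      rw [(hφ _ hpq).2, C.el_mul ha hp hq, C.el_mul ha (hφ p hp).1 (hφ q hq).1, (hφ p hp).2, (hφ q hq).2]
      group
    rw [this, (clsC_mul ha (hφ p hp).1 (hφ q hq).1).1]
  have hzero : ∀ d ∈ coreL a, clsC a d = 0 → clsC a (φ d) = 0 := fun d hd h0 =>
    (clsC_zero ha (hφ d hd).1).2 (C.img_lt ha F hh ((clsC_zero ha hd).1 h0) (hφ d hd).1 (hφ d hd).2)
  have hx' : ∀ u < 16, ∀ v < 16, Nat.xor u v < 16 := by decide +kernel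
  have hxx : ∀ u < 16, ∀ v < 16, Nat.xor u v = 0 → u = v := by decide +kernel
  have hwell : ∀ p ∈ coreL a, ∀ q ∈ coreL a, clsC a p = clsC a q → clsC a (φ p) = clsC a (φ q) := by
    intro p hp q hq e
    refine hxx _ (clsC_lt ha (hφ p hp).1) _ (clsC_lt ha (hφ q hq).1) ?_
    rw [← hmul p hp q hq]
    refine hzero _ (clsC_mul ha hp hq).2.1 ?_
    rw [(clsC_mul ha hp hq).1, e]
    exact Nat.xor_self _
  let f : ℕ → ℕ := fun x => clsC a (φ (repC a x))
  have hf : ∀ x < 16, f x < 16 := fun x hx => clsC_lt ha (hφ _ (repC_mem ha hx).1).1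
  have hadd : ∀ x < 16, ∀ y < 16, f (Nat.xor x y) = Nat.xor (f x) (f y) := by
    intro x hx y hy
    obtain ⟨hxm, hxc⟩ := repC_mem ha hx
    obtain ⟨hym, hyc⟩ := repC_mem ha hy
    show clsC a (φ _) = _
    rw [← hmul _ hxm _ hym]
    refine hwell _ (repC_mem ha (hx' _ hx _ hy)).1 _ (clsC_mul ha hxm hym).2.1 ?_
    rw [(repC_mem ha (hx' _ hx _ hy)).2, (clsC_mul ha hxm hym).1, hxc, hyc]
  refine ⟨mkL (f 1) (f 2) (f 4) (f 8), ?_, fun n hn m hm e => ?_⟩
  · obtain ⟨e1, e2, e3, e4⟩ := nib_mkL (hf 1 (by norm_num)) (hf 2 (by norm_num)) (hf 4 (by norm_num))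
      (hf 8 (by norm_num))
    rw [e1, e2, e3, e4]
  · have hc := clsC_lt ha hn
    rw [← additive_eq hadd hc hf, C.el_inj ha hm (hφ n hn).1 (by rw [e, (hφ n hn).2])]
    exact hwell n hn _ (repC_mem ha hc).1 (repC_mem ha hc).2.symm

theorem RCoord.act_nib {h : G} (hh : h * t = t * h) {L : ℕ} (hA : C.Act h L) {i x : ℕ}
    (hi : appL L x = nib L i) (hx : x < 16) :
    ∃ m ∈ coreL a, C.P.el m = h * C.P.el (repC a x) * h⁻¹ ∧ clsC a m = nib L i := by
  obtain ⟨m, hm, he⟩ := C.exists_img ha F hh (repC_mem ha hx).1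
  exact ⟨m, hm, he, by rw [hA.2 _ (repC_mem ha hx).1 m hm he, (repC_mem ha hx).2, hi]⟩

/-- The action is unique. -/
theorem RCoord.act_unique {h : G} (hh : h * t = t * h) {L K : ℕ} (hL : C.Act h L) (hK : C.Act h K) :
    L = K := by
  obtain ⟨a1, a2, a3, a4⟩ := appL_basis L
  obtain ⟨b1, b2, b3, b4⟩ := appL_basis K
  have key : ∀ {i x}, x < 16 → appL L x = nib L i → appL K x = nib K i → nib L i = nib K i := by
    intro i x hx e1 e2
    obtain ⟨m, hm, he, hc⟩ := C.act_nib ha F hh hL e1 hx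
    rw [← hc, hK.2 _ (repC_mem ha hx).1 m hm he, (repC_mem ha hx).2, e2]
  rw [hL.1, hK.1, key (by norm_num) a1 b1, key (by norm_num) a2 b2, key (by norm_num) a3 b3,
    key (by norm_num) a4 b4]

/-- The action of a product. -/
theorem RCoord.act_mul {h k : G} (hh : h * t = t * h) (hk : k * t = t * k) {L K : ℕ} (hL : C.Act h L)
    (hK : C.Act k K) : C.Act (h * k) (compL L K) := by
  have hhk : h * k * t = t * (h * k) := (show Commute h t from hh).mul_left hk
  obtain ⟨J, hJ⟩ := C.exists_act ha F hhk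
  suffices J = compL L K from this ▸ hJ
  obtain ⟨a1, a2, a3, a4⟩ := appL_basis J
  obtain ⟨b1, b2, b3, b4⟩ := appL_basis K
  have key : ∀ {i x}, x < 16 → appL J x = nib J i → appL K x = nib K i → nib J i = appL L (nib K i) := by
    intro i x hx e1 e2
    obtain ⟨m, hm, he, hc⟩ := C.act_nib ha F hk hK e2 hx
    obtain ⟨m', hm', he'⟩ := C.exists_img ha F hh hm
    rw [← hc, ← hL.2 m hm m' hm' he', ← e1, ← (repC_mem ha hx).2]
    refine (hJ.2 _ (repC_mem ha hx).1 m' hm' ?_).symm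
    rw [he', he]; group
  rw [hJ.1, compL, key (by norm_num) a1 b1, key (by norm_num) a2 b2, key (by norm_num) a3 b3,
    key (by norm_num) a4 b4]

theorem RCoord.act_one : C.Act (1 : G) idL := by
  refine ⟨by decide +kernel, fun n hn m hm e => ?_⟩
  rw [one_mul, inv_one, mul_one] at e
  have key : ∀ x < 16, appL idL x = x := by decide +kernel
  rw [C.el_inj ha hm hn e, key _ (clsC_lt ha hn)]

theorem RCoord.act_pow {h : G} (hh : h * t = t * h) {L : ℕ} (hL : C.Act h L) (k : ℕ) :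
    C.Act (h ^ k) (powL L k) := by
  induction k with
  | zero => rw [pow_zero]; exact C.act_one ha F
  | succ k ih => rw [pow_succ]; exact C.act_mul ha F ((show Commute h t from hh).pow_left k) hh ih hL

/-- The action of a code of the stabiliser. -/
theorem RCoord.act_el {n : ℕ} (hn : isB n = true) : C.Act (C.P.el n) (cmapC a n) := by
  obtain ⟨L, hL⟩ := C.exists_act ha F (C.commute_t ha hn)
  suffices L = cmapC a n from this ▸ hL
  obtain ⟨a1, a2, a3, a4⟩ := appL_basis L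
  have key : ∀ {i x}, x < 16 → appL L x = nib L i → nib L i = clsC a (cjB 0 n (repC a x)) := by
    intro i x hx e1
    obtain ⟨m, hm, he, hc⟩ := C.act_nib ha F (C.commute_t ha hn) hL e1 hx
    have hB := isB_core ha (repC_mem ha hx).1
    rw [← hc, C.inj m (lt_core ha hm) _ (isB_iff.1 (cjB_isB zero_le_one hn hB)).1
      (by rw [he, C.P.el_cjB zero_le_one hn hB])]
  rw [hL.1, cmapC, key (by norm_num) a1, key (by norm_num) a2, key (by norm_num) a3, key (by norm_num) a4]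

/-- The action preserves commutation of classes. -/
theorem RCoord.act_form {h : G} (hh : h * t = t * h) {L : ℕ} (hL : C.Act h L) {x y : ℕ}
    (hx : x < 16) (hy : y < 16) : formC a (appL L x) (appL L y) = formC a x y := by
  obtain ⟨m, hm, hme⟩ := C.exists_img ha F hh (repC_mem ha hx).1
  obtain ⟨k, hk, hke⟩ := C.exists_img ha F hh (repC_mem ha hy).1
  have e1 := hL.2 _ (repC_mem ha hx).1 m hm hme
  have e2 := hL.2 _ (repC_mem ha hy).1 k hk hke
  rw [(repC_mem ha hx).2] at e1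
  rw [(repC_mem ha hy).2] at e2
  have f1 := (clsC_mul ha hm hk).2.2
  have f2 := (clsC_mul ha (repC_mem ha hx).1 (repC_mem ha hy).1).2.2
  rw [e1, e2] at f1
  rw [(repC_mem ha hx).2, (repC_mem ha hy).2] at f2
  rw [f1, f2, Bool.eq_iff_iff, C.beq_comm ha hm hk,
    C.beq_comm ha (repC_mem ha hx).1 (repC_mem ha hy).1, hme, hke]
  constructor
  · intro e
    have : h * (C.P.el (repC a x) * C.P.el (repC a y)) * h⁻¹ =
        h * (C.P.el (repC a y) * C.P.el (repC a x)) * h⁻¹ := by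
      calc _ = h * C.P.el (repC a x) * h⁻¹ * (h * C.P.el (repC a y) * h⁻¹) := by group
        _ = _ := by rw [e]; group
    exact mul_left_cancel (mul_right_cancel this)
  · intro e
    calc _ = h * (C.P.el (repC a x) * C.P.el (repC a y)) * h⁻¹ := by group
      _ = _ := by rw [e]; group

end Cfsg.Agent.HSLocal.Coord
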