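import Cfsg.Agent.Lib.HSLocal.Coord.HShapeAux

/-!
The centraliser of `t` is the product of the stabiliser of `V` and a group of order five with known action.
-/

set_option autoImplicit false
set_option maxRecDepth 100000
set_option linter.unusedSectionVars false

namespace Cfsg.Agent.HSLocal.Coord

open Subgroup

theorem alphaC_gens : alphaC 1 = 1 ∧
    ∀ i < 4, alphaC ([8, 32, genR 0, genQ 0].getD i 0) = HData.alpha.getD (i + 1) 0 := by
  decide +kernel

theorem alpha_isB : HData.alpha.all isB = true := by decide +kernel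

theorem codeY1_pin : ∀ d < 4, (Nat.beq (mulB 0 (mulB 0 (mulB 0 codeY1 d) (mulB 0 codeY1 d)) (mulB 0 codeY1 d)) 0)
    = true → d = 0 := by
  decide +kernel

theorem codes_isB : isB codeY1 = true ∧ isB codeZ = true ∧ codeY < 10752 ∧
    isB (invB 0 codeZ) = true := by
  decide +kernel

variable {G : Type*} [Group G] [Finite G] {t : G} {R V : Subgroup G}

/-- The value of `alphaC`. -/
theorem RCoord.el_alphaC (F : GFrame t R V) (C : RCoord t R V 0) (n : ℕ) :
    C.P.el (alphaC n) = C.P.el 1 ^ (HData.core0.idxOf n % 4) *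
      C.P.el (HData.alpha.getD 1 0) ^ (HData.core0.idxOf n / 4 % 2) *
      C.P.el (HData.alpha.getD 2 0) ^ (HData.core0.idxOf n / 8 % 2) *
      C.P.el (HData.alpha.getD 3 0) ^ (HData.core0.idxOf n / 16 % 2) *
      C.P.el (HData.alpha.getD 4 0) ^ (HData.core0.idxOf n / 32 % 2) := by
  have hB : ∀ i, i < 4 → isB (HData.alpha.getD (i + 1) 0) = true := fun i hi =>
    isB_core (Or.inl rfl) (alpha_gens i hi).1
  exact C.el_five (Or.inl rfl) F (hB 0 (by norm_num)) (hB 1 (by norm_num)) (hB 2 (by norm_num))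
    (hB 3 (by norm_num)) _

/-- An element with the prescribed action on five generators acts by `alphaC`. -/
theorem RCoord.conj_alpha (F : GFrame t R V) (C : RCoord t R V 0) {h : G}
    (h1 : h * C.P.el 1 * h⁻¹ = C.P.el 1)
    (hg : ∀ i < 4, h * C.P.el ([8, 32, genR 0, genQ 0].getD i 0) * h⁻¹ =
      C.P.el (HData.alpha.getD (i + 1) 0))
    {n : ℕ} (hn : n ∈ coreL 0) : h * C.P.el n * h⁻¹ = C.P.el (alphaC n) := by
  have ha : (0 : ℕ) = 0 ∨ (0 : ℕ) = 4 := Or.inl rfl
  have hn' : n ∈ HData.core0 := hn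
  have hi : HData.core0.idxOf n < 64 := by
    have h1 := List.idxOf_lt_length_iff.2 hn'
    have h2 : (coreL 0).length = 64 := coreL_len 0 (by simp)
    exact lt_of_lt_of_eq h1 h2
  rw [C.el_alphaC F n]
  have hp := List.all_eq_true.1 (prodC_ok 0 (by simp)) _ (List.mem_range.2 hi)
  rw [Nat.beq_eq, show coreL 0 = HData.core0 from rfl,
    List.getD_eq_getElem _ _ (List.idxOf_lt_length_iff.2 hn'), List.getElem_idxOf] at hp
  generalize HData.core0.idxOf n = i at hp hi
  have hB : ∀ i, i < 4 → isB ([8, 32, genR 0, genQ 0].getD i 0) = true := fun i hi => by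
    interval_cases i <;> exact isB_core ha (gen_mem ha (by simp))
  have he : C.P.el n = C.P.el 1 ^ (i % 4) * C.P.el 8 ^ (i / 4 % 2) * C.P.el 32 ^ (i / 8 % 2) *
      C.P.el (genR 0) ^ (i / 16 % 2) * C.P.el (genQ 0) ^ (i / 32 % 2) := by
    rw [← C.el_five ha F (p := 8) (q := 32) (r := genR 0) (u := genQ 0) (hB 0 (by norm_num))
      (hB 1 (by norm_num)) (hB 2 (by norm_num)) (hB 3 (by norm_num)) i, ← hp]
    simp [prodC]
  rw [he]
  have q1 : h * C.P.el 8 * h⁻¹ = _ := hg 0 (by norm_num)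
  have q2 : h * C.P.el 32 * h⁻¹ = _ := hg 1 (by norm_num)
  have q3 : h * C.P.el (genR 0) * h⁻¹ = _ := hg 2 (by norm_num)
  have q4 : h * C.P.el (genQ 0) * h⁻¹ = _ := hg 3 (by norm_num)
  calc h * (C.P.el 1 ^ (i % 4) * C.P.el 8 ^ (i / 4 % 2) * C.P.el 32 ^ (i / 8 % 2) *
        C.P.el (genR 0) ^ (i / 16 % 2) * C.P.el (genQ 0) ^ (i / 32 % 2)) * h⁻¹
      = (h * C.P.el 1 * h⁻¹) ^ (i % 4) * (h * C.P.el 8 * h⁻¹) ^ (i / 4 % 2) *
        (h * C.P.el 32 * h⁻¹) ^ (i / 8 % 2) * (h * C.P.el (genR 0) * h⁻¹) ^ (i / 16 % 2) *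
        (h * C.P.el (genQ 0) * h⁻¹) ^ (i / 32 % 2) := by
          rw [conj_pow, conj_pow, conj_pow, conj_pow, conj_pow]; group
    _ = _ := by rw [h1, q1, q2, q3, q4]

/-- The facts about `alphaC` that are used. -/
theorem alphaC_facts {n : ℕ} (hn : n ∈ coreL 0) : alphaC n ∈ coreL 0 ∧
    clsC 0 (alphaC n) = appL targetA (clsC 0 n) ∧
    alphaC (alphaC (alphaC (alphaC (alphaC n)))) = n ∧
    alphaC (cjB 0 codeY n) = cjB 0 codeY1 (alphaC n) ∧
    cjB 0 codeZ (alphaC n) = alphaC (alphaC (cjB 0 codeZ n)) := by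
  have h := List.all_eq_true.1 alpha_ok n hn
  simp only [Bool.and_eq_true, Nat.beq_eq, memB_iff, and_assoc] at h
  exact h

/-- Coordinates, given an element of order five acting on the classes by the first target. -/
theorem RCoord.hgen_of_act (F : GFrame t R V) (C : RCoord t R V 0) {g : G} (gt : g * t = t * g)
    (g5 : g ^ 5 = 1) (hA : C.Act g targetA) : Nonempty (HGen t R V) := by
  have ha : (0 : ℕ) = 0 ∨ (0 : ℕ) = 4 := Or.inl rfl
  obtain ⟨r, hr, hre, hri⟩ := C.lift ha F lift_alpha gt (C.fix_e ha F gt g5) hA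
    (fun i hi => (alpha_gens i hi).1) (fun i hi => (alpha_gens i hi).2)
  obtain ⟨k, hk⟩ : ∃ k, k = C.P.el r * g := ⟨_, rfl⟩
  rw [← hk] at hre hri
  have kt : k * t = t * k := hk ▸
    (show Commute (C.P.el r) t from C.commute_t ha (isB_core ha hr)).mul_left gt
  have hconj : ∀ n ∈ coreL 0, k * C.P.el n * k⁻¹ = C.P.el (alphaC n) := fun n hn =>
    C.conj_alpha F hre hri hn
  have hpow : ∀ n ∈ coreL 0, k ^ 5 * C.P.el n * (k ^ 5)⁻¹ = C.P.el n := fun n hn => by
    have m1 := (alphaC_facts hn).1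
    have m2 := (alphaC_facts m1).1
    have m3 := (alphaC_facts m2).1
    have m4 := (alphaC_facts m3).1
    calc k ^ 5 * C.P.el n * (k ^ 5)⁻¹ = k * (k * (k * (k * (k * C.P.el n * k⁻¹) * k⁻¹) * k⁻¹) * k⁻¹) * k⁻¹ := by
          simp only [pow_succ, pow_zero, one_mul]; group
      _ = _ := by rw [hconj n hn, hconj _ m1, hconj _ m2, hconj _ m3, hconj _ m4, (alphaC_facts hn).2.2.1]
  obtain ⟨d, hd, hde⟩ := C.central_code ha F ((show Commute k t from kt).pow_left 5)
    fun n hn => mul_inv_eq_iff_eq_mul.1 (hpow n hn)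
  obtain ⟨g', hg'⟩ : ∃ g', g' = k * (k ^ 5) ^ 3 := ⟨_, rfl⟩
  have g't : g' * t = t * g' := hg' ▸
    (show Commute k t from kt).mul_left (((show Commute k t from kt).pow_left 5).pow_left 3)
  have g'5 : g' ^ 5 = 1 := by
    rw [hg', ← pow_mul, ← pow_succ', ← pow_mul, show (5 * 3 + 1) * 5 = 5 * (4 * 4) by norm_num, pow_mul, pow_mul,
      ← hde, C.el_small ha F hd]
    have e4 : C.P.el 1 ^ 4 = 1 := by rw [C.P.el_one]; exact C.P.abel.e4
    simp only [← pow_mul]
    rw [show d * 4 * 4 = 4 * (4 * d) by ring, pow_mul, e4, one_pow]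
  have hconj' : ∀ n ∈ coreL 0, g' * C.P.el n * g'⁻¹ = C.P.el (alphaC n) := fun n hn => by
    have hc : Commute (k ^ 5) (C.P.el n) := mul_inv_eq_iff_eq_mul.1 (hpow n hn)
    calc g' * C.P.el n * g'⁻¹ = k * ((k ^ 5) ^ 3 * C.P.el n * ((k ^ 5) ^ 3)⁻¹) * k⁻¹ := by rw [hg']; group
      _ = _ := by rw [(hc.pow_left 3).eq, mul_inv_cancel_right, hconj n hn]
  have hA' : C.Act g' targetA := by
    refine ⟨twL_ok.1, fun n hn m hm e => ?_⟩
    rw [hconj' n hn] at e
    rw [C.el_inj ha hm (alphaC_facts hn).1 e, (alphaC_facts hn).2.1]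
  have g'N : g' ∉ normalizer (V : Set G) := fun hmem => by
    obtain ⟨n, hn, hne⟩ := (C.memN _).1 hmem
    have hnB : isB n = true := (C.memB n hn).1 (hne ▸ g't)
    have hu := C.act_unique ha F g't hA' (hne ▸ C.act_el ha F hnB)
    have hs := List.all_eq_true.1 (List.all_eq_true.1 imgB0 _ (List.mem_range.2 (isB_iff.1 hnB).2))
      (n % 64) (List.mem_range.2 (Nat.mod_lt _ (by norm_num)))
    rw [qb_get hnB, Nat.div_add_mod n 64, ← hu, target_not_img.1] at hs
    exact Bool.false_ne_true hs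
  have hcont : ∀ p q, p ∈ coreL 0 → q = p → C.P.el q = C.P.el p := fun p q _ e => by rw [e]
  have hy : C.P.y * t = t * C.P.y := by
    rw [← C.P.el_codeY]; exact C.commute_t ha isB_codeY
  have hgy : g' * C.P.y = C.P.el codeY1 * g' := by
    obtain ⟨w, hw⟩ : ∃ w, w = (C.P.el codeY1)⁻¹ * (g' * C.P.y * g'⁻¹) := ⟨_, rfl⟩
    have g'i : g'⁻¹ * t = t * g'⁻¹ := (show Commute g' t from g't).inv_left.eq
    have hwt : w * t = t * w := hw ▸
      (show Commute (C.P.el codeY1) t from C.commute_t ha codes_isB.1).inv_left.mul_left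
        (((show Commute g' t from g't).mul_left hy).mul_left g'i)
    obtain ⟨e, he, hee⟩ := C.central_code ha F hwt fun n hn => by
      obtain ⟨n', hn', hn'e⟩ := C.exists_img ha F g'i hn
      rw [inv_inv] at hn'e
      have hfac := alphaC_facts hn'
      have hnn : C.P.el n = C.P.el (alphaC n') := by rw [← hconj' n' hn', hn'e]; group
      have hy' : C.P.y * C.P.el n' * C.P.y⁻¹ = C.P.el (cjB 0 codeY n') := by
        rw [C.P.el_cjB zero_le_one isB_codeY (isB_core ha hn'), C.P.el_codeY]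
      have hcy : cjB 0 codeY n' ∈ coreL 0 := by
        obtain ⟨m, hm, hme⟩ := C.exists_img ha F (C.commute_t ha isB_codeY) hn'
        rwa [C.inj _ (isB_iff.1 (cjB_isB zero_le_one isB_codeY (isB_core ha hn'))).1 m (lt_core ha hm)
          (by rw [C.P.el_cjB zero_le_one isB_codeY (isB_core ha hn'), hme])]
      have key : g' * C.P.y * g'⁻¹ * C.P.el n * (g' * C.P.y * g'⁻¹)⁻¹ =
          C.P.el codeY1 * C.P.el n * (C.P.el codeY1)⁻¹ := by
        rw [hnn, ← C.P.el_cjB zero_le_one codes_isB.1 (isB_core ha hfac.1), ← hfac.2.2.2.1, ← hconj' _ hcy,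
          ← hy', ← hconj' n' hn']
        group
      calc w * C.P.el n = (C.P.el codeY1)⁻¹ * (g' * C.P.y * g'⁻¹ * C.P.el n * (g' * C.P.y * g'⁻¹)⁻¹) *
            (g' * C.P.y * g'⁻¹) := by rw [hw]; group
        _ = _ := by rw [key, hw]; group
    have h3 : (g' * C.P.y * g'⁻¹) ^ 3 = 1 := by rw [conj_pow, C.P.y3]; group
    have hg3 : g' * C.P.y * g'⁻¹ = C.P.el (mulB 0 codeY1 e) := by
      rw [C.P.el_mulB zero_le_one codes_isB.1 (isB_of_lt (by omega)), hee, hw, mul_inv_cancel_left]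
    have hm := mulB_isB zero_le_one codes_isB.1 (isB_of_lt (show e < 64 by omega))
    rw [hg3, pow_three', ← C.P.el_mulB zero_le_one hm hm, ← C.P.el_mulB zero_le_one
      (mulB_isB zero_le_one hm hm) hm] at h3
    have he0 := codeY1_pin e he (by
      rw [Nat.beq_eq]
      exact C.inj _ (isB_iff.1 (mulB_isB zero_le_one (mulB_isB zero_le_one hm hm) hm)).1 0 (by norm_num)
        (h3.trans C.P.el_zero.symm))
    rw [he0, C.P.el_zero] at hee
    have : g' * C.P.y * g'⁻¹ = C.P.el codeY1 := by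
      calc g' * C.P.y * g'⁻¹ = C.P.el codeY1 * w := by rw [hw]; group
        _ = _ := by rw [← hee, mul_one]
    exact mul_inv_eq_iff_eq_mul.1 this
  have hzg : C.P.el codeZ * g' = g' ^ 2 * C.P.el codeZ := by
    obtain ⟨u, hu⟩ : ∃ u, u = C.P.el codeZ * g' * (C.P.el codeZ)⁻¹ := ⟨_, rfl⟩
    obtain ⟨w, hw⟩ : ∃ w, w = (g' ^ 2)⁻¹ * u := ⟨_, rfl⟩
    have hzt : C.P.el codeZ * t = t * C.P.el codeZ := C.commute_t ha codes_isB.2.1
    have hut : u * t = t * u := hu ▸
      (((show Commute (C.P.el codeZ) t from hzt).mul_left g't).mul_left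
        (show Commute (C.P.el codeZ) t from hzt).inv_left)
    have hwt : w * t = t * w := hw ▸
      ((show Commute g' t from g't).pow_left 2).inv_left.mul_left hut
    obtain ⟨e, he, hee⟩ := C.central_code ha F hwt fun n hn => by
      obtain ⟨n', hn', hn'e⟩ := C.exists_img ha F
        (show (C.P.el codeZ)⁻¹ * t = t * (C.P.el codeZ)⁻¹ from
          (show Commute (C.P.el codeZ) t from hzt).inv_left.eq) hn
      rw [inv_inv] at hn'e
      have hfac := alphaC_facts hn'
      have hnn : C.P.el n = C.P.el codeZ * C.P.el n' * (C.P.el codeZ)⁻¹ := by rw [hn'e]; group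
      have hcz : cjB 0 codeZ n' ∈ coreL 0 := by
        rwa [C.inj _ (isB_iff.1 (cjB_isB zero_le_one codes_isB.2.1 (isB_core ha hn'))).1 n (lt_core ha hn)
          (by rw [C.P.el_cjB zero_le_one codes_isB.2.1 (isB_core ha hn'), hnn])]
      have hneq : C.P.el n = C.P.el (cjB 0 codeZ n') := by
        rw [C.P.el_cjB zero_le_one codes_isB.2.1 (isB_core ha hn'), hnn]
      have key : u * C.P.el n * u⁻¹ = g' ^ 2 * C.P.el n * (g' ^ 2)⁻¹ := by
        have h1 := hconj' _ hcz
        have h2 := hconj' _ (alphaC_facts hcz).1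
        calc u * C.P.el n * u⁻¹ =
              C.P.el codeZ * (g' * C.P.el n' * g'⁻¹) * (C.P.el codeZ)⁻¹ := by rw [hu, hnn]; group
          _ = C.P.el (alphaC (alphaC (cjB 0 codeZ n'))) := by
              rw [hconj' n' hn', ← C.P.el_cjB zero_le_one codes_isB.2.1 (isB_core ha hfac.1),
                hfac.2.2.2.2]
          _ = _ := by rw [hneq, ← h2, ← h1, pow_two]; group
      calc w * C.P.el n = (g' ^ 2)⁻¹ * (u * C.P.el n * u⁻¹) * u := by rw [hw]; group
        _ = _ := by rw [key, hw]; group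
    have hu5 : u ^ 5 = 1 := by rw [hu, conj_pow, g'5]; group
    have hcg : Commute (g' ^ 2) (C.P.el e) := by
      rw [C.el_small ha F he]
      exact ((show Commute g' (C.P.el 1) from
        mul_inv_eq_iff_eq_mul.1 (C.fix_e ha F g't g'5)).pow_left 2).pow_right e
    have hue : u = g' ^ 2 * C.P.el e := by rw [hee, hw, mul_inv_cancel_left]
    have he5 : C.P.el e ^ 5 = 1 := by
      rw [hue, hcg.mul_pow, ← pow_mul, show 2 * 5 = 5 * 2 by norm_num, pow_mul, g'5, one_pow, one_mul] at hu5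
      exact hu5
    have e4 : C.P.el 1 ^ 4 = 1 := by rw [C.P.el_one]; exact C.P.abel.e4
    have he1 : C.P.el e = 1 := by
      rw [C.el_small ha F he] at he5 ⊢
      calc C.P.el 1 ^ e = (C.P.el 1 ^ e) ^ 5 * ((C.P.el 1 ^ 4) ^ e)⁻¹ := by
            rw [← pow_mul, ← pow_mul, show e * 5 = e + 4 * e by ring, pow_add, mul_inv_cancel_right]
        _ = 1 := by rw [he5, e4, one_pow, inv_one, mul_one]
    rw [he1, mul_one, hu] at hue
    exact mul_inv_eq_iff_eq_mul.1 hue
  refine ⟨⟨C, g', g'5, g't, g'N, fun n hn => hconj' n ?_, hgy, hzg, fun h hh => C.cover ha F g't g'5 g'N hh⟩⟩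
  rwa [coreL_eq 0 (by simp)]

/-- **The element of order five and the core.** -/
theorem exists_hgen {G : Type*} [Group G] [Finite G]
    (t : G) (ht : orderOf t = 2) (H : Subgroup G) (hH : H = Subgroup.centralizer ({t} : Set G))
    (R : Subgroup G) (hR : R = (Cfsg.pCore 2 H).map H.subtype)
    (Cy E : Subgroup G) (hCy : IsCyclic Cy) (hCycard : Nat.card Cy = 4)
    (hCyle : Cy ≤ R ⊓ Subgroup.centralizer (R : Set G))
    (hEle : E ≤ R) (hEex : Cfsg.IsExtraspecial 2 E) (hEcard : Nat.card E = 32)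
    (hprod : Cy ⊔ E = R) (hmeet : Cy ⊓ E = E ⊓ Subgroup.centralizer (E : Set G))
    (eH : H ⧸ Cfsg.pCore 2 H ≃* Equiv.Perm (Fin 5))
    (V : Subgroup G) (hVcomm : IsMulCommutative V) (hVexp : ∀ v ∈ V, v ^ 2 = 1) (hVcard : Nat.card V = 8)
    (hVR : V ≤ R) (M : Subgroup G) (hM : M = Subgroup.normalizer (V : Set G))
    (eOM : Cfsg.pCore 2 M ≃* Multiplicative (ZMod 4 × ZMod 4 × ZMod 4))
    (eM : M ⧸ Cfsg.pCore 2 M ≃* GL (Fin 3) (ZMod 2)) :
    GFrame t R V ∧ Nonempty (HGen t R V) := by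
  obtain ⟨F, a, ha, ⟨C⟩⟩ := exists_rcoord t ht H hH R hR Cy E hCy hCycard hCyle hEle hEex hEcard hprod hmeet
    eH V hVcomm hVexp hVcard hVR M hM eOM eM
  refine ⟨F, ?_⟩
  obtain ⟨g, gt, g5, gN⟩ := F.five
  obtain ⟨L, hL⟩ := C.exists_act ha F gt
  rcases ha with rfl | rfl
  · have ha : (0 : ℕ) = 0 ∨ (0 : ℕ) = 4 := Or.inl rfl
    have hcov := C.scan_act ha F scan_zero gt g5 gN hL
    simp only [coverB, List.any_eq_true, Bool.or_eq_true, Nat.beq_eq] at hcov
    obtain ⟨n, hn, k, -, hK⟩ := hcov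
    have hnB := List.all_eq_true.1 rep0_isB n hn
    have hni : isB (invB 0 n) = true := invB_isB zero_le_one hnB
    have hnt := C.commute_t ha hnB
    have hgk : g ^ k * t = t * g ^ k := (show Commute g t from gt).pow_left k
    have hprod : C.P.el n * g ^ k * t = t * (C.P.el n * g ^ k) :=
      (show Commute (C.P.el n) t from hnt).mul_left hgk
    have hA := C.act_mul ha F hprod (C.commute_t ha hni)
      (C.act_mul ha F hnt hgk (C.act_el ha F hnB) (C.act_pow ha F gt hL k)) (C.act_el ha F hni)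
    rw [C.P.el_invB zero_le_one hnB] at hA
    have h1t : C.P.el n * g ^ k * (C.P.el n)⁻¹ * t = t * (C.P.el n * g ^ k * (C.P.el n)⁻¹) :=
      (show Commute (C.P.el n * g ^ k) t from hprod).mul_left (show Commute (C.P.el n) t from hnt).inv_left
    have h15 : (C.P.el n * g ^ k * (C.P.el n)⁻¹) ^ 5 = 1 := by
      rw [conj_pow, ← pow_mul, mul_comm, pow_mul, g5, one_pow]; group
    rcases hK with e | e <;> rw [e] at hA
    · exact C.hgen_of_act F h1t h15 hA
    · exact C.twist.hgen_of_act F h1t h15 (C.act_twist hA)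
  · exact absurd (C.scan_act (Or.inr rfl) F scan_four gt g5 gN hL) (by simp)

end Cfsg.Agent.HSLocal.Coord
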