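import Cfsg.Agent.Lib.HSLocal.Coord.HStepDec
import Cfsg.Agent.Lib.HSLocal.Coord.HShape

/-!
The involution centralizer carries the coordinates of the model.
-/

set_option autoImplicit false
set_option maxRecDepth 100000
set_option linter.unusedSectionVars false

namespace Cfsg.Agent.HSLocal.Coord

open Cfsg.Agent.HSLocal

variable {G : Type*} [Group G] [Finite G] {t : G} {R V : Subgroup G} (D : HGen t R V)

/-- The coordinates of the stabilizer. -/
def HGen.rhoB (b : ℕ) : G := D.C.P.el (phi b)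

/-- The coordinates of `C(t)`. -/
def HGen.rho (a : ℕ) : G := D.rhoB (bpart a) * D.g ^ ipart a

/-- The relation of a power of `g` with an element of the stabilizer. -/
def HGen.Rel (x : ℕ × ℕ) : Prop := D.g ^ x.1 * D.rhoB x.2 = D.rhoB (tb x.1 x.2) * D.g ^ tj x.1 x.2

theorem inS_iff {b : ℕ} : inS b = true ↔ b < 7680 ∧ Stab4 (b / 64) := by simp [inS, Stab4]

theorem HGen.g_mod (n : ℕ) : D.g ^ (n % 5) = D.g ^ n := (pow_eq_pow_mod n D.g5).symm

theorem HGen.rhoB_mul {a b : ℕ} (ha : inS a = true) (hb : inS b = true) :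
    D.rhoB (HSLocal.mul a b) = D.rhoB a * D.rhoB b :=
  el_phi_mul D.C.P a b (inS_iff.1 ha).1 (inS_iff.1 hb).1 (inS_iff.1 ha).2 (inS_iff.1 hb).2

theorem HGen.rel_R {i r : ℕ} (hi : i < 5) (hr : r ∈ [1, 2, 4, 8, 16]) : D.Rel (i, r) := by
  obtain ⟨h1, h2, -⟩ := base_R i hi r hr
  have key : ∀ k, k ≤ i → D.g ^ k * D.rhoB r = D.C.P.el (alphaC^[k] (phi r)) * D.g ^ k := by
    intro k
    induction k with
    | zero => intro _; simp [HGen.rhoB]
    | succ k ih =>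
      intro hk
      obtain ⟨-, -, hm⟩ := base_R k (by omega) r hr
      rw [pow_succ', mul_assoc, ih (by omega), ← mul_assoc, Function.iterate_succ_apply', ← D.conj _ hm]
      group
  show D.g ^ i * D.rhoB r = D.rhoB (tb i r) * D.g ^ tj i r
  rw [key i le_rfl, HGen.rhoB, h1, h2]

theorem HGen.rel_base {i b : ℕ} (hi : i < 5)
    (hb : b ∈ [1, 2, 4, 8, 16, 2310] ∨ b = 2458 ∧ i < 2) : D.Rel (i, b) := by
  obtain ⟨hz, hy0, hj0, hy1, hj1, ez, ey, ey1, -⟩ := base_zy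
  rcases hb with hb | ⟨rfl, hi2⟩
  · by_cases hr : b ∈ [1, 2, 4, 8, 16]
    · exact D.rel_R hi hr
    · obtain rfl : b = 2310 := by revert hr; revert b; decide
      obtain ⟨e1, e2⟩ := hz i hi
      show D.g ^ i * D.rhoB 2310 = D.rhoB (tb i 2310) * D.g ^ tj i 2310
      rw [e1, e2, D.g_mod, HGen.rhoB, ez]
      have hc : ∀ k, D.g ^ (2 * k) * D.C.P.el codeZ = D.C.P.el codeZ * D.g ^ k := by
        intro k
        induction k with
        | zero => simp
        | succ k ih =>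
          rw [show 2 * (k + 1) = 2 * k + 2 by ring, pow_add, mul_assoc, ← D.zg, ← mul_assoc, ih, mul_assoc,
            ← pow_succ]
      rw [← D.g_mod i, show i % 5 = 2 * (3 * i) % 5 by omega, D.g_mod, hc]
  · show D.g ^ i * D.rhoB 2458 = D.rhoB (tb i 2458) * D.g ^ tj i 2458
    interval_cases i
    · rw [hy0, hj0]; simp
    · rw [hy1, hj1, pow_one, HGen.rhoB, HGen.rhoB, ey, ey1, D.C.P.el_codeY]
      exact D.gy

theorem HGen.rel_step {known : List (ℕ × ℕ)} (hk : ∀ x ∈ known, D.Rel x) {s : ℕ × ℕ × ℕ × ℕ}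
    (hs : okStep known s = true) : D.Rel (concl s) := by
  obtain ⟨k, i, b, c⟩ := s
  match k with
  | 0 =>
    simp only [okStep, Bool.and_eq_true, Bool.or_eq_true, Nat.blt_eq, List.contains_iff_mem, beq_iff_eq] at hs
    exact D.rel_base hs.1 hs.2
  | 1 =>
    simp only [okStep, Bool.and_eq_true, List.contains_iff_mem, beq_iff_eq] at hs
    obtain ⟨⟨⟨⟨⟨⟨⟨hb, hc⟩, hib⟩, hjc⟩, htb⟩, htc⟩, e1⟩, e2⟩ := hs
    show D.g ^ i * D.rhoB (HSLocal.mul b c) = D.rhoB (tb i (HSLocal.mul b c)) * D.g ^ tj i (HSLocal.mul b c)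
    rw [e1, e2, D.rhoB_mul hb hc, ← mul_assoc, hk _ hib, mul_assoc, hk _ hjc, D.rhoB_mul htb htc, mul_assoc]
  | 2 =>
    simp only [okStep, Bool.and_eq_true, List.contains_iff_mem, beq_iff_eq] at hs
    obtain ⟨⟨⟨⟨-, hib⟩, h1b⟩, e1⟩, e2⟩ := hs
    show D.g ^ ((i + 1) % 5) * D.rhoB b = D.rhoB (tb ((i + 1) % 5) b) * D.g ^ tj ((i + 1) % 5) b
    have h1 := hk _ h1b
    simp only [HGen.Rel, pow_one] at h1
    rw [e1, ← e2, D.g_mod, D.g_mod, pow_succ', mul_assoc, hk _ hib, ← mul_assoc, h1, mul_assoc, ← pow_add]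
  | 3 =>
    simp only [okStep, Bool.and_eq_true, List.contains_iff_mem, beq_iff_eq] at hs
    obtain ⟨⟨⟨⟨-, hib⟩, hsb⟩, e1⟩, e2⟩ := hs
    show D.g ^ 1 * D.rhoB (tb i b) = D.rhoB (tb 1 (tb i b)) * D.g ^ tj 1 (tb i b)
    have h1 := hk _ hib
    have h2 := hk _ hsb
    simp only [HGen.Rel] at h1 h2
    rw [← e2, D.g_mod, D.g_mod, ← e1, pow_succ', mul_assoc, h1, pow_add, ← mul_assoc, ← mul_assoc] at h2
    rw [pow_one]
    exact mul_right_cancel h2
  | _ + 4 => simp [okStep] at hs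

theorem HGen.rel_cert : ∀ (l : List (ℕ × ℕ × ℕ × ℕ)) (known : List (ℕ × ℕ)), okCert known l = true →
    (∀ x ∈ known, D.Rel x) → ∀ x ∈ l.map concl, D.Rel x := by
  intro l
  induction l with
  | nil => simp
  | cons s l ih =>
    intro known h hk x hx
    rw [okCert, Bool.and_eq_true] at h
    have h1 := D.rel_step hk h.1
    rw [List.map_cons, List.mem_cons] at hx
    rcases hx with rfl | hx
    · exact h1
    · exact ih _ h.2 (List.forall_mem_cons.2 ⟨h1, hk⟩) x hx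

theorem HGen.rel_gens {i u : ℕ} (hi : i < 5) (hu : u ∈ gensB) : D.Rel (i, u) := by
  by_cases hy : u = 2458
  · subst hy
    by_cases h2 : i < 2
    · exact D.rel_base hi (Or.inr ⟨rfl, h2⟩)
    · exact D.rel_cert cert [] cert_ok.1 (by simp) _ (cert_ok.2 i hi (by omega))
  · exact D.rel_base hi (Or.inl (by revert hy; revert u; decide))

theorem HGen.rho_small {r : ℕ} (hr : r < 64) : D.rho r = D.rhoB r := by
  obtain ⟨h1, h2⟩ := ipart_small r hr
  rw [HGen.rho, h1, h2, pow_zero, mul_one]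

theorem HGen.rho_split {p r : ℕ} (hp : p < 120) (hr : r < 64) :
    D.rho (64 * p + r) = D.rhoB r * D.rho (64 * p) := by
  have h1 : ipart (64 * p + r) = ipart (64 * p) := by
    unfold ipart
    rw [show (64 * p + r) / 64 = p by omega, show 64 * p / 64 = p by omega]
  have hrS : inS r = true := inS_iff.2 ⟨by omega, by rw [Nat.div_eq_of_lt hr]; exact stab4_facts.1⟩
  rw [HGen.rho, HGen.rho, h1, split_fact p hp r hr, D.rhoB_mul hrS (rep_facts p hp).2, mul_assoc]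

theorem HGen.rho_gen {u : ℕ} (hu : u ∈ gensB) : D.rho u = D.rhoB u := by
  obtain ⟨h0, h1⟩ := gens_ipart u hu
  rw [HGen.rho, h0, h1, pow_zero, mul_one]

theorem HGen.rho_g : D.rho 4096 = D.g := by
  rw [HGen.rho, gp_facts.1, gp_facts.2.1, pow_one, HGen.rhoB, phi_facts.1, D.C.P.el_zero, one_mul]

theorem HGen.rho_step_rep {p u : ℕ} (hp : p < 120) (hu : u ∈ gensH) :
    D.rho (HSLocal.mul (64 * p) u) = D.rho (64 * p) * D.rho u := by
  obtain ⟨hi, hbS⟩ := rep_facts p hp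
  by_cases hg : u = 4096
  · subst hg
    obtain ⟨e1, e2⟩ := step_g p hp
    rw [D.rho_g, HGen.rho, HGen.rho, e1, e2, D.g_mod, pow_succ, mul_assoc]
  have huB : u ∈ gensB := by revert hg; revert u; decide
  obtain ⟨e1, e2⟩ := step_facts p hp u huB
  obtain ⟨-, htS, -⟩ := inS_gens _ hi u huB
  rw [D.rho_gen huB, HGen.rho, HGen.rho, e1, e2, D.rhoB_mul hbS htS, mul_assoc, mul_assoc]
  exact congrArg _ (D.rel_gens hi huB).symm

theorem HGen.rho_step {a u : ℕ} (ha : a < 7680) (hu : u ∈ gensH) :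
    D.rho (HSLocal.mul a u) = D.rho a * D.rho u := by
  have hu' : u < 7680 := by revert u; decide
  obtain ⟨p, r, hp, hr, rfl⟩ : ∃ p r, p < 120 ∧ r < 64 ∧ a = 64 * p + r :=
    ⟨a / 64, a % 64, by omega, by omega, by omega⟩
  have hrS : ∀ x, x < 64 → inS x = true := fun x hx =>
    inS_iff.2 ⟨by omega, by rw [Nat.div_eq_of_lt hx]; exact stab4_facts.1⟩
  obtain ⟨-, hA⟩ := act_fact p hp (qp u) (qp_lt u)
  obtain ⟨-, hC⟩ := coc_fact p hp (pp u) (pp_lt u)
  have hP : pmul p (pp u) < 120 := pmul_lt p hp _ (pp_lt u)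
  have m1 : HSLocal.mul (64 * p + r) u = 64 * pmul p (pp u) + qmul (qmul r (act p (qp u))) (coc p (pp u)) := by
    have h1 : pp (64 * p + r) = p := by unfold pp; omega
    have h2 : qp (64 * p + r) = r := by unfold qp; omega
    rw [HSLocal.mul, h1, h2]
    omega
  have m0 : HSLocal.mul (64 * p) u = 64 * pmul p (pp u) + qmul (qmul 0 (act p (qp u))) (coc p (pp u)) := by
    have h1 : pp (64 * p) = p := by unfold pp; omega
    have h2 : qp (64 * p) = 0 := by unfold qp; omega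
    rw [HSLocal.mul, h1, h2]
    omega
  have hmul : ∀ x y, x < 64 → y < 64 → D.rhoB (qmul x y) = D.rhoB x * D.rhoB y := fun x y hx hy =>
    (el_phi_two D.C.P hx hy).symm
  have hs := D.rho_step_rep hp hu
  rw [m0, D.rho_split hP (qmul_lt _ _), hmul _ _ (qmul_lt _ _) hC, hmul _ _ (by norm_num) hA] at hs
  rw [m1, D.rho_split hP (qmul_lt _ _), hmul _ _ (qmul_lt _ _) hC, hmul _ _ hr hA, D.rho_split hp hr,
    mul_assoc (D.rhoB r) (D.rho (64 * p)), ← hs]
  have h0 : D.rhoB 0 = 1 := by rw [HGen.rhoB, phi_facts.1, D.C.P.el_zero]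
  rw [h0, one_mul]
  simp only [mul_assoc]

theorem HGen.rho_mul {a b : ℕ} (ha : a < 7680) (hb : b < 7680) :
    D.rho (HSLocal.mul a b) = D.rho a * D.rho b := by
  refine mul_of_step (ρ := D.rho) (U := gensH) (P := fun _ => True) ?_ ?_ (by decide) ?_ trivial
    (fun _ _ _ _ _ => trivial) (fun _ _ _ _ _ _ => trivial) ?_ a b ha hb trivial trivial
  · rw [D.rho_small (by norm_num), HGen.rhoB, phi_facts.1, D.C.P.el_zero]
  · exact fun u hu => ⟨by revert u; decide, trivial⟩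
  · exact fun p hp _ => (by decide +kernel : ∀ p, p < 120 → ∀ u ∈ wP p, u ∈ gensH) p hp
  · exact fun a ha _ u hu => D.rho_step ha hu

theorem HGen.rhoB_commute {b : ℕ} (hb : inS b = true) : D.rhoB b * t = t * D.rhoB b := by
  obtain ⟨h1, h2⟩ := inS_iff.1 hb
  have hr : b % 64 < 64 := Nat.mod_lt _ (by norm_num)
  have e := el_phi_split D.C.P (b / 64) hr
  rw [Nat.div_add_mod] at e
  show D.C.P.el (phi b) * t = t * D.C.P.el (phi b)
  rw [e]
  have c1 := (D.C.memB _ (isB_iff.1 (phi_isB.2 _ hr).2.1).1).2 (phi_isB.2 _ hr).2.1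
  have c2 := (D.C.memB _ (isB_iff.1 (phi_isB.1 (b / 64) (by omega) h2).1).1).2
    (phi_isB.1 (b / 64) (by omega) h2).1
  exact (Commute.mul_left c1 c2).eq

theorem HGen.rhoB_mem_N {b : ℕ} (hb : inS b = true) : D.rhoB b ∈ Subgroup.normalizer (V : Set G) := by
  obtain ⟨h1, h2⟩ := inS_iff.1 hb
  have e := el_phi_split D.C.P (b / 64) (Nat.mod_lt b (by norm_num : 64 > 0))
  rw [Nat.div_add_mod] at e
  show D.C.P.el (phi b) ∈ _
  rw [e]
  exact mul_mem ((D.C.memN _).2 ⟨_, (isB_iff.1 (phi_isB.2 _ (Nat.mod_lt _ (by norm_num))).2.1).1, rfl⟩)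
    ((D.C.memN _).2 ⟨_, (isB_iff.1 (phi_isB.1 (b / 64) (by omega) h2).1).1, rfl⟩)

theorem HGen.small_of_mem {a : ℕ} (ha : a < 7680) (h : D.rho a ∈ R) : a < 64 := by
  obtain ⟨p, r, hp, hr, rfl⟩ : ∃ p r, p < 120 ∧ r < 64 ∧ a = 64 * p + r :=
    ⟨a / 64, a % 64, by omega, by omega, by omega⟩
  obtain ⟨hi, hbS⟩ := rep_facts p hp
  have hRN : ∀ {x : G}, x ∈ R → x ∈ Subgroup.normalizer (V : Set G) := fun {x} hx => by
    obtain ⟨m, hm, rfl⟩ := (D.C.memR x).1 hx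
    exact (D.C.memN _).2 ⟨m, (by decide +kernel : ∀ m ∈ coreList 0, m < 10752) m hm, rfl⟩
  have hrR : D.rhoB r ∈ R := (D.C.memR _).2 ⟨_, memB_iff.1 (phi_isB.2 r hr).1, rfl⟩
  rw [D.rho_split hp hr, Subgroup.mul_mem_cancel_left _ hrR, HGen.rho] at h
  have hi0 : ipart (64 * p) = 0 := by
    by_contra hne
    exact pow_not_mem D.g5 D.gN (i := ipart (64 * p)) (by omega)
      ((Subgroup.mul_mem_cancel_left _ (D.rhoB_mem_N hbS)).1 (hRN h))
  obtain ⟨hb0, hstab⟩ := zero_facts p hp hi0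
  rw [hi0, pow_zero, mul_one, hb0] at h
  obtain ⟨hpB, hp0⟩ := phi_isB.1 p hp hstab
  obtain ⟨m, hm, e⟩ := (D.C.memR _).1 h
  have := D.C.inj _ ((by decide +kernel : ∀ m ∈ coreList 0, m < 10752) m hm) _ (isB_iff.1 hpB).1 e
  obtain rfl := hp0 (memB_iff.2 (this ▸ hm))
  omega

theorem HGen.rhoB_inj {r s : ℕ} (hr : r < 64) (hs : s < 64) (h : D.rhoB r = D.rhoB s) : r = s := by
  have := D.C.inj _ (isB_iff.1 (phi_isB.2 r hr).2.1).1 _ (isB_iff.1 (phi_isB.2 s hs).2.1).1 h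
  rw [phiR_core.2.2 r hr, phiR_core.2.2 s hs] at this
  exact phiR_inj r hr s hs this

theorem HGen.rho_zero : D.rho 0 = 1 := by
  rw [D.rho_small (by norm_num), HGen.rhoB, phi_facts.1, D.C.P.el_zero]

theorem HGen.rho_eq {a b : ℕ} (ha : a < 7680) (hb : b < 7680) (h : D.rho a = D.rho b) : a = b := by
  obtain ⟨p, r, hp, hr, rfl⟩ : ∃ p r, p < 120 ∧ r < 64 ∧ a = 64 * p + r :=
    ⟨a / 64, a % 64, by omega, by omega, by omega⟩
  obtain ⟨q, s, hq, hs, rfl⟩ : ∃ q s, q < 120 ∧ s < 64 ∧ b = 64 * q + s :=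
    ⟨b / 64, b % 64, by omega, by omega, by omega⟩
  obtain ⟨hiq, hpq⟩ := rep_div p hp q hq
  rw [D.rho_split hp hr, D.rho_split hq hs] at h
  have hinv : D.rho (64 * q) * D.rho (HSLocal.inv (64 * q)) = 1 := mul_eq_one_comm.1 (by
    rw [← D.rho_mul hiq (by omega), (inv_ok (64 * q) (by omega)).2, D.rho_zero])
  have hc : D.rho (HSLocal.mul (64 * p) (HSLocal.inv (64 * q))) = (D.rhoB r)⁻¹ * D.rhoB s := by
    rw [D.rho_mul (by omega) hiq, eq_inv_mul_iff_mul_eq, ← mul_assoc, h, mul_assoc, hinv, mul_one]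
  have hR : ∀ x, x < 64 → D.rhoB x ∈ R := fun x hx => (D.C.memR _).2 ⟨_, memB_iff.1 (phi_isB.2 x hx).1, rfl⟩
  have hlt := D.small_of_mem (mul_lt _ _) (hc ▸ mul_mem (inv_mem (hR r hr)) (hR s hs))
  have hpp : pmul p (pp (HSLocal.inv (64 * q))) = 0 := by
    have h1 : pp (64 * p) = p := by unfold pp; omega
    rw [HSLocal.mul, h1] at hlt
    omega
  obtain rfl := hpq hpp
  rw [D.rhoB_inj hr hs (mul_right_cancel h)]

theorem HGen.coord (F : GFrame t R V) : HSLocal.Coord t D.rho := by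
  have hmem : ∀ a, a < 7680 → D.rho a * t = t * D.rho a := fun a ha => by
    obtain ⟨p, r, hp, hr, rfl⟩ : ∃ p r, p < 120 ∧ r < 64 ∧ a = 64 * p + r :=
      ⟨a / 64, a % 64, by omega, by omega, by omega⟩
    have hrS : inS r = true := inS_iff.2 ⟨by omega, by rw [Nat.div_eq_of_lt hr]; exact stab4_facts.1⟩
    rw [D.rho_split hp hr]
    exact (Commute.mul_left (D.rhoB_commute hrS) (Commute.mul_left (D.rhoB_commute (rep_facts p hp).2)
      ((show Commute D.g t from D.gt).pow_left _))).eq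
  have hz : D.rho zc = t := by
    rw [zc, D.rho_small (by norm_num), HGen.rhoB, phi_facts.2.1]
    exact D.C.two
  refine ⟨fun a b ha hb => D.rho_mul ha hb, hz,
    fun a ha h => D.rho_eq ha (by norm_num) (h.trans D.rho_zero.symm), hmem, fun x hx => ?_⟩
  let f : Fin 7680 → Subgroup.centralizer ({t} : Set G) := fun a =>
    ⟨D.rho a, Subgroup.mem_centralizer_singleton_iff.2 (hmem a a.2)⟩
  have hf : Function.Injective f := fun a b e => Fin.ext (D.rho_eq a.2 b.2 (congrArg Subtype.val e))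
  obtain ⟨a, ha⟩ := ((Nat.bijective_iff_injective_and_card f).2
    ⟨hf, by rw [Nat.card_eq_fintype_card, Fintype.card_fin, F.cardC]⟩).2
      ⟨x, Subgroup.mem_centralizer_singleton_iff.2 hx⟩
  exact ⟨a, a.2, congrArg Subtype.val ha⟩

theorem HGen.mem_R {x : G} : x ∈ R ↔ ∃ r, r < 64 ∧ D.rho r = x := by
  rw [D.C.memR]
  constructor
  · rintro ⟨n, hn, rfl⟩
    obtain ⟨r, hr, hrn⟩ := List.getElem_of_mem (phiR_core.1 n hn)
    rw [phiR_core.2.1] at hr
    exact ⟨r, hr, by rw [D.rho_small hr, HGen.rhoB, phiR_core.2.2 r hr, List.getD_eq_getElem _ _ (by rw [phiR_core.2.1]; exact hr), hrn]⟩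
  · rintro ⟨r, hr, rfl⟩
    exact ⟨phi r, memB_iff.1 (phi_isB.2 r hr).1, (D.rho_small hr).symm⟩

/-- **Coordinates of the involution centralizer**, from the hypotheses of the characterisation. -/
theorem exists_coord {G : Type*} [Group G] [Finite G]
    (t : G) (ht : orderOf t = 2) (H : Subgroup G) (hH : H = Subgroup.centralizer ({t} : Set G))
    (R : Subgroup G) (hR : R = (Cfsg.pCore 2 H).map H.subtype)
    (Cy E : Subgroup G) (hCy : IsCyclic Cy) (hCycard : Nat.card Cy = 4)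
    (hCyle : Cy ≤ R ⊓ Subgroup.centralizer (R : Set G))
    (hEle : E ≤ R) (hEex : Cfsg.IsExtraspecial 2 E) (hEcard : Nat.card E = 32)
    (hprod : Cy ⊔ E = R) (hmeet : Cy ⊓ E = E ⊓ Subgroup.centralizer (E : Set G))
    (eH : H ⧸ Cfsg.pCore 2 H ≃* Equiv.Perm (Fin 5))
    (V : Subgroup G) (hVcomm : IsMulCommutative V) (hVexp : ∀ v ∈ V, v ^ 2 = 1) (hVcard : Nat.card V = 8)
    (hVR : V ≤ R) (M : Subgroup G) (hM : M = Subgroup.normalizer (V : Set G))
    (eOM : Cfsg.pCore 2 M ≃* Multiplicative (ZMod 4 × ZMod 4 × ZMod 4))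
    (eM : M ⧸ Cfsg.pCore 2 M ≃* GL (Fin 3) (ZMod 2)) :
    GFrame t R V ∧ ∃ ρ : ℕ → G, HSLocal.Coord t ρ ∧ ∀ x, x ∈ R ↔ ∃ r, r < 64 ∧ ρ r = x := by
  obtain ⟨F, ⟨D⟩⟩ := exists_hgen t ht H hH R hR Cy E hCy hCycard hCyle hEle hEex hEcard hprod hmeet eH V
    hVcomm hVexp hVcard hVR M hM eOM eM
  exact ⟨F, D.rho, D.coord F, fun _ => D.mem_R⟩

end Cfsg.Agent.HSLocal.Coord
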