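/-!
Generated lists for the centraliser of the involution: the two candidate cores and representatives of
the classes of actions of the stabiliser on them.
-/

set_option autoImplicit false

namespace Cfsg.Agent.HSLocal.Coord.HData

/-- The core 0, listed by classes. -/
def core0 : List Nat := [0, 1, 2, 3, 8, 9, 10, 11, 32, 33, 34, 35, 40, 41, 42, 43, 6912, 6913, 6914,
    6915, 6920, 6921, 6922, 6923, 6944, 6945, 6946, 6947, 6952, 6953, 6954, 6955, 3968, 3969, 3970,
    3971, 3976, 3977, 3978, 3979, 4000, 4001, 4002, 4003, 4008, 4009, 4010, 4011, 4800, 4801, 4802,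
    4803, 4808, 4809, 4810, 4811, 4832, 4833, 4834, 4835, 4840, 4841, 4842, 4843]

/-- Representatives of the actions 0. -/
def rep0 : List Nat := [0, 4, 16, 20, 448, 452, 464, 468, 896, 900, 912, 916, 1344, 1348, 1360,
    1364, 1792, 1796, 1808, 1812, 2240, 2244, 2256, 2260]

/-- The core 4, listed by classes. -/
def core4 : List Nat := [0, 1, 2, 3, 8, 9, 10, 11, 32, 33, 34, 35, 40, 41, 42, 43, 6916, 6917, 6918,
    6919, 6924, 6925, 6926, 6927, 6948, 6949, 6950, 6951, 6956, 6957, 6958, 6959, 3984, 3985, 3986,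
    3987, 3992, 3993, 3994, 3995, 4016, 4017, 4018, 4019, 4024, 4025, 4026, 4027, 4863, 4860, 4861,
    4862, 4855, 4852, 4853, 4854, 4831, 4828, 4829, 4830, 4823, 4820, 4821, 4822]

/-- Representatives of the actions 4. -/
def rep4 : List Nat := [0, 4, 16, 20, 448, 452, 464, 468, 896, 900, 912, 916, 1344, 1348, 1360,
    1364, 1792, 1796, 1808, 1812, 2240, 2244, 2256, 2260]

/-- The images of the five generators. -/
def alpha : List Nat := [1, 4000, 6955, 34, 10]

end Cfsg.Agent.HSLocal.Coord.HData
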