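import Cfsg.Agent.Lib.HSLocal.Coord.RDec
import Cfsg.Agent.Lib.HSLocal.Coord.HData

/-!
The action on the core modulo `⟨e⟩`, decided on codes: sixteen classes, the possible actions of an element of
order five, and the lifting of such an action to the core.
-/

set_option autoImplicit false
set_option maxRecDepth 100000
set_option maxHeartbeats 4000000

namespace Cfsg.Agent.HSLocal.Coord

/-- The candidate core as a list. -/
def coreL (a : ℕ) : List ℕ := if a = 0 then HData.core0 else HData.core4

/-- The class of an element of the core modulo `⟨e⟩`. -/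
def clsC (a n : ℕ) : ℕ := (coreL a).idxOf n / 4

/-- The representative of a class. -/
def repC (a x : ℕ) : ℕ := (coreL a).getD (4 * x) 0

/-- A nibble of a packed map. -/
def nib (L i : ℕ) : ℕ := L / 16 ^ i % 16

/-- A linear map of classes, applied. -/
def appL (L x : ℕ) : ℕ :=
  Nat.xor (Nat.xor (x % 2 * nib L 0) (x / 2 % 2 * nib L 1))
    (Nat.xor (x / 4 % 2 * nib L 2) (x / 8 % 2 * nib L 3))

/-- A packed map from four values. -/
def mkL (p q r u : ℕ) : ℕ := p + 16 * q + 256 * r + 4096 * u

/-- Composition of packed maps. -/
def compL (L K : ℕ) : ℕ := mkL (appL L (nib K 0)) (appL L (nib K 1)) (appL L (nib K 2)) (appL L (nib K 3))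

/-- The identity map. -/
def idL : ℕ := 33825

/-- A power of a map. -/
def powL (L : ℕ) : ℕ → ℕ
  | 0 => idL
  | k + 1 => compL (powL L k) L

/-- The map of classes given by conjugation with a code. -/
def cmapC (a n : ℕ) : ℕ :=
  mkL (clsC a (cjB 0 n (repC a 1))) (clsC a (cjB 0 n (repC a 2))) (clsC a (cjB 0 n (repC a 4)))
    (clsC a (cjB 0 n (repC a 8)))

/-- The maps of the stabiliser, packed. -/
def imgB (a : ℕ) : List ℕ := (if a = 0 then HData.rep0 else HData.rep4).map (cmapC a)

/-- Which classes commute, packed. -/
def formT (a : ℕ) : ℕ :=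
  if a = 0 then 0x96696969669999995aa5a5a5aa5555553cc3c3c3cc333333f00f0f0f00ffffff
  else 0x9999669969699669aa5555555aa5a5a5c3c33cc33333cc33f00f0f0f00ffffff

/-- Two classes commute. -/
def formC (a x y : ℕ) : Bool := Nat.beq (formT a / 2 ^ (16 * x + y) % 2) 1

/-- The generators of the stabiliser used in the closure condition. -/
def stepGens (a : ℕ) : List ℕ := [codeY, codeS, 4, 16, genR a]

/-- The twist of a code by `s ↦ s t`. -/
def twC (n : ℕ) : ℕ :=
  match cM n with
  | 0 => n
  | k + 1 => mulV n (actXn (7 - k % 7) 2)

/-- The two possible actions. -/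
def targetA : ℕ := 4730

/-- The second possible action. -/
def targetB : ℕ := 31336

/-- The map of the twist. -/
def twL : ℕ := mkL 1 2 5 10

theorem coreL_eq : ∀ a ∈ [0, 4], coreL a = coreList a := by decide +kernel

theorem formT_ok : ∀ a ∈ [0, 4], ((List.range 16).all fun x => (List.range 16).all fun y =>
    formC a x y == Nat.beq (commB 0 (repC a x) (repC a y)) 0) = true := by decide +kernel

/-- The class map is a homomorphism and commutation only depends on the classes. -/
def clsHomB (a : ℕ) : Bool :=
  (coreL a).all fun p => (coreL a).all fun q =>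
    Nat.beq (clsC a (mulB 0 p q)) (Nat.xor (clsC a p) (clsC a q)) &&
      memB (mulB 0 p q) (coreL a) && (formC a (clsC a p) (clsC a q) == Nat.beq (commB 0 p q) 0)

theorem clsHom0 : clsHomB 0 = true := by decide +kernel

theorem clsHom4 : clsHomB 4 = true := by decide +kernel

theorem repC_ok : ∀ a ∈ [0, 4], ((List.range 16).all fun x => memB (repC a x) (coreL a) &&
    Nat.beq (clsC a (repC a x)) x) && ((coreL a).all fun n =>
      Nat.blt (clsC a n) 16 && Nat.beq (clsC a (cjB 0 codeY n)) (appL (cmapC a codeY) (clsC a n))) = true := by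
  decide +kernel

/-- The central elements are the powers of `e`. -/
theorem center_ok : ∀ a ∈ [0, 4], ((coreL a).all fun m => Nat.blt m 4 ||
    !((coreL a).all fun k => Nat.beq (mulB 0 m k) (mulB 0 k m))) = true := by decide +kernel

/-- The action of a code on the classes is in the list. -/
def imgCheck (a j : ℕ) : Bool :=
  (List.range 64).all fun v => memB (cmapC a (64 * BData.qb.getD j 999 + v)) (imgB a)

theorem imgB0 : ((List.range 24).all fun j => imgCheck 0 j) = true := by decide +kernel

theorem imgB4 : ((List.range 24).all fun j => imgCheck 4 j) = true := by decide +kernel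

/-- Conjugation respects the classes. -/
def cmapB (a : ℕ) : Bool :=
  (if a = 0 then HData.rep0 else HData.rep4).all fun g => (coreL a).all fun n =>
    memB (cjB 0 g n) (coreL a) && Nat.beq (clsC a (cjB 0 g n)) (appL (cmapC a g) (clsC a n))

theorem cmap0 : cmapB 0 = true := by decide +kernel

/-- The condition that every step stays in the stabiliser. -/
def stepsB (a : ℕ) (Bl : List ℕ) (L : ℕ) : Bool :=
  (stepGens a).all fun b => (List.range 5).any fun i =>
    memB (compL (compL L (cmapC a b)) (powL L ((5 - i) % 5))) Bl

/-- The conditions on the action of an element of order five. -/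
def candB (a : ℕ) (L : ℕ) : Bool :=
  Nat.beq (powL L 5) idL && !Nat.beq L idL && stepsB a (imgB a) L

/-- All candidates satisfy the test. -/
def scanL (a p : ℕ) (test : ℕ → Bool) : Bool :=
  (List.range 16).all fun q => (!(formC a p q == formC a 1 2)) ||
    (List.range 16).all fun r => (!(formC a p r == formC a 1 4 && formC a q r == formC a 2 4)) ||
      (List.range 16).all fun u =>
        (!(formC a p u == formC a 1 8 && formC a q u == formC a 2 8 && formC a r u == formC a 4 8)) ||
          !candB a (mkL p q r u) || test (mkL p q r u)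

/-- A conjugate of a power by an element of the stabiliser is one of the two actions. -/
def coverB (L : ℕ) : Bool :=
  HData.rep0.any fun g => [1, 2, 3, 4].any fun k =>
    let K := compL (compL (cmapC 0 g) (powL L k)) (cmapC 0 (invB 0 g))
    Nat.beq K targetA || Nat.beq K targetB

theorem scan_four : ((List.range 16).all fun p => scanL 4 p fun _ => false) = true := by decide +kernel

theorem scan_zero : ((List.range 16).all fun p => scanL 0 p coverB) = true := by decide +kernel

/-- The square of every element with the same class and square is matched by an inner automorphism. -/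
def liftB (a : ℕ) (T : List ℕ) : Bool :=
  (List.range 256).all fun w =>
    let im := fun i => mulB 0 (T.getD (i + 1) 0) (w / 4 ^ i % 4)
    let sqok := fun i g => Nat.beq (mulB 0 (im i) (im i)) (mulB 0 g g)
    !(sqok 0 8 && sqok 1 32 && sqok 2 (genR a) && sqok 3 (genQ a)) ||
      (coreL a).any fun r => Nat.beq (cjB 0 r (im 0)) (T.getD 1 0) && Nat.beq (cjB 0 r (im 1)) (T.getD 2 0) &&
        Nat.beq (cjB 0 r (im 2)) (T.getD 3 0) && Nat.beq (cjB 0 r (im 3)) (T.getD 4 0)

theorem lift_id : ∀ a ∈ [0, 4], liftB a [1, 8, 32, genR a, genQ a] = true := by decide +kernel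

theorem lift_alpha : liftB 0 HData.alpha = true := by decide +kernel

/-- An element of the core as a product of the five generators. -/
def prodC (g : List ℕ) (i : ℕ) : ℕ :=
  mulB 0 (mulB 0 (mulB 0 (mulB 0 (i % 4 * g.getD 0 0) (i / 4 % 2 * g.getD 1 0)) (i / 8 % 2 * g.getD 2 0))
    (i / 16 % 2 * g.getD 3 0)) (i / 32 % 2 * g.getD 4 0)

/-- The automorphism on the core. -/
def alphaC (n : ℕ) : ℕ :=
  let i := HData.core0.idxOf n
  mulB 0 (mulB 0 (mulB 0 (mulB 0 (i % 4) (i / 4 % 2 * HData.alpha.getD 1 0)) (i / 8 % 2 * HData.alpha.getD 2 0))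
    (i / 16 % 2 * HData.alpha.getD 3 0)) (i / 32 % 2 * HData.alpha.getD 4 0)

/-- The code of the image of `y`. -/
def codeY1 : ℕ := 3388

/-- The code of the element normalising the group of order five. -/
def codeZ : ℕ := 5444

theorem prodC_ok : ∀ a ∈ [0, 4], ((List.range 64).all fun i =>
    Nat.beq (prodC [1, 8, 32, genR a, genQ a] i) ((coreL a).getD i 0)) = true := by decide +kernel

theorem alpha_ok : (HData.core0.all fun n =>
    memB (alphaC n) HData.core0 && Nat.beq (clsC 0 (alphaC n)) (appL targetA (clsC 0 n)) &&
      Nat.beq (alphaC (alphaC (alphaC (alphaC (alphaC n))))) n &&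
      Nat.beq (alphaC (cjB 0 codeY n)) (cjB 0 codeY1 (alphaC n)) &&
      Nat.beq (cjB 0 codeZ (alphaC n)) (alphaC (alphaC (cjB 0 codeZ n)))) = true := by decide +kernel

theorem twist_ok : (HData.core0.all fun n => memB (twC n) HData.core0 &&
    Nat.beq (clsC 0 (twC n)) (appL twL (clsC 0 n)) && Nat.beq (twC (twC n)) n) &&
    Nat.beq (compL (compL twL targetB) twL) targetA = true := by decide +kernel

end Cfsg.Agent.HSLocal.Coord
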