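import Cfsg.Agent.Lib.HSLocal.Coord.RShape
import Cfsg.Agent.Lib.HSLocal.Coord.HDec

/-!
What the coordinates of `C(t)` are built from: the core in the coordinates of `N(V)` and an element of order
five with known action.
-/

set_option autoImplicit false

namespace Cfsg.Agent.HSLocal.Coord

/-- Coordinates of the stabiliser and an element of order five of `C(t)` acting by the automorphism `alphaC`. -/
structure HGen {G : Type*} [Group G] (t : G) (R V : Subgroup G) where
  C : RCoord t R V 0
  g : G
  g5 : g ^ 5 = 1
  gt : g * t = t * g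
  gN : g ∉ Subgroup.normalizer (V : Set G)
  conj : ∀ n ∈ coreList 0, g * C.P.el n * g⁻¹ = C.P.el (alphaC n)
  gy : g * C.P.y = C.P.el codeY1 * g
  zg : C.P.el codeZ * g = g ^ 2 * C.P.el codeZ
  cover : ∀ h : G, h * t = t * h → ∃ n, isB n = true ∧ ∃ i < 5, h = C.P.el n * g ^ i

end Cfsg.Agent.HSLocal.Coord
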