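import Cfsg.Agent.Lib.HSLocal.Coord.HAct

/-!
Lifting an action on the classes to an exact action on the core, and the twist of the coordinates by
`s ↦ s t`.
-/

set_option autoImplicit false
set_option maxRecDepth 100000
set_option linter.unusedSectionVars false

namespace Cfsg.Agent.HSLocal.Coord

open Subgroup

variable {G : Type*} [Group G] {a : ℕ} (ha : a = 0 ∨ a = 4) {t : G} {R V : Subgroup G}
  [Finite G] (F : GFrame t R V) (C : RCoord t R V a)

include ha C F

theorem RCoord.isB_bit {p b : ℕ} (hp : isB p = true) (hb : b < 2) :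
    isB (b * p) = true ∧ C.P.el (b * p) = C.P.el p ^ b := by
  interval_cases b
  · simp only [zero_mul, pow_zero]; exact ⟨isB_of_lt (by norm_num), C.P.el_zero⟩
  · simp [hp]

theorem RCoord.el_small {j : ℕ} (hj : j < 4) : C.P.el j = C.P.el 1 ^ j := by
  rw [C.P.el_lt j (by omega), C.P.el_lt 1 (by norm_num), MR.vc, MR.vc]
  simp [vec, Nat.mod_eq_of_lt hj, Nat.div_eq_of_lt hj, Nat.div_eq_of_lt (show j < 16 by omega)]

/-- The value of a product of five generators. -/
theorem RCoord.el_five {p q r u : ℕ} (hp : isB p = true) (hq : isB q = true) (hr : isB r = true)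
    (hu : isB u = true) (i : ℕ) :
    C.P.el (mulB 0 (mulB 0 (mulB 0 (mulB 0 (i % 4) (i / 4 % 2 * p)) (i / 8 % 2 * q)) (i / 16 % 2 * r))
      (i / 32 % 2 * u)) =
      C.P.el 1 ^ (i % 4) * C.P.el p ^ (i / 4 % 2) * C.P.el q ^ (i / 8 % 2) * C.P.el r ^ (i / 16 % 2) *
        C.P.el u ^ (i / 32 % 2) := by
  have h0 : isB (i % 4) = true := isB_of_lt (by omega)
  obtain ⟨b1, e1⟩ := C.isB_bit ha F hp (b := i / 4 % 2) (by omega)
  obtain ⟨b2, e2⟩ := C.isB_bit ha F hq (b := i / 8 % 2) (by omega)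
  obtain ⟨b3, e3⟩ := C.isB_bit ha F hr (b := i / 16 % 2) (by omega)
  obtain ⟨b4, e4⟩ := C.isB_bit ha F hu (b := i / 32 % 2) (by omega)
  have m1 := mulB_isB zero_le_one h0 b1
  have m2 := mulB_isB zero_le_one m1 b2
  have m3 := mulB_isB zero_le_one m2 b3
  rw [C.P.el_mulB zero_le_one m3 b4, C.P.el_mulB zero_le_one m2 b3, C.P.el_mulB zero_le_one m1 b2,
    C.P.el_mulB zero_le_one h0 b1, e1, e2, e3, e4, C.el_small ha F (by omega : i % 4 < 4)]

/-- Two codes of one class differ by a power of `e`. -/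
theorem RCoord.eq_mul_small {m n : ℕ} (hm : m ∈ coreL a) (hn : n ∈ coreL a) (e : clsC a m = clsC a n) :
    ∃ j < 4, m = mulB 0 n j := by
  obtain ⟨d, hd, hde⟩ := (C.mem ha _).1 (mul_mem (inv_mem (C.el_mem ha hn)) (C.el_mem ha hm))
  have hnd : m = mulB 0 n d := C.el_inj ha hm (clsC_mul ha hn hd).2.1 (by
    rw [C.el_mul ha hn hd, hde, mul_inv_cancel_left])
  refine ⟨d, (clsC_zero ha hd).1 ?_, hnd⟩
  have key : ∀ u < 16, ∀ v < 16, Nat.xor u v = u → v = 0 := by decide +kernel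
  refine key _ (clsC_lt ha hn) _ (clsC_lt ha hd) ?_
  rw [← (clsC_mul ha hn hd).1, ← hnd, e]

/-- An element of order five fixes `e`. -/
theorem RCoord.fix_e {h : G} (hh : h * t = t * h) (h5 : h ^ 5 = 1) :
    h * C.P.el 1 * h⁻¹ = C.P.el 1 := by
  have h1 : (1 : ℕ) ∈ coreL a := gen_mem ha (by simp)
  obtain ⟨m, hm, hme⟩ := C.exists_img ha F hh h1
  have hlt := C.img_lt ha F hh (by norm_num) hm hme
  have hm0 : m ≠ 0 ∧ m ≠ 2 := by
    constructor <;> rintro rfl
    · rw [C.P.el_zero, eq_comm, conj_eq_one_iff] at hme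
      exact absurd (C.el_inj ha h1 (gen_mem ha (by simp)) (hme.trans C.P.el_zero.symm)) (by norm_num)
    · rw [C.two] at hme
      have : C.P.el 1 = t := by
        have h' : h⁻¹ * t = t * h⁻¹ := (show Commute h t from hh).inv_left.eq
        calc C.P.el 1 = h⁻¹ * (h * C.P.el 1 * h⁻¹) * h := by group
          _ = t * (h⁻¹ * h) := by rw [← hme, h', mul_assoc]
          _ = _ := by rw [inv_mul_cancel, mul_one]
      exact absurd (C.el_inj ha h1 (gen_mem ha (by simp)) (this.trans C.two.symm)) (by norm_num)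
  rcases (show m = 1 ∨ m = 3 by omega) with rfl | rfl
  · exact hme.symm
  · exfalso
    rw [C.el_small ha F (by norm_num : 3 < 4)] at hme
    have key : ∀ k : ℕ, h ^ k * C.P.el 1 * (h ^ k)⁻¹ = C.P.el 1 ^ 3 ^ k := by
      intro k
      induction k with
      | zero => simp
      | succ k ih =>
        calc h ^ (k + 1) * C.P.el 1 * (h ^ (k + 1))⁻¹ = h * (h ^ k * C.P.el 1 * (h ^ k)⁻¹) * h⁻¹ := by
              rw [pow_succ']; group
          _ = (h * C.P.el 1 * h⁻¹) ^ 3 ^ k := by rw [ih, conj_pow]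
          _ = _ := by rw [← hme, ← pow_mul, ← pow_succ']
    have h5' := key 5
    rw [h5, inv_one, one_mul, mul_one] at h5'
    have e4 : C.P.el 1 ^ 4 = 1 := by rw [C.P.el_one]; exact C.P.abel.e4
    rw [pow_eq_pow_mod (3 ^ 5) e4, show 3 ^ 5 % 4 = 3 by norm_num, ← C.el_small ha F (by norm_num : 3 < 4)]
      at h5'
    exact absurd (C.el_inj ha h1 (gen_mem ha (by simp)) h5') (by norm_num)

/-- An action on classes with given images of the generators is realised exactly after an inner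
automorphism. -/
theorem RCoord.lift {T : List ℕ} (hT : liftB a T = true) {h : G} (hh : h * t = t * h)
    (hfix : h * C.P.el 1 * h⁻¹ = C.P.el 1) {L : ℕ} (hL : C.Act h L)
    (hmem : ∀ i < 4, T.getD (i + 1) 0 ∈ coreL a)
    (hcls : ∀ i < 4, clsC a (T.getD (i + 1) 0) = appL L (clsC a ([8, 32, genR a, genQ a].getD i 0))) :
    ∃ r ∈ coreL a, (C.P.el r * h) * C.P.el 1 * (C.P.el r * h)⁻¹ = C.P.el 1 ∧
      ∀ i < 4, (C.P.el r * h) * C.P.el ([8, 32, genR a, genQ a].getD i 0) * (C.P.el r * h)⁻¹ =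
        C.P.el (T.getD (i + 1) 0) := by
  have hg : ∀ i < 4, [8, 32, genR a, genQ a].getD i 0 ∈ coreL a := fun i hi => by
    interval_cases i <;> exact gen_mem ha (by simp)
  have him : ∀ i < 4, ∃ j < 4, C.P.el (mulB 0 (T.getD (i + 1) 0) j) =
      h * C.P.el ([8, 32, genR a, genQ a].getD i 0) * h⁻¹ := by
    intro i hi
    obtain ⟨m, hm, hme⟩ := C.exists_img ha F hh (hg i hi)
    obtain ⟨j, hj, e⟩ := C.eq_mul_small ha F hm (hmem i hi)
      (by rw [hL.2 _ (hg i hi) m hm hme, hcls i hi])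
    exact ⟨j, hj, e ▸ hme⟩
  choose! j hj4 hje using him
  set w := j 0 + 4 * j 1 + 16 * j 2 + 64 * j 3 with hw
  have b0 := hj4 0 (by norm_num)
  have b1 := hj4 1 (by norm_num)
  have b2 := hj4 2 (by norm_num)
  have b3 := hj4 3 (by norm_num)
  have hwj : ∀ i < 4, w / 4 ^ i % 4 = j i := fun i hi => by
    interval_cases i <;> omega
  have hw256 : w < 256 := by omega
  have hjm : ∀ {k}, k < 4 → k ∈ coreL a := @fun k hk => gen_mem ha (by interval_cases k <;> simp)
  have hsq : ∀ i < 4, Nat.beq (mulB 0 (mulB 0 (T.getD (i + 1) 0) (j i)) (mulB 0 (T.getD (i + 1) 0) (j i)))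
      (mulB 0 ([8, 32, genR a, genQ a].getD i 0) ([8, 32, genR a, genQ a].getD i 0)) = true := by
    intro i hi
    have hm := (clsC_mul ha (hmem i hi) (hjm (hj4 i hi))).2.1
    rw [Nat.beq_eq]
    refine C.el_inj ha (clsC_mul ha hm hm).2.1 (clsC_mul ha (hg i hi) (hg i hi)).2.1 ?_
    rw [C.el_mul ha hm hm, C.el_mul ha (hg i hi) (hg i hi), hje i hi]
    rcases F.sq _ (C.el_mem ha (hg i hi)) with e | e <;> rw [pow_two] at e
    · rw [show h * C.P.el ([8, 32, genR a, genQ a].getD i 0) * h⁻¹ *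
          (h * C.P.el ([8, 32, genR a, genQ a].getD i 0) * h⁻¹) = h * (C.P.el ([8, 32, genR a, genQ a].getD i 0) *
          C.P.el ([8, 32, genR a, genQ a].getD i 0)) * h⁻¹ by group, e, mul_one, mul_inv_cancel]
    · rw [show h * C.P.el ([8, 32, genR a, genQ a].getD i 0) * h⁻¹ *
          (h * C.P.el ([8, 32, genR a, genQ a].getD i 0) * h⁻¹) = h * (C.P.el ([8, 32, genR a, genQ a].getD i 0) *
          C.P.el ([8, 32, genR a, genQ a].getD i 0)) * h⁻¹ by group, e, hh, mul_inv_cancel_right]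
  have hl := List.all_eq_true.1 hT w (List.mem_range.2 hw256)
  have hs0 := hsq 0 (by norm_num)
  have hs1 := hsq 1 (by norm_num)
  have hs2 := hsq 2 (by norm_num)
  have hs3 := hsq 3 (by norm_num)
  have g0 : [8, 32, genR a, genQ a].getD 0 0 = 8 := rfl
  have g1 : [8, 32, genR a, genQ a].getD 1 0 = 32 := rfl
  have g2 : [8, 32, genR a, genQ a].getD 2 0 = genR a := rfl
  have g3 : [8, 32, genR a, genQ a].getD 3 0 = genQ a := rfl
  rw [g0] at hs0
  rw [g1] at hs1
  rw [g2] at hs2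
  rw [g3] at hs3
  simp only [hwj 0 (by norm_num), hwj 1 (by norm_num), hwj 2 (by norm_num), hwj 3 (by norm_num), hs0, hs1,
    hs2, hs3, Bool.and_self, Bool.not_true, Bool.false_or, List.any_eq_true, Bool.and_eq_true,
    Nat.beq_eq] at hl
  obtain ⟨r, hr, ⟨⟨r0, r1⟩, r2⟩, r3⟩ := hl
  refine ⟨r, hr, ?_, fun i hi => ?_⟩
  · have hc := C.lt_central ha F (by norm_num : 1 < 4) r hr
    calc C.P.el r * h * C.P.el 1 * (C.P.el r * h)⁻¹
        = C.P.el r * (h * C.P.el 1 * h⁻¹) * (C.P.el r)⁻¹ := by group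
      _ = _ := by rw [hfix, ← hc, mul_inv_cancel_right]
  · have hrB := isB_core ha hr
    have hmB := isB_core ha (clsC_mul ha (hmem i hi) (hjm (hj4 i hi))).2.1
    have e : cjB 0 r (mulB 0 (T.getD (i + 1) 0) (j i)) = T.getD (i + 1) 0 := by
      interval_cases i
      · exact r0
      · exact r1
      · exact r2
      · exact r3
    calc C.P.el r * h * C.P.el ([8, 32, genR a, genQ a].getD i 0) * (C.P.el r * h)⁻¹
        = C.P.el r * (h * C.P.el ([8, 32, genR a, genQ a].getD i 0) * h⁻¹) * (C.P.el r)⁻¹ := by group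
      _ = _ := by rw [← hje i hi, ← C.P.el_cjB zero_le_one hrB hmB, e]

/-- The stabiliser meets each coset of a group of order five outside it once. -/
theorem RCoord.cover {g : G} (gt : g * t = t * g) (g5 : g ^ 5 = 1) (gN : g ∉ normalizer (V : Set G))
    {h : G} (hh : h * t = t * h) : ∃ n, isB n = true ∧ ∃ i < 5, h = C.P.el n * g ^ i := by
  classical
  set B := centralizer ({t} : Set G) ⊓ normalizer (V : Set G) with hB
  have hpow : ∀ i, 0 < i → i < 5 → g ^ i ∉ normalizer (V : Set G) := by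
    intro i h0 h5 hm
    obtain ⟨k, hk⟩ : ∃ k, i * k % 5 = 1 := by
      have : ∀ n < 5, 0 < n → ∃ m < 5, n * m % 5 = 1 := by decide
      obtain ⟨k, -, hk⟩ := this i h5 h0
      exact ⟨k, hk⟩
    have h1 := pow_mem hm k
    rw [← pow_mul, pow_eq_pow_mod _ g5, hk, pow_one] at h1
    exact gN h1
  have hBc : ∀ b ∈ B, b * t = t * b := fun b hb => mem_centralizer_singleton_iff.1 hb.1
  let ψ : B × Fin 5 → centralizer ({t} : Set G) := fun p =>
    ⟨(p.1 : G) * g ^ (p.2 : ℕ), mul_mem p.1.2.1 (pow_mem (mem_centralizer_singleton_iff.2 gt) _)⟩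
  have hinj : Function.Injective ψ := by
    rintro ⟨b, i⟩ ⟨b', i'⟩ e
    have e' : (b : G) * g ^ (i : ℕ) = (b' : G) * g ^ (i' : ℕ) := congrArg Subtype.val e
    have key : ∀ (u v : B) (m n : Fin 5), (u : G) * g ^ (m : ℕ) = (v : G) * g ^ (n : ℕ) → (m : ℕ) < n →
        False := by
      intro u v m n e hlt
      refine hpow (n - m) (by omega) (by omega) ?_
      have : g ^ ((n : ℕ) - m) = (v : G)⁻¹ * (u : G) := by
        rw [eq_inv_mul_iff_mul_eq]
        refine mul_right_cancel (b := g ^ (m : ℕ)) ?_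
        rw [mul_assoc, ← pow_add, show (n : ℕ) - m + m = n by omega]
        exact e.symm
      rw [this]
      exact mul_mem (inv_mem v.2.2) u.2.2
    rcases lt_trichotomy (i : ℕ) i' with hlt | heq | hlt
    · exact (key b b' i i' e' hlt).elim
    · obtain rfl := Fin.ext heq
      exact Prod.ext (Subtype.ext (mul_right_cancel e')) rfl
    · exact (key b' b i' i e'.symm hlt).elim
  obtain ⟨⟨b, i⟩, hbi⟩ := ((Nat.bijective_iff_injective_and_card ψ).2 ⟨hinj, by
    rw [Nat.card_prod, Nat.card_fin, F.cardNC, F.cardC]⟩).2 ⟨h, mem_centralizer_singleton_iff.2 hh⟩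
  obtain ⟨n, hn, hne⟩ := (C.memN _).1 b.2.2
  refine ⟨n, (C.memB n hn).1 (hne ▸ hBc b b.2), i, i.2, ?_⟩
  rw [hne]
  exact (congrArg Subtype.val hbi).symm

omit F
omit ha

end Cfsg.Agent.HSLocal.Coord
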