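import Cfsg.Agent.Lib.HSLocal.Coord.Twist

/-!
An element of order five of `C(t)` with the prescribed action on the core.
-/

set_option autoImplicit false
set_option maxRecDepth 100000
set_option linter.unusedSectionVars false

namespace Cfsg.Agent.HSLocal.Coord

open Subgroup

theorem stepGens_isB : ∀ a ∈ [0, 4], (stepGens a).all isB = true := by decide +kernel

theorem rep0_isB : HData.rep0.all isB = true := by decide +kernel

theorem target_not_img : memB targetA (imgB 0) = false ∧ memB idL (imgB 0) = true := by decide +kernel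

theorem alpha_gens : ∀ i < 4, HData.alpha.getD (i + 1) 0 ∈ coreL 0 ∧
    clsC 0 (HData.alpha.getD (i + 1) 0) = appL targetA (clsC 0 ([8, 32, genR 0, genQ 0].getD i 0)) := by
  decide +kernel

theorem id_gens : ∀ a ∈ [0, 4], ∀ i < 4, appL idL (clsC a ([8, 32, genR a, genQ a].getD i 0)) =
    clsC a ([8, 32, genR a, genQ a].getD i 0) := by
  decide +kernel

theorem coreL_len : ∀ a ∈ [0, 4], (coreL a).length = 64 := by decide +kernel

variable {G : Type*} [Group G] [Finite G] {t : G} {R V : Subgroup G} {a : ℕ}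

theorem pow_not_mem {g : G} (g5 : g ^ 5 = 1) {N : Subgroup G} (gN : g ∉ N) {i : ℕ} (h0 : i % 5 ≠ 0) :
    g ^ i ∉ N := fun hm => by
  obtain ⟨k, hk⟩ : ∃ k, i * k % 5 = 1 := by
    have : ∀ n < 5, n ≠ 0 → ∃ m < 5, n * m % 5 = 1 := by decide
    obtain ⟨k, -, hk⟩ := this (i % 5) (Nat.mod_lt _ (by norm_num)) h0
    exact ⟨k, by rw [Nat.mul_mod] at hk ⊢; simpa using hk⟩
  have h1 := pow_mem hm k
  rw [← pow_mul, pow_eq_pow_mod _ g5, hk, pow_one] at h1
  exact gN h1

section

variable (ha : a = 0 ∨ a = 4) (F : GFrame t R V) (C : RCoord t R V a)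
include ha F C

/-- An element centralising the core is a power of `e`. -/
theorem RCoord.central_code {h : G} (hh : h * t = t * h)
    (hc : ∀ n ∈ coreL a, h * C.P.el n = C.P.el n * h) : ∃ d < 4, C.P.el d = h := by
  obtain ⟨d, hd, he⟩ := (C.mem ha h).1 (F.self_cent h hh fun r hr => by
    obtain ⟨n, hn, rfl⟩ := (C.mem ha r).1 hr
    exact hc n hn)
  exact ⟨d, C.central_lt ha F hd fun k hk => by rw [he]; exact hc k hk, he⟩

/-- Elements with the same effect on five generators have the same effect on the core. -/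
theorem RCoord.conj_ext {h k : G} (h1 : h * C.P.el 1 * h⁻¹ = k * C.P.el 1 * k⁻¹)
    (hg : ∀ i < 4, h * C.P.el ([8, 32, genR a, genQ a].getD i 0) * h⁻¹ =
      k * C.P.el ([8, 32, genR a, genQ a].getD i 0) * k⁻¹) :
    ∀ n ∈ coreL a, h * C.P.el n * h⁻¹ = k * C.P.el n * k⁻¹ := by
  intro n hn
  have hlen : (coreL a).length = 64 := coreL_len a (mem_pair ha)
  obtain ⟨i, hi, hin⟩ := List.mem_iff_getElem.1 hn
  have hp := List.all_eq_true.1 (prodC_ok a (mem_pair ha)) i (List.mem_range.2 (by omega))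
  rw [Nat.beq_eq, List.getD_eq_getElem _ _ hi, hin] at hp
  have hg' : ∀ p ∈ [8, 32, genR a, genQ a], isB p = true ∧ h * C.P.el p * h⁻¹ = k * C.P.el p * k⁻¹ := by
    intro p hp'
    simp only [List.mem_cons, List.not_mem_nil, or_false] at hp'
    rcases hp' with rfl | rfl | rfl | rfl
    · exact ⟨isB_core ha (gen_mem ha (by simp)), hg 0 (by norm_num)⟩
    · exact ⟨isB_core ha (gen_mem ha (by simp)), hg 1 (by norm_num)⟩
    · exact ⟨isB_core ha (gen_mem ha (by simp)), hg 2 (by norm_num)⟩
    · exact ⟨isB_core ha (gen_mem ha (by simp)), hg 3 (by norm_num)⟩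
  obtain ⟨p1, q1⟩ := hg' 8 (by simp)
  obtain ⟨p2, q2⟩ := hg' 32 (by simp)
  obtain ⟨p3, q3⟩ := hg' (genR a) (by simp)
  obtain ⟨p4, q4⟩ := hg' (genQ a) (by simp)
  have he : C.P.el n = C.P.el 1 ^ (i % 4) * C.P.el 8 ^ (i / 4 % 2) * C.P.el 32 ^ (i / 8 % 2) *
      C.P.el (genR a) ^ (i / 16 % 2) * C.P.el (genQ a) ^ (i / 32 % 2) := by
    rw [← C.el_five ha F p1 p2 p3 p4 i, ← hp]
    simp [prodC]
  have key : ∀ u : G, u * C.P.el n * u⁻¹ = (u * C.P.el 1 * u⁻¹) ^ (i % 4) *
      (u * C.P.el 8 * u⁻¹) ^ (i / 4 % 2) * (u * C.P.el 32 * u⁻¹) ^ (i / 8 % 2) *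
      (u * C.P.el (genR a) * u⁻¹) ^ (i / 16 % 2) * (u * C.P.el (genQ a) * u⁻¹) ^ (i / 32 % 2) := fun u => by
    rw [he, conj_pow, conj_pow, conj_pow, conj_pow, conj_pow]
    group
  rw [key h, key k, h1, q1, q2, q3, q4]

/-- An element of order five outside the stabiliser acts nontrivially. -/
theorem RCoord.act_ne_id {h : G} (hh : h * t = t * h) (h5 : h ^ 5 = 1)
    (hN : h ∉ normalizer (V : Set G)) {L : ℕ} (hL : C.Act h L) : L ≠ idL := by
  rintro rfl
  refine hN ?_
  have hg : ∀ i < 4, [8, 32, genR a, genQ a].getD i 0 ∈ coreL a := fun i hi => by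
    interval_cases i <;> exact gen_mem ha (by simp)
  obtain ⟨r, hr, hre, hri⟩ := C.lift ha F (lift_id a (mem_pair ha)) hh (C.fix_e ha F hh h5) hL
    (fun i hi => hg i hi) (fun i hi => (id_gens a (mem_pair ha) i hi).symm)
  have hrt : C.P.el r * h * t = t * (C.P.el r * h) :=
    (show Commute (C.P.el r) t from C.commute_t ha (isB_core ha hr)).mul_left hh
  obtain ⟨d, hd, he⟩ := C.central_code ha F hrt fun n hn => by
    have := C.conj_ext ha F (h := C.P.el r * h) (k := 1) (by rw [hre]; group)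
      (fun i hi => by rw [hri i hi, one_mul, inv_one, mul_one]; rfl) n hn
    rw [one_mul, inv_one, mul_one] at this
    exact mul_inv_eq_iff_eq_mul.1 this
  have hR : ∀ n ∈ coreL a, C.P.el n ∈ normalizer (V : Set G) := fun n hn => F.Vnorm (C.el_mem ha hn)
  have : h = (C.P.el r)⁻¹ * C.P.el d := by rw [he, inv_mul_cancel_left]
  rw [this]
  exact mul_mem (inv_mem (hR r hr)) (hR d (gen_mem ha (by interval_cases d <;> simp)))

/-- The action of an element of order five passes the test of the scans. -/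
theorem RCoord.candB_act {g : G} (gt : g * t = t * g) (g5 : g ^ 5 = 1)
    (gN : g ∉ normalizer (V : Set G)) {L : ℕ} (hL : C.Act g L) : candB a L = true := by
  have h5 : powL L 5 = idL :=
    C.act_unique ha F (by rw [g5]; simp) (C.act_pow ha F gt hL 5) (by rw [g5]; exact C.act_one ha F)
  simp only [candB, Bool.and_eq_true, Bool.not_eq_true', Nat.beq_eq]
  refine ⟨⟨h5, Bool.eq_false_iff.2 fun e => C.act_ne_id ha F gt g5 gN hL (Nat.eq_of_beq_eq_true e)⟩, ?_⟩
  rw [stepsB, List.all_eq_true]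
  intro b hb
  have hbB := List.all_eq_true.1 (stepGens_isB a (mem_pair ha)) b hb
  have hgb : g * C.P.el b * t = t * (g * C.P.el b) :=
    (show Commute g t from gt).mul_left (C.commute_t ha hbB)
  obtain ⟨n, hn, i, hi, he⟩ := C.cover ha F gt g5 gN hgb
  rw [List.any_eq_true]
  refine ⟨i, List.mem_range.2 hi, ?_⟩
  have hw : g * C.P.el b * g ^ ((5 - i) % 5) = C.P.el n := by
    rw [he, mul_assoc, ← pow_add, pow_eq_pow_mod _ g5, show (i + (5 - i) % 5) % 5 = 0 by omega, pow_zero, mul_one]
  have hA := C.act_mul ha F hgb ((show Commute g t from gt).pow_left _)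
    (C.act_mul ha F gt (C.commute_t ha hbB) hL (C.act_el ha F hbB)) (C.act_pow ha F gt hL ((5 - i) % 5))
  rw [hw] at hA
  rw [C.act_unique ha F (C.commute_t ha hn) hA (C.act_el ha F hn), memB_iff]
  have hs : ((List.range 24).all fun j => imgCheck a j) = true := by
    rcases ha with rfl | rfl
    · exact imgB0
    · exact imgB4
  obtain ⟨h1, h2⟩ := isB_iff.1 hn
  have := List.all_eq_true.1 (List.all_eq_true.1 hs _ (List.mem_range.2 h2)) (n % 64)
    (List.mem_range.2 (Nat.mod_lt _ (by norm_num)))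
  rw [qb_get hn, Nat.div_add_mod n 64, memB_iff] at this
  exact this

/-- The scans apply to the action of an element of order five. -/
theorem RCoord.scan_act {test : ℕ → Bool} (hs : ((List.range 16).all fun p => scanL a p test) = true)
    {g : G} (gt : g * t = t * g) (g5 : g ^ 5 = 1) (gN : g ∉ normalizer (V : Set G)) {L : ℕ}
    (hL : C.Act g L) : test L = true := by
  obtain ⟨a1, a2, a3, a4⟩ := appL_basis L
  have f12 := C.act_form ha F gt hL (x := 1) (y := 2) (by norm_num) (by norm_num)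
  have f14 := C.act_form ha F gt hL (x := 1) (y := 4) (by norm_num) (by norm_num)
  have f18 := C.act_form ha F gt hL (x := 1) (y := 8) (by norm_num) (by norm_num)
  have f24 := C.act_form ha F gt hL (x := 2) (y := 4) (by norm_num) (by norm_num)
  have f28 := C.act_form ha F gt hL (x := 2) (y := 8) (by norm_num) (by norm_num)
  have f48 := C.act_form ha F gt hL (x := 4) (y := 8) (by norm_num) (by norm_num)
  rw [a1, a2] at f12
  rw [a1, a3] at f14
  rw [a1, a4] at f18
  rw [a2, a3] at f24
  rw [a2, a4] at f28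
  rw [a3, a4] at f48
  have h := List.all_eq_true.1 hs _ (List.mem_range.2 (nib_lt L 0))
  rw [scanL, List.all_eq_true] at h
  have h := h _ (List.mem_range.2 (nib_lt L 1))
  rw [f12, beq_self_eq_true, Bool.not_true, Bool.false_or, List.all_eq_true] at h
  have h := h _ (List.mem_range.2 (nib_lt L 2))
  rw [f14, f24, beq_self_eq_true, beq_self_eq_true, Bool.true_and, Bool.not_true, Bool.false_or,
    List.all_eq_true] at h
  have h := h _ (List.mem_range.2 (nib_lt L 3))
  rw [f18, f28, f48, beq_self_eq_true, beq_self_eq_true, beq_self_eq_true, Bool.true_and, Bool.true_and,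
    Bool.not_true, Bool.false_or, ← hL.1, C.candB_act ha F gt g5 gN hL, Bool.not_true, Bool.false_or] at h
  exact h

end

end Cfsg.Agent.HSLocal.Coord
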