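import Cfsg.Agent.Lib.HSLocal.Coord.BIso
import Cfsg.Agent.Lib.HSLocal.Coord.HDec

/-!
Decidable facts for the coordinates of `C(t)`: every code is a code fixing the last point times a power of
the element of order five.
-/

set_option autoImplicit false
set_option maxRecDepth 100000

namespace Cfsg.Agent.HSLocal.Coord

open Cfsg.Agent.HSLocal

/-- The powers of the code of the element of order five. -/
def gp (i : ℕ) : ℕ := [0, 4096, 6144, 2112, 5760].getD (i % 5) 0

/-- The exponent of the element of order five in a code. -/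
def ipart (a : ℕ) : ℕ :=
  [2, 4, 1, 3, 0].getD (((List.range 5).map fun x => img (a / 64 % 120) x).idxOf 4) 0

/-- The part fixing the last point. -/
def bpart (a : ℕ) : ℕ := HSLocal.mul a (gp (5 - ipart a))

/-- The part fixing the last point of `g^i b`. -/
def tb (i b : ℕ) : ℕ := bpart (HSLocal.mul (gp i) b)

/-- The exponent of `g^i b`. -/
def tj (i b : ℕ) : ℕ := ipart (HSLocal.mul (gp i) b)

/-- A derivation of the relations of the element of order five with the stabilizer. -/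
def cert : List (ℕ × ℕ × ℕ × ℕ) := [(0, 2, 1, 0), (0, 2, 2, 0), (1, 2, 1, 2), (0, 2, 2310, 0), (1, 2, 3, 2310), (0, 1, 2458, 0), (1, 2, 2309, 2458), (0, 1, 1, 0), (1, 1, 2458, 1), (0, 1, 2, 0), (0, 1, 2310, 0), (1, 1, 2, 2310), (1, 1, 2489, 2308), (1, 2, 5387, 4624), (3, 1, 2, 0), (1, 1, 30, 2), (1, 1, 2458, 2458), (1, 1, 60, 4789), (2, 2, 2458, 0), (0, 3, 1, 0), (0, 3, 2310, 0), (1, 3, 1, 2310), (0, 4, 2310, 0), (1, 3, 2311, 2310), (1, 2, 1, 2310), (1, 2, 2311, 2458), (1, 3, 5521, 5385), (1, 1, 2458, 2), (0, 3, 8, 0), (1, 1, 2310, 8), (1, 1, 2491, 2360), (2, 3, 139, 0), (1, 4, 2310, 2310), (1, 4, 5520, 2458), (1, 1, 2310, 2310), (1, 1, 5520, 2310), (1, 4, 3129, 3220), (1, 4, 139, 2099)]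

/-- The pair proved by a step. -/
def concl : ℕ × ℕ × ℕ × ℕ → ℕ × ℕ
  | (1, i, b, c) => (i, HSLocal.mul b c)
  | (2, i, b, _) => ((i + 1) % 5, b)
  | (3, i, b, _) => (1, tb i b)
  | (_, i, b, _) => (i, b)

/-- The code fixes the last point. -/
def inS (b : ℕ) : Bool := Nat.blt b 7680 && Nat.beq (img (b / 64) 4) 4

/-- The validity of a step after some proved pairs. -/
def okStep (known : List (ℕ × ℕ)) : ℕ × ℕ × ℕ × ℕ → Bool
  | (0, i, b, _) => Nat.blt i 5 && ([1, 2, 4, 8, 16, 2310].contains b || (b == 2458 && Nat.blt i 2))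
  | (1, i, b, c) => inS b && inS c && known.contains (i, b) && known.contains (tj i b, c) &&
      inS (tb i b) && inS (tb (tj i b) c) &&
      tb i (HSLocal.mul b c) == HSLocal.mul (tb i b) (tb (tj i b) c) && tj i (HSLocal.mul b c) == tj (tj i b) c
  | (2, i, b, _) => inS b && known.contains (i, b) && known.contains (1, tb i b) &&
      tb ((i + 1) % 5) b == tb 1 (tb i b) && (tj 1 (tb i b) + tj i b) % 5 == tj ((i + 1) % 5) b
  | (3, i, b, _) => inS b && known.contains (i, b) && known.contains ((i + 1) % 5, b) &&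
      tb 1 (tb i b) == tb ((i + 1) % 5) b && (tj 1 (tb i b) + tj i b) % 5 == tj ((i + 1) % 5) b
  | _ => false

/-- The validity of a derivation. -/
def okCert : List (ℕ × ℕ) → List (ℕ × ℕ × ℕ × ℕ) → Bool
  | _, [] => true
  | known, s :: l => okStep known s && okCert (concl s :: known) l

theorem cert_ok : okCert [] cert = true ∧ ∀ i, i < 5 → 2 ≤ i → (i, 2458) ∈ cert.map concl := by decide +kernel

theorem gp_facts : bpart 4096 = 0 ∧ ipart 4096 = 1 ∧ bpart 32 = 32 ∧ ipart 32 = 0 ∧ bpart 0 = 0 ∧ ipart 0 = 0 := by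
  decide +kernel

theorem inS_gens : ∀ i, i < 5 → ∀ u ∈ gensB, inS u = true ∧ inS (tb i u) = true ∧ tj i u < 5 := by decide +kernel

theorem gens_ipart : ∀ u ∈ gensB, ipart u = 0 ∧ bpart u = u := by decide +kernel

theorem split_fact : ∀ p, p < 120 → ∀ r, r < 64 →
    bpart (64 * p + r) = HSLocal.mul r (bpart (64 * p)) := by decide +kernel

theorem rep_facts : ∀ p, p < 120 → ipart (64 * p) < 5 ∧ inS (bpart (64 * p)) = true := by decide +kernel

theorem step_facts : ∀ p, p < 120 → ∀ u ∈ gensB,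
    bpart (HSLocal.mul (64 * p) u) = HSLocal.mul (bpart (64 * p)) (tb (ipart (64 * p)) u) ∧
      ipart (HSLocal.mul (64 * p) u) = tj (ipart (64 * p)) u := by decide +kernel

theorem step_g : ∀ p, p < 120 → bpart (HSLocal.mul (64 * p) 4096) = bpart (64 * p) ∧
    ipart (HSLocal.mul (64 * p) 4096) = (ipart (64 * p) + 1) % 5 := by decide +kernel

theorem zero_facts : ∀ p, p < 120 → ipart (64 * p) = 0 → bpart (64 * p) = 64 * p ∧ Stab4 p := by decide +kernel

theorem base_R : ∀ i, i < 5 → ∀ r ∈ [1, 2, 4, 8, 16],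
    phi (tb i r) = alphaC^[i] (phi r) ∧ tj i r = i ∧ alphaC^[i] (phi r) ∈ coreList 0 := by decide +kernel

theorem base_zy : (∀ i, i < 5 → tb i 2310 = 2310 ∧ tj i 2310 = 3 * i % 5) ∧ tb 0 2458 = 2458 ∧ tj 0 2458 = 0 ∧
    tb 1 2458 = 3585 ∧ tj 1 2458 = 1 ∧ phi 2310 = codeZ ∧ phi 2458 = codeY ∧ phi 3585 = codeY1 ∧
    (∀ i, i < 5 → ∀ u ∈ [1, 2, 4, 8, 16], tj i u = i) := by decide +kernel

theorem phi_isB : (∀ p, p < 120 → Stab4 p →
      isB (phi (64 * p)) = true ∧ (memB (phi (64 * p)) (coreList 0) = true → p = 0)) ∧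
    ∀ r, r < 64 → memB (phi r) (coreList 0) = true ∧ isB (phi r) = true ∧ (phi r = 0 → r = 0) := by
  decide +kernel

theorem phiR_core : (∀ n ∈ coreList 0, n ∈ phiR) ∧ phiR.length = 64 ∧ ∀ r, r < 64 → phi r = phiR.getD r 0 := by
  decide +kernel

theorem phiR_inj : ∀ r, r < 64 → ∀ s, s < 64 → phiR.getD r 0 = phiR.getD s 0 → r = s := by decide +kernel

theorem rep_div : ∀ p, p < 120 → ∀ q, q < 120 → HSLocal.inv (64 * q) < 7680 ∧
    (pmul p (pp (HSLocal.inv (64 * q))) = 0 → p = q) := by decide +kernel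

theorem ipart_small : ∀ r, r < 64 → ipart r = 0 ∧ bpart r = r := by decide +kernel

end Cfsg.Agent.HSLocal.Coord
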