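import Cfsg.Agent.Lib.HSLocal.Coord.MBase

/-!
A basis `e, f, h` of the normal subgroup `4^3` adapted to the Frobenius complement, and the action of all
elements on codes.
-/

set_option autoImplicit false
set_option linter.unusedSectionVars false

namespace Cfsg.Agent.HSLocal.Coord.Shape

universe u

variable {K : Type u} [Group K] [Finite K]

theorem linV_lt (p q r v : ℕ) : linV p q r v < 64 := by unfold linV addV mkV; omega

/-- The Frobenius complement and the fixed element of order four. -/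
structure Frob (A : Subgroup K) (t x y e : K) : Prop where
  base : Base A t
  x7 : x ^ 7 = 1
  xA : x ∉ A
  y3 : y ^ 3 = 1
  yx : y * x = x ^ 2 * y
  ye : y * e = e * y
  eA : e ∈ A
  e2 : e ^ 2 = t

variable {A : Subgroup K} {t : K}

theorem Base.exists_frob_elems (B : Base A t) : ∃ x y e : K, Frob A t x y e := by
  obtain ⟨x, y, hx, hxA, hy, hyx, hyt⟩ := B.exists_xy
  obtain ⟨a, ha, ha2⟩ := B.root t B.tA B.t2
  obtain ⟨b, hb⟩ : ∃ b, b = y * a * y⁻¹ := ⟨_, rfl⟩
  obtain ⟨c, hc⟩ : ∃ c, c = y * b * y⁻¹ := ⟨_, rfl⟩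
  have hbA : b ∈ A := hb ▸ B.conj_mem ha y
  have hcA : c ∈ A := hc ▸ B.conj_mem hbA y
  have hyti : y * t * y⁻¹ = t := by rw [hyt, mul_inv_cancel_right]
  have hb2 : b ^ 2 = t := by rw [hb, conj_pow, ha2, hyti]
  have hc2 : c ^ 2 = t := by rw [hc, conj_pow, hb2, hyti]
  have hya : y * c * y⁻¹ = a := by
    rw [hc, hb, show y * (y * (y * a * y⁻¹) * y⁻¹) * y⁻¹ = y * (y * y) * a * (y * (y * y))⁻¹ by group,
      ← pow_three, hy]
    simp
  refine ⟨x, y, a * b * c, B, hx, hxA, hy, hyx, ?_, mul_mem (mul_mem ha hbA) hcA, ?_⟩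
  · have h1 : y * (a * b * c) * y⁻¹ = b * c * a := by
      calc y * (a * b * c) * y⁻¹ = (y * a * y⁻¹) * (y * b * y⁻¹) * (y * c * y⁻¹) := by group
        _ = _ := by rw [← hb, ← hc, hya]
    rw [show b * c * a = a * b * c by
      rw [B.comm (b * c) (mul_mem hbA hcA) a ha, mul_assoc]] at h1
    exact mul_inv_eq_iff_eq_mul.1 h1
  · have h1 : Commute (a * b) c := B.comm _ (mul_mem ha hbA) _ hcA
    have h2 : Commute a b := B.comm _ ha _ hbA
    rw [h1.mul_pow, h2.mul_pow, ha2, hb2, hc2, ← pow_two, B.t2, one_mul]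

namespace Frob

variable {x y e : K} (D : Frob A t x y e)
include D

theorem fA : x * e * x⁻¹ ∈ A := D.base.conj_mem D.eA x

theorem hA : x * (x * e * x⁻¹) * x⁻¹ ∈ A := D.base.conj_mem D.fA x

theorem abel : Abel4 e (x * e * x⁻¹) (x * (x * e * x⁻¹) * x⁻¹) :=
  ⟨D.base.pow4 _ D.eA, D.base.pow4 _ D.fA, D.base.pow4 _ D.hA, D.base.comm _ D.eA _ D.fA,
    D.base.comm _ D.eA _ D.hA, D.base.comm _ D.fA _ D.hA⟩

end Frob

/-- The element of a code, for given `x` and `e`. -/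
def cd (x e : K) (v : ℕ) : K := vec e (x * e * x⁻¹) (x * (x * e * x⁻¹) * x⁻¹) v

namespace Frob

variable {x y e : K} (D : Frob A t x y e)
include D

theorem mul_cd (u v : ℕ) : cd x e u * cd x e v = cd x e (addV u v) := D.abel.mul_vec u v

theorem cd_pow (u n : ℕ) : cd x e u ^ n = cd x e (smulV n u) := D.abel.vec_pow u n

theorem cd_mem (v : ℕ) : cd x e v ∈ A :=
  mul_mem (mul_mem (pow_mem D.eA _) (pow_mem D.fA _)) (pow_mem D.hA _)

theorem cd_zero : cd x e 0 = 1 := vec_zero _ _ _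

theorem cd_one : cd x e 1 = e := by simp [cd, vec]

theorem cd_four : cd x e 4 = x * e * x⁻¹ := by simp [cd, vec]

theorem cd_sixteen : cd x e 16 = x * (x * e * x⁻¹) * x⁻¹ := by simp [cd, vec]

theorem cd_two : cd x e 2 = t := by simp [cd, vec, D.e2]

theorem conj_t_ne {i : ℕ} (h0 : 0 < i) (h7 : i < 7) : x ^ i * t * (x ^ i)⁻¹ ≠ t := by
  intro h
  have : ∀ d < 7, 0 < d → ∃ m < 7, d * m % 7 = 1 := by decide
  obtain ⟨m, -, hm⟩ := this i h7 h0
  have h2 : (x ^ i) ^ m = x := by rw [← pow_mul, pow_eq_pow_mod _ D.x7, hm, pow_one]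
  have h3 := ((show Commute (x ^ i) t from mul_inv_eq_iff_eq_mul.1 h).pow_left m).eq
  rw [h2] at h3
  exact D.base.t1 (D.base.fixedFree D.x7 D.xA t D.base.tA h3)

theorem evens_ne : ∀ v ∈ evens, cd x e v = 1 → v = 0 := by
  classical
  obtain ⟨t1, ht1⟩ : ∃ a, a = x * t * x⁻¹ := ⟨_, rfl⟩
  obtain ⟨t2, ht2⟩ : ∃ a, a = x * t1 * x⁻¹ := ⟨_, rfl⟩
  have h8 : cd x e 8 = t1 := by simp [cd, vec, ht1, conj_pow, D.e2]
  have h32 : cd x e 32 = t2 := by simp [cd, vec, ht2, ht1, conj_pow, D.e2]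
  have hA1 : t1 ∈ A := ht1 ▸ D.base.conj_mem D.base.tA x
  have sq : ∀ z : K, z * z = 1 → z⁻¹ = z := fun z hz => inv_eq_of_mul_eq_one_right hz
  have htt : t * t = 1 := by rw [← pow_two]; exact D.base.t2
  have h11 : t1 * t1 = 1 := by rw [← pow_two, ht1, conj_pow, D.base.t2]; group
  have h22 : t2 * t2 = 1 := by rw [← pow_two, ht2, conj_pow, pow_two, h11]; group
  have n01 : t1 ≠ t := by
    have := D.conj_t_ne (i := 1) (by norm_num) (by norm_num)
    rwa [pow_one, ← ht1] at this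
  have n02 : t2 ≠ t := by
    have := D.conj_t_ne (i := 2) (by norm_num) (by norm_num)
    rwa [show x ^ 2 * t * (x ^ 2)⁻¹ = t2 by rw [ht2, ht1, pow_two, mul_inv_rev]; simp only [mul_assoc]] at this
  have n12 : t2 ≠ t1 := fun h => n01 (by
    have : x * t1 * x⁻¹ = x * t * x⁻¹ := by rw [← ht2, ← ht1, h]
    exact mul_left_cancel (mul_right_cancel this))
  have n3 : t2 ≠ t * t1 := by
    intro h
    refine D.conj_t_ne (i := 3) (by norm_num) (by norm_num) ?_
    calc x ^ 3 * t * (x ^ 3)⁻¹ = x * t2 * x⁻¹ := by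
          rw [ht2, ht1, pow_three, mul_inv_rev, mul_inv_rev]; simp only [mul_assoc]
      _ = (x * t * x⁻¹) * (x * t1 * x⁻¹) := by rw [h]; group
      _ = t := by rw [← ht1, ← ht2, h, D.base.comm _ D.base.tA _ hA1, ← mul_assoc, h11, one_mul]
  intro v hv h
  simp only [evens, List.mem_cons, List.not_mem_nil, or_false] at hv
  rcases hv with rfl | rfl | rfl | rfl | rfl | rfl | rfl | rfl
  · rfl
  · exact absurd (D.cd_two ▸ h) D.base.t1
  · refine absurd (h8 ▸ h) fun e1 => D.base.t1 ?_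
    exact conj_eq_one_iff.1 (ht1 ▸ e1)
  · rw [show (10 : ℕ) = addV 2 8 from rfl, ← mul_cd D, D.cd_two, h8] at h
    exact absurd ((eq_inv_of_mul_eq_one_right h).trans (sq t htt)) n01
  · refine absurd (h32 ▸ h) fun e1 => D.base.t1 ?_
    exact conj_eq_one_iff.1 (ht1 ▸ conj_eq_one_iff.1 (ht2 ▸ e1))
  · rw [show (34 : ℕ) = addV 2 32 from rfl, ← mul_cd D, D.cd_two, h32] at h
    exact absurd ((eq_inv_of_mul_eq_one_right h).trans (sq t htt)) n02
  · rw [show (40 : ℕ) = addV 8 32 from rfl, ← mul_cd D, h8, h32] at h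
    exact absurd ((eq_inv_of_mul_eq_one_right h).trans (sq t1 h11)) n12
  · rw [show (42 : ℕ) = addV (addV 2 8) 32 from rfl, ← mul_cd D, ← mul_cd D, D.cd_two, h8, h32] at h
    refine absurd ((eq_inv_of_mul_eq_one_right h).trans ?_) n3
    rw [mul_inv_rev, sq t htt, sq t1 h11, D.base.comm _ hA1 _ D.base.tA]

theorem cd_inj {u v : ℕ} (hu : u < 64) (hv : v < 64) (h : cd x e u = cd x e v) : u = v := by
  refine sub_eq_zero u hu v hv ?_
  set w := addV u (smulV 3 v) with hw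
  have hw1 : cd x e w = 1 := by
    rw [hw, ← D.mul_cd, h, ← D.cd_pow, ← pow_succ', D.base.pow4 _ (D.cd_mem v)]
  have hlt : w < 64 := by rw [hw]; unfold addV mkV; omega
  have h2 : cd x e (smulV 2 w) = 1 := by rw [← D.cd_pow, hw1, one_pow]
  have key : ∀ w, w < 64 → smulV 2 w ∈ evens := by decide +kernel
  exact D.evens_ne w (mem_evens w hlt (D.evens_ne _ (key w hlt) h2)) hw1

theorem cd_surj {a : K} (ha : a ∈ A) : ∃ v, v < 64 ∧ cd x e v = a := by
  let F : Fin 64 → A := fun v => ⟨cd x e v, D.cd_mem v⟩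
  have hF : Function.Injective F := fun u v h =>
    Fin.ext (D.cd_inj u.2 v.2 (congrArg Subtype.val h))
  obtain ⟨v, hv⟩ := ((Nat.bijective_iff_injective_and_card F).2
    ⟨hF, by rw [Nat.card_eq_fintype_card, Fintype.card_fin, D.base.card]⟩).2 ⟨a, ha⟩
  exact ⟨v, v.2, congrArg Subtype.val hv⟩

/-- Every element acts on codes by a linear map. -/
theorem exists_act (k : K) : ∃ p q r : ℕ, p < 64 ∧ q < 64 ∧ r < 64 ∧
    ∀ v, k * cd x e v = cd x e (linV p q r v) * k := by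
  obtain ⟨p, hp, hpe⟩ := D.cd_surj (D.base.conj_mem D.eA k)
  obtain ⟨q, hq, hqe⟩ := D.cd_surj (D.base.conj_mem D.fA k)
  obtain ⟨r, hr, hre⟩ := D.cd_surj (D.base.conj_mem D.hA k)
  exact ⟨p, q, r, hp, hq, hr, fun v => D.abel.conj_vec k p q r
    (by rw [← cd, hpe, inv_mul_cancel_right]) (by rw [← cd, hqe, inv_mul_cancel_right])
    (by rw [← cd, hre, inv_mul_cancel_right]) v⟩

theorem x_act {r : ℕ} (hr : x * cd x e 16 = cd x e r * x) (v : ℕ) :
    x * cd x e v = cd x e (actL r v) * x := by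
  refine D.abel.conj_vec x 4 16 r ?_ ?_ (by have h' := hr; rw [D.cd_sixteen] at h'; exact h') v
  · rw [← cd, D.cd_four, inv_mul_cancel_right]
  · rw [← cd, D.cd_sixteen, inv_mul_cancel_right]

theorem xn_act {r : ℕ} (hr : x * cd x e 16 = cd x e r * x) (n v : ℕ) :
    x ^ n * cd x e v = cd x e ((actL r)^[n] v) * x ^ n := by
  induction n with
  | zero => simp
  | succ n ih => rw [pow_succ', mul_assoc, ih, ← mul_assoc, D.x_act hr, mul_assoc,
      Function.iterate_succ_apply']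

theorem iterate_lt (r n : ℕ) {v : ℕ} (hv : v < 64) : (actL r)^[n] v < 64 := by
  cases n with
  | zero => exact hv
  | succ n => rw [Function.iterate_succ_apply']; exact linV_lt _ _ _ _

theorem param : ∃ r, (r = 25 ∨ r = 45) ∧ x * cd x e 16 = cd x e r * x := by
  obtain ⟨r, hr, hre⟩ := D.cd_surj (D.base.conj_mem D.hA x)
  have hx : x * cd x e 16 = cd x e r * x := by rw [hre, D.cd_sixteen, inv_mul_cancel_right]
  refine ⟨r, x_cases r hr ?_ ?_, hx⟩
  · refine D.cd_inj (D.iterate_lt r 7 (by norm_num)) (by norm_num) ?_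
    have := D.xn_act hx 7 1
    rw [D.x7, one_mul, mul_one] at this
    exact this.symm
  · intro v hv he
    refine D.cd_inj hv (by norm_num) ?_
    rw [D.cd_zero]
    refine D.base.fixedFree D.x7 D.xA _ (D.cd_mem v) ?_
    rw [D.x_act hx, he]

end Frob

/-- One can choose the element of order seven with the standard minimal polynomial. -/
theorem Base.exists_standard (B : Base A t) : ∃ x y e : K, Frob A t x y e ∧
    x * cd x e 16 = cd x e 45 * x ∧ y * cd x e 16 = cd x e 62 * y := by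
  obtain ⟨x, y, e, D⟩ := B.exists_frob_elems
  have key : ∃ x : K, Frob A t x y e ∧ x * cd x e 16 = cd x e 45 * x := by
    obtain ⟨r, hr, hx⟩ := D.param
    rcases hr with rfl | rfl
    · have hy2 : ∀ n : ℕ, y * x ^ n = x ^ (2 * n) * y := by
        intro n
        induction n with
        | zero => simp
        | succ n ih => rw [pow_succ, ← mul_assoc, ih, mul_assoc, D.yx, ← mul_assoc, ← pow_add]; rfl
      have D' : Frob A t (x ^ 6) y e := by
        refine ⟨B, ?_, fun h => D.xA ?_, D.y3, ?_, D.ye, D.eA, D.e2⟩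
        · rw [← pow_mul, mul_comm, pow_mul, D.x7, one_pow]
        · have h1 : x = (x ^ 6) ^ 6 := by rw [← pow_mul, pow_eq_pow_mod _ D.x7, pow_one]
          rw [h1]
          exact pow_mem h _
        · rw [hy2, ← pow_mul]
      obtain ⟨r', hr', hx'⟩ := D'.param
      rcases hr' with rfl | rfl
      · exfalso
        refine x_inverse (D.cd_inj (D.iterate_lt 25 4 (by norm_num)) (linV_lt _ _ _ _) ?_)
        have hc : ∀ n, x ^ n * e * (x ^ n)⁻¹ = cd x e ((actL 25)^[n] 1) := fun n => by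
          have := D.xn_act hx n 1
          rw [D.cd_one] at this
          rw [this, mul_inv_cancel_right]
        have hmap : cd (x ^ 6) e 25 = cd x e (linV 1 ((actL 25)^[6] 1) ((actL 25)^[5] 1) 25) := by
          refine D.abel.map_vec (MonoidHom.id K) e _ _ 1 _ _ D.cd_one.symm (hc 6) ?_ 25
          show x ^ 6 * (x ^ 6 * e * (x ^ 6)⁻¹) * (x ^ 6)⁻¹ = cd x e _
          rw [← hc 5, show x ^ 6 * (x ^ 6 * e * (x ^ 6)⁻¹) * (x ^ 6)⁻¹ = x ^ 12 * e * (x ^ 12)⁻¹ by group,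
            pow_eq_pow_mod 12 D.x7]
        rw [← hmap, ← hc 4]
        have h3 : x ^ 6 * cd (x ^ 6) e 16 * (x ^ 6)⁻¹ = cd (x ^ 6) e 25 := by
          rw [hx', mul_inv_cancel_right]
        rw [← h3, D'.cd_sixteen,
          show x ^ 6 * (x ^ 6 * (x ^ 6 * e * (x ^ 6)⁻¹) * (x ^ 6)⁻¹) * (x ^ 6)⁻¹ = x ^ 18 * e * (x ^ 18)⁻¹ by
            group, pow_eq_pow_mod 18 D.x7]
      · exact ⟨_, D', hx'⟩
    · exact ⟨x, D, hx⟩
  obtain ⟨x, D, hx⟩ := key
  refine ⟨x, y, e, D, hx, ?_⟩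
  have hc : ∀ n, x ^ n * e * (x ^ n)⁻¹ = cd x e ((actL 45)^[n] 1) := fun n => by
    have := D.xn_act hx n 1
    rw [D.cd_one] at this
    rw [this, mul_inv_cancel_right]
  have hy2 : y * x ^ 2 = x ^ 4 * y := by
    rw [pow_two, ← mul_assoc, D.yx, mul_assoc, D.yx, ← mul_assoc, ← pow_add]
  rw [← y_value, ← hc 4, D.cd_sixteen, show x * (x * e * x⁻¹) * x⁻¹ = x ^ 2 * e * (x ^ 2)⁻¹ by rw [pow_two, mul_inv_rev]; simp only [mul_assoc]]
  calc y * (x ^ 2 * e * (x ^ 2)⁻¹) = (y * x ^ 2) * e * (x ^ 2)⁻¹ := by group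
    _ = x ^ 4 * (y * e) * (x ^ 2)⁻¹ := by rw [hy2]; group
    _ = x ^ 4 * e * (x ^ 4)⁻¹ * ((x ^ 4 * y) * (x ^ 2)⁻¹) := by rw [D.ye]; group
    _ = _ := by rw [← hy2, mul_inv_cancel_right]

end Cfsg.Agent.HSLocal.Coord.Shape
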