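import Cfsg.Agent.Lib.HSLocal.Coord.MTriple

/-!
A group `4^3 . L3(2)` with an involution outside the normal subgroup has the generators and relations
of the engine, and the normal forms are exactly its elements.
-/

set_option autoImplicit false
set_option linter.unusedSectionVars false

namespace Cfsg.Agent.HSLocal.Coord.Shape

universe u

variable {K : Type u} [Group K] [Finite K] {A : Subgroup K} {t : K}

theorem actSX_def (v : ℕ) : actSX v = actS (actX v) := rfl

theorem linV_one {p : ℕ} (q r : ℕ) (hp : p < 64) : linV p q r 1 = p := by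
  simp [linV, addV, smulV, mkV]; omega

theorem linV_four {q : ℕ} (p r : ℕ) (hq : q < 64) : linV p q r 4 = q := by
  simp [linV, addV, smulV, mkV]; omega

theorem linV_sixteen {r : ℕ} (p q : ℕ) (hr : r < 64) : linV p q r 16 = r := by
  simp [linV, addV, smulV, mkV]; omega

namespace Frob

variable {x y e : K} (D : Frob A t x y e)
include D

theorem y_act (hy : y * cd x e 16 = cd x e 62 * y) (v : ℕ) :
    y * cd x e v = cd x e (actY v) * y := by
  refine D.abel.conj_vec y 1 16 62 ?_ ?_ (by have h' := hy; rw [D.cd_sixteen] at h'; exact h') v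
  · rw [← cd, D.cd_one, D.ye]
  · rw [← cd, D.cd_sixteen]
    have h1 : y * x⁻¹ = (x ^ 2)⁻¹ * y := by
      rw [eq_inv_mul_iff_mul_eq, ← mul_assoc, ← D.yx, mul_inv_cancel_right]
    calc y * (x * e * x⁻¹) = (y * x) * e * x⁻¹ := by group
      _ = x ^ 2 * (y * e) * x⁻¹ := by rw [D.yx]; group
      _ = x ^ 2 * e * (y * x⁻¹) := by rw [D.ye]; group
      _ = _ := by rw [h1, pow_two, mul_inv_rev]; simp only [mul_assoc]

theorem exists_k0 (hy : y * cd x e 16 = cd x e 62 * y) :
    ∃ k : K, (∀ v ∈ evens, k * cd x e v = cd x e (actS v) * k) ∧ k * y = y ^ 2 * k := by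
  obtain ⟨k0, hk0⟩ := D.triple_surj (τ := (2, 32, 8)) (by decide +kernel)
  have hk : ∀ v ∈ evens, k0 * cd x e v = cd x e (actS v) * k0 := fun v hv => by
    rw [D.triple_act k0 hv, hk0, (actS_evens v hv).2.1]
  obtain ⟨a, ha⟩ : ∃ a, a = k0 * y * k0⁻¹ * (y ^ 2)⁻¹ := ⟨_, rfl⟩
  have haA : a ∈ A := by
    have hz : (y ^ 2 * k0)⁻¹ * (k0 * y) ∈ A := by
      refine D.mem_of_gens fun v hv => ?_
      have hev : v ∈ evens := by revert v; decide
      obtain ⟨hS, -, -, -, hY, hSY, -⟩ := actS_evens v hev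
      rw [mul_assoc, eq_comm, eq_inv_mul_iff_mul_eq, ← mul_assoc, eq_comm]
      calc k0 * y * cd x e v = cd x e (actS (actY v)) * (k0 * y) := by
            rw [mul_assoc, D.y_act hy, ← mul_assoc, hk _ hY, mul_assoc]
        _ = cd x e (actY (actY (actS v))) * (k0 * y) := by rw [hSY]
        _ = y ^ 2 * k0 * cd x e v * ((y ^ 2 * k0)⁻¹ * (k0 * y)) := by
            rw [mul_assoc (y ^ 2), hk v hev, pow_two]
            rw [show y * y * (cd x e (actS v) * k0) = y * (y * cd x e (actS v)) * k0 by group,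
              D.y_act hy, ← mul_assoc y, D.y_act hy]
            group
    have := D.base.conj_mem hz (y ^ 2 * k0)
    rw [show y ^ 2 * k0 * ((y ^ 2 * k0)⁻¹ * (k0 * y)) * (y ^ 2 * k0)⁻¹ = a by rw [ha]; group] at this
    exact this
  have hwa : k0 * y * k0⁻¹ = a * y ^ 2 := by rw [ha, inv_mul_cancel_right]
  obtain ⟨q, hq⟩ : ∃ q, q = y ^ 2 * a * (y ^ 2)⁻¹ := ⟨_, rfl⟩
  obtain ⟨r, hr⟩ : ∃ r, r = y ^ 2 * q * (y ^ 2)⁻¹ := ⟨_, rfl⟩
  have hqA : q ∈ A := hq ▸ D.base.conj_mem haA _
  have hrA : r ∈ A := hr ▸ D.base.conj_mem hqA _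
  have hw3 : (a * y ^ 2) ^ 3 = 1 := by rw [← hwa, conj_pow, D.y3]; group
  have hpqr : a * q * r = 1 := by
    have h6 : y ^ 2 * (y ^ 2 * y ^ 2) = 1 := by
      rw [← pow_add, ← pow_add, show 2 + (2 + 2) = 3 * 2 by norm_num, pow_mul, D.y3, one_pow]
    calc a * q * r = a * q * r * (y ^ 2 * (y ^ 2 * y ^ 2)) := by rw [h6, mul_one]
      _ = (a * y ^ 2) ^ 3 := by
        rw [hr, hq, pow_three]
        generalize y ^ 2 = z
        group
      _ = 1 := hw3
  have caq : Commute a q := D.base.comm _ haA _ hqA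
  set b := (a ^ 2 * q) ^ 3 with hb
  have hbA : b ∈ A := pow_mem (mul_mem (pow_mem haA 2) hqA) 3
  have hσb : y ^ 2 * b * (y ^ 2)⁻¹ = (q * a⁻¹) ^ 3 := by
    rw [hb, ← conj_pow]
    congr 1
    calc y ^ 2 * (a ^ 2 * q) * (y ^ 2)⁻¹ = (y ^ 2 * a * (y ^ 2)⁻¹) ^ 2 * (y ^ 2 * q * (y ^ 2)⁻¹) := by
          rw [conj_pow]; group
      _ = q * q * r := by rw [← hq, ← hr, pow_two]
      _ = q * a⁻¹ := by
          rw [mul_assoc]
          congr 1
          rw [eq_comm, inv_eq_iff_mul_eq_one, ← mul_assoc, hpqr]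
  have hab : a = b * (y ^ 2 * b * (y ^ 2)⁻¹)⁻¹ := by
    rw [hσb, hb, ← inv_pow, ← Commute.mul_pow, mul_inv_rev, inv_inv]
    · rw [show a ^ 2 * q * (a * q⁻¹) = a ^ 2 * (q * a) * q⁻¹ by group, ← caq.eq, ← mul_assoc,
        mul_inv_cancel_right, ← pow_succ, ← pow_mul]
      rw [show (2 + 1) * 3 = 4 * 2 + 1 by norm_num, pow_succ, pow_mul, D.base.pow4 a haA, one_pow, one_mul]
    · exact D.base.comm _ (mul_mem (pow_mem haA 2) hqA) _ (inv_mem (mul_mem hqA (inv_mem haA)))
  refine ⟨b⁻¹ * k0, fun v hv => ?_, ?_⟩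
  · rw [mul_assoc, hk v hv, ← mul_assoc, D.base.comm _ (inv_mem hbA) _ (D.cd_mem _), mul_assoc]
  · calc b⁻¹ * k0 * y = b⁻¹ * (k0 * y * k0⁻¹) * k0 := by group
      _ = b⁻¹ * (b * (y ^ 2 * b * (y ^ 2)⁻¹)⁻¹ * y ^ 2) * k0 := by rw [hwa, ← hab]
      _ = _ := by generalize y ^ 2 = z; group

theorem exists_s1 (hx : x * cd x e 16 = cd x e 45 * x) (hy : y * cd x e 16 = cd x e 62 * y) :
    ∃ s : K, (∀ v, s * cd x e v = cd x e (actS v) * s) ∧ s * y = y ^ 2 * s := by
  obtain ⟨k, hk, hky⟩ := D.exists_k0 hy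
  obtain ⟨p, q, r, hp, hq, hr, hact⟩ := D.exists_act k
  have hX : ∀ v, x * cd x e v = cd x e (actX v) * x := D.x_act hx
  have hpar : ∀ u : ℕ, smulV 2 u ∈ evens → u < 64 → ∀ w, k * cd x e u = cd x e w * k → w < 64 →
      smulV 2 w = actS (smulV 2 u) := by
    intro u hu _ w hw hw64
    refine D.cd_inj (by unfold smulV mkV; omega) (evens_lt _ (actS_evens _ hu).1).1 ?_
    have h1 := hk _ hu
    rw [← D.cd_pow u 2] at h1
    have h2 : k * cd x e u ^ 2 * k⁻¹ = (k * cd x e u * k⁻¹) ^ 2 := conj_pow.symm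
    rw [h1, hw, mul_inv_cancel_right, mul_inv_cancel_right, D.cd_pow] at h2
    exact h2.symm
  have he : k * cd x e 1 = cd x e p * k := by
    have := hact 1
    rwa [linV_one q r hp] at this
  have hf : k * cd x e 4 = cd x e q * k := by
    have := hact 4
    rwa [linV_four p r hq] at this
  have hh : k * cd x e 16 = cd x e r * k := by
    have := hact 16
    rwa [linV_sixteen p q hr] at this
  have h1 : smulV 2 p = 2 := hpar 1 (by decide) (by norm_num) p he hp
  have h2 : smulV 2 q = 32 := hpar 4 (by decide) (by norm_num) q hf hq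
  have h3 : smulV 2 r = 8 := hpar 16 (by decide) (by norm_num) r hh hr
  have hkk : k * k ∈ A := by
    refine D.mem_of_gens fun v hv => ?_
    have hev : v ∈ evens := by revert v; decide
    obtain ⟨hS, -, hSS, -⟩ := actS_evens v hev
    rw [mul_assoc, hk v hev, ← mul_assoc, hk _ hS, hSS, mul_assoc]
  have hkx : (k * x) ^ 3 ∈ A := by
    refine D.mem_of_gens fun v hv => ?_
    have hev : v ∈ evens := by revert v; decide
    have step : ∀ v ∈ evens, (k * x) * cd x e v = cd x e (actS (actX v)) * (k * x) ∧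
        actS (actX v) ∈ evens := fun v hv => by
      obtain ⟨-, -, -, hXe, -⟩ := actS_evens v hv
      refine ⟨?_, (actS_evens _ hXe).1⟩
      rw [mul_assoc, hX, ← mul_assoc, hk _ hXe, mul_assoc]
    obtain ⟨-, -, -, -, -, -, hSX⟩ := actS_evens v hev
    obtain ⟨e1, m1⟩ := step v hev
    obtain ⟨e2, m2⟩ := step _ m1
    obtain ⟨e3, -⟩ := step _ m2
    rw [pow_three, mul_assoc (k * x), mul_assoc (k * x), e1, ← mul_assoc (k * x) (cd x e _), e2,
      ← mul_assoc (k * x), ← mul_assoc (k * x) (cd x e _), e3, hSX]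
    simp only [mul_assoc]
  have comp : ∀ {g : K} {T : ℕ → ℕ}, g ∈ A → (∀ v, g * cd x e v = cd x e (T v) * g) →
      ∀ v, v < 64 → T v < 64 → T v = v := fun {g T} hg hT v hv hTv => D.cd_inj hTv hv (by
    have h := hT v
    rw [D.base.comm _ hg _ (D.cd_mem v)] at h
    exact (mul_right_cancel h).symm)
  have hc : sCond p q r := by
    intro v hv
    have hv64 : v < 64 := by revert v; decide
    refine ⟨comp (T := fun v => linV p q r (linV p q r v)) hkk
      (fun v => by rw [mul_assoc, hact, ← mul_assoc, hact, mul_assoc]) v hv64 (linV_lt _ _ _ _), ?_, ?_⟩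
    · refine D.cd_inj (linV_lt _ _ _ _) (linV_lt _ _ _ _) (mul_right_cancel (b := k * y) ?_)
      calc cd x e (linV p q r (actY v)) * (k * y) = k * y * cd x e v := by
            rw [mul_assoc k, D.y_act hy, ← mul_assoc k, hact, mul_assoc]
        _ = y * (y * cd x e (linV p q r v)) * k := by
            rw [hky, mul_assoc _ k, hact, pow_two]; simp only [mul_assoc]
        _ = cd x e (actY (actY (linV p q r v))) * (y ^ 2 * k) := by
            rw [D.y_act hy, ← mul_assoc y, D.y_act hy, pow_two]; simp only [mul_assoc]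
        _ = _ := by rw [hky]
    · refine comp (T := fun v => linV p q r (actX (linV p q r (actX (linV p q r (actX v)))))) hkx
        (fun v => ?_) v hv64 (linV_lt _ _ _ _)
      have step : ∀ v, (k * x) * cd x e v = cd x e (linV p q r (actX v)) * (k * x) := fun v => by
        rw [mul_assoc, hX, ← mul_assoc, hact, mul_assoc]
      rw [pow_three, mul_assoc (k * x), mul_assoc (k * x), step, ← mul_assoc (k * x) (cd x e _), step,
        ← mul_assoc (k * x), ← mul_assoc (k * x) (cd x e _), step]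
      simp only [mul_assoc]
  obtain ⟨rfl, rfl, rfl⟩ := s_unique p hp h1 q hq h2 r hr h3 hc
  exact ⟨k, hact, hky⟩

set_option maxHeartbeats 800000 in
/-- The element `s` can be taken an involution, given any involution outside the normal subgroup. -/
theorem s1_sq (hx : x * cd x e 16 = cd x e 45 * x) (hy : y * cd x e 16 = cd x e 62 * y) {s : K}
    (hs : ∀ v, s * cd x e v = cd x e (actS v) * s) (hsy : s * y = y ^ 2 * s) {r : K} (hr : r * r = 1)
    (hrA : r ∉ A) : s * s = 1 := by
  have hss : s * s ∈ A := by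
    refine D.mem_of_gens fun v hv => ?_
    have hev : v ∈ evens := by revert v; decide
    rw [mul_assoc, hs, ← mul_assoc, hs, (actS_evens v hev).2.2.1, mul_assoc]
  obtain ⟨w, hw, hwe⟩ := D.cd_surj hss
  have hw1 : actS w = w := D.cd_inj (linV_lt _ _ _ _) hw (mul_right_cancel (b := s) (by
    rw [← hs, hwe]; simp only [mul_assoc]))
  have hw2 : actY w = w := D.cd_inj (linV_lt _ _ _ _) hw (mul_right_cancel (b := y) (by
    rw [← D.y_act hy, hwe]
    have h4 : s * y ^ 2 = y * s := by
      rw [pow_two, ← mul_assoc, hsy, mul_assoc, hsy, ← mul_assoc, ← pow_add, pow_succ, D.y3, one_mul]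
    rw [mul_assoc s s y, hsy, ← mul_assoc s (y ^ 2) s, h4, mul_assoc]))
  have hτ : ∀ v ∈ evens, actO (triple x e r) v ∈ evens ∧ actO (triple x e r) (actO (triple x e r) v) = v := by
    intro v hv
    have h1 := D.triple_act r hv
    have h2 : actO (triple x e r) v ∈ evens := by
      refine mem_evens _ (linV_lt _ _ _ _) (D.cd_inj (by unfold smulV mkV; omega) (by norm_num) ?_)
      rw [← D.cd_pow, show cd x e (actO (triple x e r) v) = r * cd x e v * r⁻¹ by
        rw [h1, mul_inv_cancel_right], conj_pow, D.cd_pow, (evens_lt v hv).2, D.cd_zero]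
      simp
    refine ⟨h2, D.cd_inj (linV_lt _ _ _ _) (evens_lt v hv).1 ?_⟩
    have h3 := D.triple_act r h2
    have h5 : r * (r * cd x e v) = cd x e (actO (triple x e r) (actO (triple x e r) v)) * (r * r) := by
      rw [h1, ← mul_assoc, h3, mul_assoc]
    rw [← mul_assoc, hr, one_mul, mul_one] at h5
    exact h5.symm
  obtain ⟨g, hg, hgconj⟩ := invol_conj (triple x e r) (D.triple_mem r) (fun v hv => (hτ v hv).2) (by
    by_contra hno
    push Not at hno
    refine hrA (D.mem_of_gens fun v hv => ?_)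
    have hev : v ∈ evens := by revert v; decide
    rw [D.triple_act r hev, hno v hev])
  obtain ⟨k, hk⟩ := D.triple_surj hg
  have hm : (r * k)⁻¹ * (k * s) ∈ A := by
    refine D.mem_of_gens fun v hv => ?_
    have hev : v ∈ evens := by revert v; decide
    have hgv : actO g v ∈ evens := by
      refine mem_evens _ (linV_lt _ _ _ _) (D.cd_inj (by unfold smulV mkV; omega) (by norm_num) ?_)
      rw [← D.cd_pow, ← hk, show cd x e (actO (triple x e k) v) = k * cd x e v * k⁻¹ by
        rw [D.triple_act k hev, mul_inv_cancel_right], conj_pow, D.cd_pow, (evens_lt v hev).2, D.cd_zero]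
      simp
    have h1 : k * s * cd x e v = cd x e (actO g (actS v)) * (k * s) := by
      rw [mul_assoc, hs, ← mul_assoc, D.triple_act k (actS_evens v hev).1, hk, mul_assoc]
    have h2 : r * k * cd x e v = cd x e (actO g (actS v)) * (r * k) := by
      rw [← hgconj v hv, mul_assoc, D.triple_act k hev, hk, ← mul_assoc, D.triple_act r hgv, mul_assoc]
    have h3 : cd x e (actO g (actS v)) = r * k * cd x e v * (r * k)⁻¹ := by
      rw [h2, mul_inv_cancel_right]
    calc (r * k)⁻¹ * (k * s) * cd x e v = (r * k)⁻¹ * (k * s * cd x e v) := by group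
      _ = cd x e v * ((r * k)⁻¹ * (k * s)) := by rw [h1, h3]; group
  obtain ⟨a, ha⟩ : ∃ a, a = (r * k)⁻¹ * (k * s) := ⟨_, rfl⟩
  obtain ⟨v, hv, hve⟩ := D.cd_surj (inv_mem (ha ▸ hm : a ∈ A))
  have h6 : s * cd x e v * (s * cd x e v) = 1 := by
    rw [hve, ha]
    calc s * ((r * k)⁻¹ * (k * s))⁻¹ * (s * ((r * k)⁻¹ * (k * s))⁻¹) = k⁻¹ * (r * r) * k := by group
      _ = 1 := by rw [hr]; group
  have h7 : cd x e (addV (addV v (actS v)) w) = 1 := by
    rw [← h6, ← D.mul_cd, ← D.mul_cd, D.base.comm _ (D.cd_mem v) _ (D.cd_mem _), hs,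
      show cd x e (actS v) * s * (cd x e (actS v) * s) = cd x e (actS v) * (s * cd x e (actS v)) * s by group,
      hs]
    have hS2 : actS (actS v) = v := by
      refine D.cd_inj (linV_lt _ _ _ _) hv ?_
      have h8 : s * s * cd x e v = cd x e (actS (actS v)) * (s * s) := by
        rw [mul_assoc, hs, ← mul_assoc, hs, mul_assoc]
      rw [D.base.comm _ hss _ (D.cd_mem v)] at h8
      exact (mul_right_cancel h8).symm
    rw [hS2, hwe]
    group
  have h9 : addV (addV v (actS v)) w = 0 := D.cd_inj (by unfold addV mkV; omega) (by norm_num)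
    (by rw [h7, D.cd_zero])
  have := square_zero v hv w (square_fixed w hw hw1 hw2) h9
  rw [← hwe, this, D.cd_zero]

end Frob

/-- **Generators and relations of `4^3 . L3(2)`.** -/
theorem Base.exists_mr (B : Base A t) {r : K} (hr : r * r = 1) (hrA : r ∉ A) :
    ∃ c, c ≤ 1 ∧ ∃ P : MR K c, P.e ^ 2 = t ∧ (∀ v, P.vc v ∈ A) ∧ (∀ a ∈ A, ∃ v, v < 64 ∧ P.vc v = a) ∧
      Function.Bijective (fun n : Fin 10752 => P.el n) := by
  obtain ⟨x, y, e, D, hx, hy⟩ := B.exists_standard
  obtain ⟨s, hs, hsy⟩ := D.exists_s1 hx hy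
  have hss := D.s1_sq hx hy hs hsy hr hrA
  have hSX : ∀ v, (s * x) * cd x e v = cd x e (actSX v) * (s * x) := fun v => by
    rw [mul_assoc, D.x_act hx, ← mul_assoc, hs, mul_assoc]
    rfl
  have hcube : (s * x) ^ 3 ∈ A := by
    refine D.mem_of_gens fun v hv => ?_
    have hev : v ∈ evens := by revert v; decide
    rw [pow_three, mul_assoc (s * x), mul_assoc (s * x), hSX, ← mul_assoc (s * x) (cd x e _), hSX,
      ← mul_assoc (s * x), ← mul_assoc (s * x) (cd x e _), hSX]
    have := (actS_evens v hev).2.2.2.2.2.2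
    simp only [actSX_def, this]
    simp only [mul_assoc]
  obtain ⟨u, hu, hue⟩ := D.cd_surj hcube
  have hu1 : actSX u = u := D.cd_inj (linV_lt _ _ _ _) hu (mul_right_cancel (b := s * x) (by
    rw [← hSX, hue]; exact (Commute.self_pow _ _).eq))
  obtain ⟨c, hc, j, hj, hsum⟩ := cube_sum u hu hu1
  obtain ⟨hjS, hjY⟩ : addV j (actS j) = 0 ∧ actY j = j :=
    (by decide : ∀ j, j < 4 → addV j (actS j) = 0 ∧ actY j = j) j hj
  set s' := cd x e j * s with hs'
  have hS' : ∀ v, s' * cd x e v = cd x e (actS v) * s' := fun v => by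
    rw [hs', mul_assoc, hs, ← mul_assoc, D.base.comm _ (D.cd_mem _) _ (D.cd_mem _), mul_assoc]
  have hss' : s' * s' = 1 := by
    rw [hs', ← mul_assoc, mul_assoc _ s, hs, ← mul_assoc, D.mul_cd, hjS, D.cd_zero, one_mul, hss]
  have hsy' : s' * y = y ^ 2 * s' := by
    have hyj : y * cd x e j = cd x e j * y := by rw [D.y_act hy, hjY]
    rw [hs', mul_assoc, hsy, ← mul_assoc, ← mul_assoc, ((show Commute y (cd x e j) from hyj).pow_left 2).eq]
  have hcu : (s' * x) ^ 3 = cd x e (vF c) := by
    rw [← hsum, ← D.mul_cd, ← D.mul_cd, ← D.mul_cd, hue, hs', mul_assoc _ s x, pow_three]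
    have e1 : (s * x) * cd x e j = cd x e (actSX j) * (s * x) := hSX j
    have e2 : (s * x) * cd x e (actSX j) = cd x e (actSX (actSX j)) * (s * x) := hSX _
    calc cd x e j * (s * x) * (cd x e j * (s * x) * (cd x e j * (s * x)))
        = cd x e j * ((s * x) * cd x e j) * ((s * x) * cd x e j) * (s * x) := by group
      _ = cd x e j * cd x e (actSX j) * ((s * x) * cd x e (actSX j)) * (s * x) * (s * x) := by
          rw [e1]; group
      _ = _ := by rw [e2, pow_three]; group
  have hfc : cd x e (vF c) = (x * e * x⁻¹) ^ c := by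
    show vec _ _ _ _ = _
    rw [vF, vec_mkV D.abel.e4 D.abel.f4 D.abel.h4]
    simp
  have hx6 : x⁻¹ = x ^ 6 := inv_eq_of_mul_eq_one_right (by rw [← pow_succ', D.x7])
  let P : MR K c :=
    { x := x, y := y, s := s', e := e, x7 := D.x7, y3 := D.y3, ss := hss', yx := D.yx, sy := hsy'
      sxs := by
        rw [← hfc, ← hcu, ← hx6, pow_three,
          show s' * x * (s' * x * (s' * x)) * x⁻¹ * s' * x⁻¹ = s' * x * s' * (x * (s' * s')) * x⁻¹ by group,
          hss', mul_one, mul_inv_cancel_right]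
      abel := D.abel
      xh := by have h' := hx; rw [D.cd_sixteen] at h'; exact h'
      ye := D.ye
      yh := by have h' := hy; rw [D.cd_sixteen] at h'; exact h'
      se := by
        have := hS' 1
        rw [D.cd_one] at this
        rw [this]
        simp [actS, linV, smulV, addV, mkV, cd, vec]
      sf := by
        have := hS' 4
        rw [D.cd_four] at this
        rw [this, show actS 4 = 16 by decide, D.cd_sixteen] }
  have hvc : ∀ v, P.vc v = cd x e v := fun v => rfl
  refine ⟨c, by omega, P, D.e2, fun v => hvc v ▸ D.cd_mem v, fun a ha => D.cd_surj ha, ?_⟩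
  have hQ : ∀ q, q < 168 → ∀ v ∈ [2, 8, 32], actQ q v < 64 := by decide +kernel
  have hact : ∀ n v : ℕ, P.el n * cd x e v = cd x e (actQ (n / 64) v) * P.el n := by
    intro n v
    have i1 : cI (64 * (n / 64)) = cI n := by unfold cI; omega
    have i2 : cJ (64 * (n / 64)) = cJ n := by unfold cJ; omega
    have i3 : cM (64 * (n / 64)) = cM n := by unfold cM; omega
    rw [actQ, i1, i2, i3, MR.el, mul_assoc, ← hvc, P.tl_vc, ← mul_assoc, mul_assoc _ (P.y ^ cJ n),
      P.yn_vc, ← mul_assoc, mul_assoc _ (P.x ^ cI n), P.xn_vc, ← mul_assoc, P.mul_vc, ← hvc,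
      show P.vc (addV (cV n) (actXn (cI n) (actYn (cJ n) (actT (cM n) v)))) =
        P.vc (actXn (cI n) (actYn (cJ n) (actT (cM n) v))) * P.vc (cV n) by
          rw [← P.mul_vc]; exact D.base.comm _ (D.cd_mem _) _ (D.cd_mem _)]
    simp only [mul_assoc]
  have hinj : Function.Injective (fun n : Fin 10752 => P.el n) := by
    intro n m h
    change P.el n = P.el m at h
    have hq : ∀ v ∈ [2, 8, 32], actQ ((n : ℕ) / 64) v = actQ ((m : ℕ) / 64) v := fun v hv => by
      refine D.cd_inj (hQ _ (by omega) v hv) (hQ _ (by omega) v hv) (mul_right_cancel (b := P.el n) ?_)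
      rw [← hact, h, hact]
    have hq' := actQ_inj _ (by omega) _ (by omega) (hq 2 (by simp)) (hq 8 (by simp)) (hq 32 (by simp))
    have i1 : cI n = cI m := by unfold cI; omega
    have i2 : cJ n = cJ m := by unfold cJ; omega
    have i3 : cM n = cM m := by unfold cM; omega
    rw [MR.el, MR.el, i1, i2, i3] at h
    have i4 : cV n = cV m := D.cd_inj (by unfold cV; omega) (by unfold cV; omega)
      (mul_right_cancel (mul_right_cancel (mul_right_cancel h)))
    refine Fin.ext ?_
    unfold cV at i4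
    omega
  refine (Nat.bijective_iff_injective_and_card _).2 ⟨hinj, ?_⟩
  rw [Subgroup.card_eq_card_quotient_mul_card_subgroup A, D.base.index, D.base.card]
  simp

end Cfsg.Agent.HSLocal.Coord.Shape
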