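import Cfsg.Agent.Lib.HSLocal.Coord.MData

/-!
Every automorphism of the involutions of `4^3` is induced in the extension by `L3(2)`.
-/

set_option autoImplicit false
set_option linter.unusedSectionVars false

namespace Cfsg.Agent.HSLocal.Coord.Shape

universe u

variable {K : Type u} [Group K] [Finite K] {A : Subgroup K} {t : K}

/-- The code of an element of the normal subgroup. -/
noncomputable def codeOf (x e a : K) : ℕ :=
  open scoped _root_.Classical in if h : ∃ v, v < 64 ∧ cd x e v = a then h.choose else 0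

/-- The images of the three basic involutions. -/
noncomputable def triple (x e k : K) : ℕ × ℕ × ℕ :=
  (codeOf x e (k * cd x e 2 * k⁻¹), codeOf x e (k * cd x e 8 * k⁻¹), codeOf x e (k * cd x e 32 * k⁻¹))

namespace Frob

variable {x y e : K} (D : Frob A t x y e)
include D

theorem codeOf_spec {a : K} (ha : a ∈ A) : codeOf x e a < 64 ∧ cd x e (codeOf x e a) = a := by
  unfold codeOf
  rw [dif_pos (D.cd_surj ha)]
  exact (D.cd_surj ha).choose_spec

theorem image_even (k : K) {v : ℕ} (hv : v ∈ evens) : codeOf x e (k * cd x e v * k⁻¹) ∈ evens := by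
  obtain ⟨h1, h2⟩ := D.codeOf_spec (D.base.conj_mem (D.cd_mem v) k)
  refine mem_evens _ h1 (D.cd_inj ?_ (by norm_num) ?_)
  · unfold smulV mkV; omega
  · rw [← D.cd_pow, h2, conj_pow, D.cd_pow, (evens_lt v hv).2, D.cd_zero, mul_one, mul_inv_cancel]

theorem triple_act (k : K) {v : ℕ} (hv : v ∈ evens) :
    k * cd x e v = cd x e (actO (triple x e k) v) * k := by
  have h1 : vec (cd x e 2) (cd x e 8) (cd x e 32) (v / 2) = cd x e v := by
    have := D.abel.map_vec (MonoidHom.id K) (cd x e 2) (cd x e 8) (cd x e 32) 2 8 32 rfl rfl rfl (v / 2)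
    rw [(evens_half v hv).2] at this
    exact this
  have h2 := D.abel.map_vec (MulAut.conj k).toMonoidHom (cd x e 2) (cd x e 8) (cd x e 32) _ _ _
    (D.codeOf_spec (D.base.conj_mem (D.cd_mem 2) k)).2.symm
    (D.codeOf_spec (D.base.conj_mem (D.cd_mem 8) k)).2.symm
    (D.codeOf_spec (D.base.conj_mem (D.cd_mem 32) k)).2.symm (v / 2)
  rw [h1] at h2
  change k * cd x e v * k⁻¹ = cd x e (actO (triple x e k) v) at h2
  rw [← h2, inv_mul_cancel_right]

theorem mem_of_gens {k : K} (h : ∀ v ∈ [2, 8, 32], k * cd x e v = cd x e v * k) : k ∈ A := by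
  refine D.base.cent k fun a ha h2 => ?_
  obtain ⟨v, hv, rfl⟩ := D.cd_surj ha
  have hev : v ∈ evens := mem_evens v hv (D.cd_inj (by unfold smulV mkV; omega) (by norm_num)
    (by rw [← D.cd_pow, h2, D.cd_zero]))
  have h1 : vec (cd x e 2) (cd x e 8) (cd x e 32) (v / 2) = cd x e v := by
    have := D.abel.map_vec (MonoidHom.id K) (cd x e 2) (cd x e 8) (cd x e 32) 2 8 32 rfl rfl rfl (v / 2)
    rw [(evens_half v hev).2] at this
    exact this
  rw [← h1, vec]
  exact (((show Commute k (cd x e 2) from h 2 (by simp)).pow_right _).mul_right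
    ((show Commute k (cd x e 8) from h 8 (by simp)).pow_right _)).mul_right
      ((show Commute k (cd x e 32) from h 32 (by simp)).pow_right _) |>.eq

theorem triple_mem (k : K) : triple x e k ∈ isos := by
  refine List.mem_filter.2 ⟨cube_mem (D.image_even k (by decide)) (D.image_even k (by decide))
    (D.image_even k (by decide)), ?_⟩
  rw [List.all_eq_true]
  intro v hv
  by_cases h : actO (triple x e k) v = 0
  · have h1 := D.triple_act k hv
    rw [h, D.cd_zero, one_mul] at h1
    have := D.cd_inj (evens_lt v hv).1 (show 0 < 64 by norm_num)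
      (by rw [D.cd_zero]; exact (mul_eq_left.1 h1))
    simp [this]
  · simp [h]

theorem triple_inj {k l : K} (h : triple x e k = triple x e l) : k⁻¹ * l ∈ A := by
  refine D.mem_of_gens fun v hv => ?_
  have hev : v ∈ evens := by revert v; decide
  calc k⁻¹ * l * cd x e v = k⁻¹ * (l * cd x e v) := by rw [mul_assoc]
    _ = k⁻¹ * (cd x e (actO (triple x e l) v) * k) * (k⁻¹ * l) := by
        rw [D.triple_act l hev]; group
    _ = _ := by rw [← h, ← D.triple_act k hev]; group

theorem triple_surj {τ : ℕ × ℕ × ℕ} (hτ : τ ∈ isos) : ∃ k, triple x e k = τ := by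
  classical
  haveI := D.base.normal
  let F : K ⧸ A → {τ : ℕ × ℕ × ℕ // τ ∈ isos.toFinset} := fun q =>
    ⟨triple x e q.out, List.mem_toFinset.2 (D.triple_mem _)⟩
  have hF : Function.Injective F := fun q q' h => by
    have := QuotientGroup.eq.2 (D.triple_inj (congrArg Subtype.val h))
    rwa [QuotientGroup.out_eq', QuotientGroup.out_eq'] at this
  have hcard : Nat.card (K ⧸ A) = Nat.card {τ : ℕ × ℕ × ℕ // τ ∈ isos.toFinset} := by
    rw [D.base.index, Nat.card_eq_fintype_card, Fintype.card_coe, List.toFinset_card_of_nodup isos_nodup,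
      isos_length]
  obtain ⟨q, hq⟩ := ((Nat.bijective_iff_injective_and_card F).2 ⟨hF, hcard⟩).2 ⟨τ, List.mem_toFinset.2 hτ⟩
  exact ⟨q.out, congrArg Subtype.val hq⟩

end Frob

end Cfsg.Agent.HSLocal.Coord.Shape
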