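import Cfsg.Agent.Lib.HSLocal.Coord.Engine

/-!
Products, inverses and conjugates of codes, and the candidates for the core of the centraliser of `e ^ 2`.
-/

set_option autoImplicit false
set_option maxRecDepth 100000

namespace Cfsg.Agent.HSLocal.Coord

/-- Multiplication by a vector. -/
def mulV (n v : ℕ) : ℕ :=
  pack (addV (cV n) (actXn (cI n) (actYn (cJ n) (actT (cM n) v)))) (cI n) (cJ n) (cM n)

/-- The letters of the part of a code outside the vectors. -/
def letters (n : ℕ) : List ℕ :=
  List.replicate (cI n) 0 ++ List.replicate (cJ n) 1 ++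
    match cM n with
    | 0 => []
    | k + 1 => 2 :: List.replicate k 0

/-- The product of two codes. -/
def mulC (c n k : ℕ) : ℕ := (letters k).foldl (mulL c) (mulV n (cV k))

/-- The letters of the inverse of the part outside the vectors. -/
def invLetters (n : ℕ) : List ℕ :=
  (match cM n with
    | 0 => []
    | k + 1 => List.replicate (7 * k - k) 0 ++ [2]) ++
    List.replicate (3 - cJ n) 1 ++ List.replicate (7 - cI n) 0

/-- The inverse of a code. -/
def invC (c n : ℕ) : ℕ := mulV (eval c (invLetters n)) (smulV 3 (cV n))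

/-- A conjugate. -/
def cjC (c g n : ℕ) : ℕ := mulC c (mulC c g n) (invC c g)

/-- A commutator. -/
def commC (c p q : ℕ) : ℕ := mulC c (mulC c (mulC c p q) (invC c p)) (invC c q)

/-- The action of a tail-free code on vectors. -/
def actN (n v : ℕ) : ℕ := actXn (cI n) (actYn (cJ n) (actT (cM n) v))

/-- The code fixes the central involution. -/
def inB (n : ℕ) : Bool := Nat.beq (actN n 2) 2

/-- A code is `1` or the central involution. -/
def oneOrT (n : ℕ) : Bool := Nat.beq n 0 || Nat.beq n 2

/-- The code of `y`. -/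
def codeY : ℕ := 448

/-- The code of `s`. -/
def codeS : ℕ := 1344

/-- The core, in the vectors. -/
def inP (v : ℕ) : Bool := Nat.beq (v / 4 % 2) 0 && Nat.beq (v / 16 % 2) 0

/-- The vectors of the core. -/
def partP : List ℕ := (List.range 64).filter inP

namespace MR

variable {X : Type*} [Group X] {c : ℕ} (M : MR X c)

theorem el_mulV (n v : ℕ) : M.el (mulV n v) = M.el n * M.vc v := by
  rw [mulV, el_pack, ← mul_vc, el, mul_assoc _ (M.tl (cM n)) (M.vc v), tl_vc,
    mul_assoc _ (M.y ^ cJ n) (_ * _), ← mul_assoc (M.y ^ cJ n) (M.vc _), yn_vc,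
    mul_assoc (M.vc (cV n)) (M.x ^ cI n) (_ * _ * _), ← mul_assoc (M.x ^ cI n) (_ * _),
    ← mul_assoc (M.x ^ cI n) (M.vc _), xn_vc]
  simp only [mul_assoc]

theorem el_foldl (w : List ℕ) (n : ℕ) : M.el (w.foldl (mulL c) n) = M.el n * M.val w := by
  induction w generalizing n with
  | nil => simp [val]
  | cons a w ih => rw [List.foldl_cons, ih, el_mulL, val, val, List.map_cons, List.prod_cons, mul_assoc]

theorem val_replicate (k a : ℕ) : M.val (List.replicate k a) = M.gen a ^ k := by simp [val]

theorem val_letters (n : ℕ) : M.val (letters n) = M.x ^ cI n * M.y ^ cJ n * M.tl (cM n) := by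
  unfold letters
  rw [val_append, val_append, val_replicate, val_replicate]
  rcases cM n with _ | k
  · simp [val, tl, gen]
  · simp [val, tl, gen]

theorem el_eq_vc (n : ℕ) : M.el n = M.vc (cV n) * M.val (letters n) := by
  rw [val_letters, el]; simp only [mul_assoc]

theorem el_mulC (n k : ℕ) : M.el (mulC c n k) = M.el n * M.el k := by
  rw [mulC, el_foldl, el_mulV, el_eq_vc M k, mul_assoc]

theorem el_lt (v : ℕ) (hv : v < 64) : M.el v = M.vc v := by
  simp [el, cI, cJ, cM, cV, Nat.mod_eq_of_lt hv, Nat.div_eq_of_lt hv, tl,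
    Nat.div_eq_of_lt (show v < 448 by omega), Nat.div_eq_of_lt (show v < 1344 by omega)]

theorem el_invC (n : ℕ) : M.el (invC c n) = (M.el n)⁻¹ := by
  rw [invC, el_mulV, el_eval, eq_comm, el_eq_vc M n, mul_inv_rev]
  congr 1
  · rw [val_letters]
    refine inv_eq_of_mul_eq_one_right ?_
    unfold invLetters
    have hm : M.tl (cM n) * M.val (match cM n with
        | 0 => []
        | k + 1 => List.replicate (7 * k - k) 0 ++ [2]) = 1 := by
      rcases cM n with _ | k
      · simp [tl, val]
      · simp only [val_append, val_replicate, tl]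
        rw [show M.val [2] = M.s by simp [val, gen], show M.gen 0 = M.x from rfl, mul_assoc M.s,
          ← mul_assoc (M.x ^ k), ← pow_add, show k + (7 * k - k) = 7 * k by omega, pow_mul, M.x7, one_pow,
          one_mul, M.ss]
    rw [val_append, val_append, val_replicate, val_replicate]
    simp only [mul_assoc]
    rw [← mul_assoc (M.tl _), hm, one_mul, show M.gen 1 = M.y from rfl, show M.gen 0 = M.x from rfl,
      ← mul_assoc (M.y ^ cJ n), ← pow_add,
      show cJ n + (3 - cJ n) = 3 by have : cJ n < 3 := Nat.mod_lt _ (by norm_num); omega,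
      M.y3, one_mul, ← pow_add,
      show cI n + (7 - cI n) = 7 by have : cI n < 7 := Nat.mod_lt _ (by norm_num); omega, M.x7]
  · refine inv_eq_of_mul_eq_one_right ?_
    rw [vc, vc, ← M.abel'.vec_pow, ← pow_succ', M.abel'.vec_pow]
    simp [smulV, mkV, Nat.mul_mod_right, vec_zero]

theorem el_cjC (g n : ℕ) : M.el (cjC c g n) = M.el g * M.el n * (M.el g)⁻¹ := by
  rw [cjC, el_mulC, el_mulC, el_invC]

theorem el_commC (p q : ℕ) : M.el (commC c p q) = M.el p * M.el q * (M.el p)⁻¹ * (M.el q)⁻¹ := by
  rw [commC, el_mulC, el_mulC, el_mulC, el_invC, el_invC]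

theorem el_actN (n v : ℕ) : M.el n * M.vc v = M.vc (cV n) * M.vc (actN n v) * (M.vc (cV n))⁻¹ * M.el n := by
  rw [el, actN, mul_assoc _ (M.tl (cM n)) (M.vc v), tl_vc, mul_assoc _ (M.y ^ cJ n) (_ * _),
    ← mul_assoc (M.y ^ cJ n) (M.vc _), yn_vc, mul_assoc (M.vc (cV n)) (M.x ^ cI n) (_ * _ * _),
    ← mul_assoc (M.x ^ cI n) (_ * _), ← mul_assoc (M.x ^ cI n) (M.vc _), xn_vc]
  group

theorem el_codeY : M.el codeY = M.y := by simp [el, codeY, cV, cI, cJ, cM, vc, vec_zero, tl]

theorem el_codeS : M.el codeS = M.s := by simp [el, codeS, cV, cI, cJ, cM, vc, vec_zero, tl]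

theorem el_two : M.el 2 = M.e ^ 2 := by simp [el, cV, cI, cJ, cM, vc, vec, tl]

theorem el_one : M.el 1 = M.e := by simp [el, cV, cI, cJ, cM, vc, vec, tl]

/-- Transport along a homomorphism. -/
def map {Y : Type*} [Group Y] (φ : X →* Y) : MR Y c where
  x := φ M.x
  y := φ M.y
  s := φ M.s
  e := φ M.e
  x7 := by rw [← map_pow, M.x7, map_one]
  y3 := by rw [← map_pow, M.y3, map_one]
  ss := by rw [← map_mul, M.ss, map_one]
  yx := by rw [← map_mul, M.yx, map_mul, map_pow]
  sy := by rw [← map_mul, M.sy, map_mul, map_pow]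
  sxs := by
    have h := congrArg φ M.sxs
    simpa only [map_mul, map_pow, map_inv] using h
  abel :=
    ⟨by rw [← map_pow, M.abel.e4, map_one],
      by have h := congrArg φ M.abel.f4; simpa only [map_mul, map_pow, map_inv, map_one] using h,
      by have h := congrArg φ M.abel.h4; simpa only [map_mul, map_pow, map_inv, map_one] using h,
      by have h := M.abel.ef.map φ; simpa only [map_mul, map_inv] using h,
      by have h := M.abel.eh.map φ; simpa only [map_mul, map_inv] using h,
      by have h := M.abel.fh.map φ; simpa only [map_mul, map_inv] using h⟩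
  xh := by
    have h := congrArg φ M.xh
    simpa only [vec, map_mul, map_pow, map_inv] using h
  ye := by rw [← map_mul, M.ye, map_mul]
  yh := by
    have h := congrArg φ M.yh
    simpa only [vec, map_mul, map_pow, map_inv] using h
  se := by rw [← map_mul, M.se, map_mul, map_pow]
  sf := by
    have h := congrArg φ M.sf
    simpa only [map_mul, map_inv] using h

theorem el_map {Y : Type*} [Group Y] (φ : X →* Y) (n : ℕ) : (M.map φ).el n = φ (M.el n) := by
  have ht : (M.map φ).tl (cM n) = φ (M.tl (cM n)) := by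
    rcases cM n with _ | k <;> simp [tl, map]
  rw [el, el, ht]
  simp [vc, vec, f, h, map]

end MR

end Cfsg.Agent.HSLocal.Coord
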