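import Cfsg.Agent.Lib.HSLocal.Coord.BTab

/-!
The candidates for the core of the centraliser of `e ^ 2`, decided on codes.
-/

set_option autoImplicit false
set_option maxRecDepth 100000
set_option maxHeartbeats 4000000

namespace Cfsg.Agent.HSLocal.Coord

/-- The third generator of a candidate core. -/
def genR (a : ℕ) : ℕ := if a = 0 then 6912 else 6916

/-- The fourth generator of a candidate core. -/
def genQ (a : ℕ) : ℕ := cjB 0 codeY (genR a)

/-- The candidate core. -/
def coreList (a : ℕ) : List ℕ :=
  [0, genR a, genQ a, mulB 0 (genR a) (genQ a)].flatMap fun k => partP.map fun v => mulB 0 v k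

/-- The conditions on an element of the core outside the vectors. -/
def coreOk (c n : ℕ) : Bool :=
  oneOrT (mulB c n n) && oneOrT (commB c n 8) && oneOrT (commB c n 32) &&
    oneOrT (commB c n (cjB c codeY n)) && oneOrT (commB c n (cjB c codeS n)) &&
    oneOrT (commB c (cjB c codeY n) (cjB c codeS n)) &&
    oneOrT (mulB c (mulB c n (cjB c codeS n)) (mulB c n (cjB c codeS n))) &&
    oneOrT (mulB c (mulB c n (cjB c codeY n)) (mulB c n (cjB c codeY n)))

/-- Boolean membership. -/
def memB (n : ℕ) (l : List ℕ) : Bool := l.any fun m => Nat.beq n m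

theorem memB_iff {n : ℕ} {l : List ℕ} : memB n l = true ↔ n ∈ l := by
  simp [memB, List.any_eq_true]

/-- An element of the core outside the vectors is one of the candidates. -/
def scanB (c j : ℕ) : Bool :=
  (List.range 64).all fun v =>
    let n := 64 * BData.qb.getD j 999 + v
    Nat.blt n 64 || !coreOk c n || (Nat.beq c 0 && (memB n (coreList 0) || memB n (coreList 4)))

theorem scan0 : ((List.range 24).all fun j => scanB 0 j) = true := by decide +kernel

theorem scan1 : ((List.range 24).all fun j => scanB 1 j) = true := by decide +kernel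

/-- The vectors of the core. -/
def vecPartB (a : ℕ) : Bool :=
  (coreList a).all fun n => Nat.blt n 64 || (List.range 64).all fun v =>
    inP v || !(oneOrT (commB 0 n v) && oneOrT (commB 0 n (actY v)))

theorem vecPart0 : vecPartB 0 = true := by decide +kernel

theorem vecPart4 : vecPartB 4 = true := by decide +kernel

/-- A product that lies in the vectors outside the core. -/
def badVec (q : ℕ) : Bool := Nat.blt q 64 && !inP q

/-- Two candidates do not mix. -/
def mixB : Bool :=
  (coreList 0).all fun n => Nat.blt n 64 || (coreList 4).all fun m => Nat.blt m 64 ||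
    badVec (mulB 0 m n) || badVec (mulB 0 n m) || badVec (mulB 0 m (cjB 0 codeY n)) ||
    badVec (mulB 0 (cjB 0 codeY n) m) || badVec (mulB 0 (mulB 0 m (cjB 0 codeY n)) n) ||
    badVec (mulB 0 (mulB 0 m n) (cjB 0 codeY n))

theorem mix_ok : mixB = true := by decide +kernel

theorem coreList_ok : ∀ a ∈ [0, 4], (coreList a).length = 64 ∧ (coreList a).Nodup ∧
    ((List.range 64).all fun v => memB v (coreList a) == inP v) = true ∧
    (coreList a).all isB = true := by
  decide +kernel

theorem core_cases {c n : ℕ} (hc : c ≤ 1) (hn : isB n = true) (h64 : 64 ≤ n) (h : coreOk c n = true) :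
    c = 0 ∧ (n ∈ coreList 0 ∨ n ∈ coreList 4) := by
  have hs : ((List.range 24).all fun j => scanB c j) = true := by
    interval_cases c
    · exact scan0
    · exact scan1
  obtain ⟨h1, h2⟩ := isB_iff.1 hn
  have := List.all_eq_true.1 (List.all_eq_true.1 hs _ (List.mem_range.2 h2)) (n % 64)
    (List.mem_range.2 (Nat.mod_lt _ (by norm_num)))
  simp only [qb_get hn, show 64 * (n / 64) + n % 64 = n from Nat.div_add_mod n 64] at this
  have hb : Nat.blt n 64 = false := Bool.eq_false_iff.2 fun e => by simp [Nat.blt] at e; omega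
  simpa [h, memB_iff, hb] using this

theorem vec_cases {a n v : ℕ} (ha : a = 0 ∨ a = 4) (hn : n ∈ coreList a) (h64 : 64 ≤ n) (hv : v < 64)
    (h1 : oneOrT (commB 0 n v) = true) (h2 : oneOrT (commB 0 n (actY v)) = true) : inP v = true := by
  have hs : vecPartB a = true := by
    rcases ha with rfl | rfl
    · exact vecPart0
    · exact vecPart4
  rw [vecPartB, List.all_eq_true] at hs
  have := hs n hn
  rw [Bool.or_eq_true, List.all_eq_true] at this
  rcases this with h | h
  · simp [Nat.blt] at h; omega
  · simpa [h1, h2] using h v (List.mem_range.2 hv)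

theorem mix_cases {n m : ℕ} (hn : n ∈ coreList 0) (hm : m ∈ coreList 4) (hn6 : 64 ≤ n) (hm6 : 64 ≤ m) :
    ∃ q ∈ [mulB 0 m n, mulB 0 n m, mulB 0 m (cjB 0 codeY n), mulB 0 (cjB 0 codeY n) m,
      mulB 0 (mulB 0 m (cjB 0 codeY n)) n, mulB 0 (mulB 0 m n) (cjB 0 codeY n)],
      q < 64 ∧ inP q = false := by
  have hs := mix_ok
  rw [mixB, List.all_eq_true] at hs
  have := hs n hn
  rw [Bool.or_eq_true, List.all_eq_true] at this
  rcases this with h | h
  · simp [Nat.blt] at h; omega
  · have h' := h m hm
    have hb : Nat.blt m 64 = false := Bool.eq_false_iff.2 fun e => by simp [Nat.blt] at e; omega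
    simp only [hb, Bool.false_or, Bool.or_eq_true] at h'
    have hbad : ∀ q, badVec q = true → q < 64 ∧ inP q = false := fun q hq => by
      simp only [badVec, Bool.and_eq_true, Bool.not_eq_true', Nat.blt, Nat.ble_eq] at hq
      exact ⟨hq.1, hq.2⟩
    rcases h' with ((((h' | h') | h') | h') | h') | h' <;> exact ⟨_, by simp, hbad _ h'⟩

end Cfsg.Agent.HSLocal.Coord
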