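import Cfsg.Agent.Lib.HSLocal.Coord.RDec
import Cfsg.Agent.Lib.HSLocal.Coord.MShape
import Cfsg.Agent.Lib.HSLocal.Coord.GFrame

/-!
The core `R` of `C(t)` inside the coordinates of `N(V)`: the extension is split and `R` is one of two
explicit sets of codes.
-/

set_option autoImplicit false
set_option maxRecDepth 100000
set_option linter.unusedSectionVars false

namespace Cfsg.Agent.HSLocal.Coord

open Subgroup

/-- Coordinates of `N(V)` in which the core is a given list of codes. -/
structure RCoord {G : Type*} [Group G] (t : G) (R V : Subgroup G) (a : ℕ) where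
  P : MR G 0
  two : P.el 2 = t
  inj : ∀ n < 10752, ∀ m < 10752, P.el n = P.el m → n = m
  memN : ∀ g : G, g ∈ normalizer (V : Set G) ↔ ∃ n < 10752, P.el n = g
  memB : ∀ n < 10752, (P.el n * t = t * P.el n ↔ isB n = true)
  memR : ∀ g : G, g ∈ R ↔ ∃ n ∈ coreList a, P.el n = g

theorem actY_lt (v : ℕ) : actY v < 64 := by unfold actY linV addV mkV; omega

theorem isB_vec : ((List.range 64).all isB) = true := by decide +kernel

theorem isB_of_lt {v : ℕ} (hv : v < 64) : isB v = true :=
  List.all_eq_true.1 isB_vec v (List.mem_range.2 hv)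

theorem isB_codeY : isB codeY = true := by decide +kernel

theorem isB_codeS : isB codeS = true := by decide +kernel

namespace RShapeAux

variable {G : Type*} [Group G] [Finite G] {t : G} {R V : Subgroup G} (F : GFrame t R V) {c : ℕ} (hc : c ≤ 1)
  (P : MR G c) (two : P.el 2 = t) (inj : ∀ n < 10752, ∀ m < 10752, P.el n = P.el m → n = m)

include F two

theorem oneOrT_iff (inj : ∀ n < 10752, ∀ m < 10752, P.el n = P.el m → n = m) {q : ℕ} (hq : q < 10752)
    (h : P.el q = 1 ∨ P.el q = t) : oneOrT q = true := by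
  rcases h with e | e
  · simp [oneOrT, inj q hq 0 (by norm_num) (e.trans P.el_zero.symm)]
  · simp [oneOrT, inj q hq 2 (by norm_num) (e.trans two.symm)]

include hc inj

/-- A code of an element of `R` outside the vectors satisfies the conditions. -/
theorem coreOk_of_mem {n : ℕ} (hn : isB n = true) (hR : P.el n ∈ R) (h8 : P.el 8 ∈ R) (h32 : P.el 32 ∈ R)
    (hy : P.el codeY * t = t * P.el codeY) (hs : P.el codeS * t = t * P.el codeS) :
    coreOk c n = true := by
  have hB : ∀ v, v < 64 → isB v = true := fun v hv => isB_of_lt hv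
  have hcy := cjB_isB hc isB_codeY hn
  have hcs := cjB_isB hc isB_codeS hn
  have hyR : P.el (cjB c codeY n) ∈ R := by rw [P.el_cjB hc isB_codeY hn]; exact F.Rnorm _ hy _ hR
  have hsR : P.el (cjB c codeS n) ∈ R := by rw [P.el_cjB hc isB_codeS hn]; exact F.Rnorm _ hs _ hR
  have lt : ∀ {q}, isB q = true → q < 10752 := fun h => (isB_iff.1 h).1
  have hsq : ∀ {p q}, isB p = true → isB q = true → P.el p ∈ R → P.el q ∈ R → P.el p = P.el q →
      oneOrT (mulB c p q) = true := fun hp hq hpR hqR he => by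
    refine oneOrT_iff F P two inj (lt (mulB_isB hc hp hq)) ?_
    rw [P.el_mulB hc hp hq, ← he, ← pow_two]
    exact F.sq _ hpR
  have hcm : ∀ {p q}, isB p = true → isB q = true → P.el p ∈ R → P.el q ∈ R →
      oneOrT (commB c p q) = true := fun hp hq hpR hqR => by
    refine oneOrT_iff F P two inj (lt (commB_isB hc hp hq)) ?_
    rw [P.el_commB hc hp hq]
    exact F.comm _ hpR _ hqR
  have m1 := mulB_isB hc hn hcs
  have m2 := mulB_isB hc hn hcy
  simp only [coreOk, Bool.and_eq_true]
  exact ⟨⟨⟨⟨⟨⟨⟨hsq hn hn hR hR rfl, hcm hn (hB 8 (by norm_num)) hR h8⟩,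
    hcm hn (hB 32 (by norm_num)) hR h32⟩, hcm hn hcy hR hyR⟩, hcm hn hcs hR hsR⟩, hcm hcy hcs hyR hsR⟩,
    hsq m1 m1 (by rw [P.el_mulB hc hn hcs]; exact mul_mem hR hsR)
      (by rw [P.el_mulB hc hn hcs]; exact mul_mem hR hsR) rfl⟩,
    hsq m2 m2 (by rw [P.el_mulB hc hn hcy]; exact mul_mem hR hyR)
      (by rw [P.el_mulB hc hn hcy]; exact mul_mem hR hyR) rfl⟩

end RShapeAux

set_option maxHeartbeats 400000 in
/-- **The core in coordinates**, from the hypotheses of the characterisation. -/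
theorem exists_rcoord {G : Type*} [Group G] [Finite G]
    (t : G) (ht : orderOf t = 2) (H : Subgroup G) (hH : H = Subgroup.centralizer ({t} : Set G))
    (R : Subgroup G) (hR : R = (Cfsg.pCore 2 H).map H.subtype)
    (Cy E : Subgroup G) (hCy : IsCyclic Cy) (hCycard : Nat.card Cy = 4)
    (hCyle : Cy ≤ R ⊓ Subgroup.centralizer (R : Set G))
    (hEle : E ≤ R) (hEex : Cfsg.IsExtraspecial 2 E) (hEcard : Nat.card E = 32)
    (hprod : Cy ⊔ E = R) (hmeet : Cy ⊓ E = E ⊓ Subgroup.centralizer (E : Set G))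
    (eH : H ⧸ Cfsg.pCore 2 H ≃* Equiv.Perm (Fin 5))
    (V : Subgroup G) (hVcomm : IsMulCommutative V) (hVexp : ∀ v ∈ V, v ^ 2 = 1) (hVcard : Nat.card V = 8)
    (hVR : V ≤ R) (M : Subgroup G) (hM : M = Subgroup.normalizer (V : Set G))
    (eOM : Cfsg.pCore 2 M ≃* Multiplicative (ZMod 4 × ZMod 4 × ZMod 4))
    (eM : M ⧸ Cfsg.pCore 2 M ≃* GL (Fin 3) (ZMod 2)) :
    GFrame t R V ∧ ∃ a, (a = 0 ∨ a = 4) ∧ Nonempty (RCoord t R V a) := by
  classical
  obtain ⟨F, htM, htA, hnc, r, hrR, hr2, hrA⟩ := gframe t ht H hH R hR Cy E hCy hCycard hCyle hEle hEex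
    hEcard hprod hmeet eH V hVcomm hVexp hVcard hVR M hM eOM eM
  refine ⟨F, ?_⟩
  have t2M : (⟨t, htM⟩ : M) ^ 2 = 1 := Subtype.ext (by
    show t ^ 2 = 1
    rw [← ht, pow_orderOf_eq_one])
  have B := Shape.Base.mk' (Cfsg.pCore 2 M) eOM eM htA t2M hnc
  obtain ⟨c, hc, Q, hQe, hQA, hQsurj, hQb⟩ := B.exists_mr hr2 hrA
  set P := Q.map M.subtype with hP
  have hel : ∀ n, P.el n = (Q.el n : G) := fun n => Q.el_map M.subtype n
  have two : P.el 2 = t := by rw [hel, Q.el_two, hQe]
  have inj : ∀ n < 10752, ∀ m < 10752, P.el n = P.el m → n = m := fun n hn m hm e => by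
    rw [hel, hel] at e
    have := hQb.1 (a₁ := ⟨n, hn⟩) (a₂ := ⟨m, hm⟩) (Subtype.ext e)
    exact congrArg Fin.val this
  have memN : ∀ g : G, g ∈ normalizer (V : Set G) ↔ ∃ n < 10752, P.el n = g := fun g => by
    subst hM
    refine ⟨fun hg => ?_, ?_⟩
    · obtain ⟨n, hn⟩ := hQb.2 ⟨g, hg⟩
      exact ⟨n, n.2, by rw [hel]; exact congrArg Subtype.val hn⟩
    · rintro ⟨n, -, rfl⟩
      rw [hel]
      exact (Q.el n).2
  have hcommA : ∀ u v, P.vc u * P.vc v = P.vc v * P.vc u := fun u v => by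
    rw [P.mul_vc, P.mul_vc]
    congr 1
    unfold addV
    simp only [Nat.add_comm]
  have memB : ∀ n < 10752, (P.el n * t = t * P.el n ↔ isB n = true) := by
    intro n hn
    have h1 : P.el n * P.vc 2 = P.vc (actN n 2) * P.el n := by
      rw [P.el_actN, hcommA (cV n), mul_inv_cancel_right]
    have hlt : actN n 2 < 64 := by
      have hl : ∀ k v, v < 64 → actXn k v < 64 := fun k v hv => by
        induction k with
        | zero => exact hv
        | succ k _ => show actX _ < 64; unfold actX linV addV mkV; omega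
      have hl2 : ∀ k v, v < 64 → actYn k v < 64 := fun k v hv => by
        induction k with
        | zero => exact hv
        | succ k _ => exact actY_lt _
      have hl3 : actT (cM n) 2 < 64 := by
        rcases cM n with _ | k
        · show 2 < 64; norm_num
        · show actS _ < 64; unfold actS linV addV mkV; omega
      exact hl _ _ (hl2 _ _ hl3)
    rw [← two, P.el_lt 2 (by norm_num), h1, isB_inB hn]
    have e1 : inB (64 * (n / 64)) = inB n := by
      unfold inB actN
      rw [show cI (64 * (n / 64)) = cI n by unfold cI; omega,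
        show cJ (64 * (n / 64)) = cJ n by unfold cJ; omega,
        show cM (64 * (n / 64)) = cM n by unfold cM; omega]
    rw [e1, inB, Nat.beq_eq]
    constructor
    · intro h
      have h2 := mul_right_cancel h
      rw [← P.el_lt _ hlt, ← P.el_lt 2 (by norm_num)] at h2
      exact inj _ (by omega) _ (by norm_num) h2
    · intro h; rw [h]
  have hy : P.el codeY * t = t * P.el codeY := (memB _ (by decide)).2 isB_codeY
  have hs : P.el codeS * t = t * P.el codeS := (memB _ (by decide)).2 isB_codeS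
  have hRB : ∀ g ∈ R, ∃ n, isB n = true ∧ n < 10752 ∧ P.el n = g := fun g hg => by
    obtain ⟨n, hn, rfl⟩ := (memN g).1 (F.Vnorm hg)
    exact ⟨n, (memB n hn).1 (F.Rle _ hg), hn, rfl⟩
  -- the involutions of `A` lie in `V`
  have heven : ∀ v, v < 64 → P.el v * P.el v = 1 → P.el v ∈ V := by
    have hVM : V ≤ M := hM ▸ le_normalizer
    have hVA : V.subgroupOf M ≤ Cfsg.pCore 2 M := by
      refine CharP.le_pCore ((normal_subgroupOf_iff_le_normalizer hVM).2 hM.le) ?_
      intro v
      exact ⟨1, Subtype.ext (Subtype.ext (hVexp _ (mem_subgroupOf.1 v.2)))⟩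
    let ι : V → {a : Cfsg.pCore 2 M // (a : M) ^ 2 = 1} := fun v =>
      ⟨⟨⟨v, hVM v.2⟩, hVA (mem_subgroupOf.2 v.2)⟩, Subtype.ext (hVexp v v.2)⟩
    have hb : Function.Bijective ι := (Nat.bijective_iff_injective_and_card ι).2
      ⟨fun a b e => Subtype.ext (congrArg (fun z : {a : Cfsg.pCore 2 M // (a : M) ^ 2 = 1} =>
        ((z.1 : M) : G)) e), by rw [B.two_card, hVcard]⟩
    intro v hv h2
    have hA : Q.el v ∈ Cfsg.pCore 2 M := by rw [Q.el_lt v hv]; exact hQA v
    obtain ⟨w, hw⟩ := hb.2 ⟨⟨Q.el v, hA⟩, Subtype.ext (by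
      show ((Q.el v : G)) ^ 2 = 1
      rw [← hel, pow_two, h2])⟩
    have : (w : G) = P.el v := by
      rw [hel]; exact congrArg (fun z : {a : Cfsg.pCore 2 M // (a : M) ^ 2 = 1} => ((z.1 : M) : G)) hw
    exact this ▸ w.2
  have h8 : P.el 8 ∈ R := hVR (heven 8 (by norm_num) (by
    rw [P.el_lt 8 (by norm_num), P.mul_vc, show addV 8 8 = 0 from rfl]; exact vec_zero _ _ _))
  have h32 : P.el 32 ∈ R := hVR (heven 32 (by norm_num) (by
    rw [P.el_lt 32 (by norm_num), P.mul_vc, show addV 32 32 = 0 from rfl]; exact vec_zero _ _ _))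
  -- an element outside the vectors
  obtain ⟨n, hnB, hn, hne⟩ := hRB r hrR
  have h64 : 64 ≤ n := by
    by_contra hlt
    refine hrA ?_
    have : r = Q.el n := Subtype.ext (by rw [← hel, hne])
    rw [this, Q.el_lt n (by omega)]
    exact hQA n
  have hnR : P.el n ∈ R := hne ▸ hrR
  obtain ⟨rfl, hcl⟩ := core_cases hc hnB h64 (RShapeAux.coreOk_of_mem F hc P two inj hnB hnR h8 h32 hy hs)
  obtain ⟨a, ha, hna⟩ : ∃ a, (a = 0 ∨ a = 4) ∧ n ∈ coreList a := by
    rcases hcl with h | h
    · exact ⟨0, Or.inl rfl, h⟩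
    · exact ⟨4, Or.inr rfl, h⟩
  obtain ⟨hlen, hnd, hvec, hall⟩ := coreList_ok a (by rcases ha with rfl | rfl <;> simp)
  have hvec' : ∀ v < 64, (v ∈ coreList a ↔ inP v = true) := fun v hv => by
    have := List.all_eq_true.1 hvec v (List.mem_range.2 hv)
    rw [beq_iff_eq] at this
    rw [← memB_iff, this]
  have hP0 : ∀ v < 64, P.el v ∈ R → inP v = true := fun v hv hvR => by
    have hYv : P.el (actY v) ∈ R := by
      have h := F.Rnorm _ hy _ hvR
      rw [P.el_codeY, P.el_lt v hv, P.y_vc, mul_inv_cancel_right, ← P.el_lt _ (actY_lt v)] at h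
      exact h
    have b1 : isB v = true := isB_of_lt hv
    have b2 : isB (actY v) = true := isB_of_lt (actY_lt v)
    have k1 : oneOrT (commB 0 n v) = true :=
      RShapeAux.oneOrT_iff (q := commB 0 n v) F P two inj (isB_iff.1 (commB_isB zero_le_one hnB b1)).1
        (by rw [P.el_commB zero_le_one hnB b1]; exact F.comm _ hnR _ hvR)
    have k2 : oneOrT (commB 0 n (actY v)) = true :=
      RShapeAux.oneOrT_iff (q := commB 0 n (actY v)) F P two inj (isB_iff.1 (commB_isB zero_le_one hnB b2)).1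
        (by rw [P.el_commB zero_le_one hnB b2]; exact F.comm _ hnR _ hYv)
    exact vec_cases ha hna h64 hv k1 k2
  have hsub : ∀ m, isB m = true → m < 10752 → P.el m ∈ R → m ∈ coreList a := by
    intro m hmB hm hmR
    by_cases hm6 : m < 64
    · exact (hvec' m hm6).2 (hP0 m hm6 hmR)
    have hm64 : 64 ≤ m := by omega
    have hcy : ∀ {q}, isB q = true → P.el q ∈ R → isB (cjB 0 codeY q) = true ∧ P.el (cjB 0 codeY q) ∈ R :=
      fun hq hqR => ⟨cjB_isB zero_le_one isB_codeY hq, by
        rw [P.el_cjB zero_le_one isB_codeY hq]; exact F.Rnorm _ hy _ hqR⟩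
    have key : ∀ {p q}, p ∈ coreList 0 → q ∈ coreList 4 → 64 ≤ p → 64 ≤ q →
        isB p = true → isB q = true → P.el p ∈ R → P.el q ∈ R → False := by
      intro p q hp hq hp6 hq6 hpB hqB hpR hqR
      obtain ⟨d, hd, hd6, hdP⟩ := mix_cases hp hq hp6 hq6
      obtain ⟨hYB, hYR⟩ := hcy hpB hpR
      have hdR : P.el d ∈ R := by
        simp only [List.mem_cons, List.not_mem_nil, or_false] at hd
        rcases hd with rfl | rfl | rfl | rfl | rfl | rfl
        · rw [P.el_mulB zero_le_one hqB hpB]; exact mul_mem hqR hpR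
        · rw [P.el_mulB zero_le_one hpB hqB]; exact mul_mem hpR hqR
        · rw [P.el_mulB zero_le_one hqB hYB]; exact mul_mem hqR hYR
        · rw [P.el_mulB zero_le_one hYB hqB]; exact mul_mem hYR hqR
        · rw [P.el_mulB zero_le_one (mulB_isB zero_le_one hqB hYB) hpB, P.el_mulB zero_le_one hqB hYB]
          exact mul_mem (mul_mem hqR hYR) hpR
        · rw [P.el_mulB zero_le_one (mulB_isB zero_le_one hqB hpB) hYB, P.el_mulB zero_le_one hqB hpB]
          exact mul_mem (mul_mem hqR hpR) hYR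
      rw [hP0 d hd6 hdR] at hdP
      exact absurd hdP (by simp)
    obtain ⟨-, hmc⟩ := core_cases zero_le_one hmB hm64
      (RShapeAux.coreOk_of_mem F zero_le_one P two inj hmB hmR h8 h32 hy hs)
    rcases ha with rfl | rfl <;> rcases hmc with h | h
    · exact h
    · exact (key hna h h64 hm64 hnB hmB hnR hmR).elim
    · exact (key h hna hm64 h64 hmB hnB hmR hnR).elim
    · exact h
  -- equality by counting
  have key : ∀ L : List ℕ, L.length = 64 → (∀ g ∈ R, ∃ m ∈ L, P.el m = g) →
      ∀ g : G, g ∈ R ↔ ∃ m ∈ L, P.el m = g := by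
    intro L hL hRL g
    have hle : (R : Set G) ⊆ ((L.map P.el).toFinset : Set G) := fun g hg => by
      obtain ⟨m, hm, rfl⟩ := hRL g hg
      simp only [Finset.mem_coe, List.mem_toFinset, List.mem_map]
      exact ⟨m, hm, rfl⟩
    have heq : (R : Set G) = ((L.map P.el).toFinset : Set G) := by
      refine Set.eq_of_subset_of_ncard_le hle ?_
      rw [Set.ncard_coe_finset, ← Nat.card_coe_set_eq]
      calc (L.map P.el).toFinset.card ≤ (L.map P.el).length := List.toFinset_card_le _
        _ = Nat.card R := by rw [List.length_map, hL, F.cardR]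
    rw [← SetLike.mem_coe, heq]
    simp
  refine ⟨a, ha, ⟨⟨P, two, inj, memN, memB, key (coreList a) hlen fun g hg => ?_⟩⟩⟩
  obtain ⟨m, hmB, hm, rfl⟩ := hRB g hg
  exact ⟨m, hsub m hmB hm hg, rfl⟩

end Cfsg.Agent.HSLocal.Coord
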