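import Cfsg.Agent.Lib.HSLocal.Coord.Engine

/-!
Finite facts about linear maps of `(Z/4)^3` on codes, used to coordinatise `4^3 . L3(2)`.
-/

set_option autoImplicit false

namespace Cfsg.Agent.HSLocal.Coord.Shape

/-- The codes of the elements of exponent two. -/
def evens : List ℕ := [0, 2, 8, 10, 32, 34, 40, 42]

/-- The action of a triple of images on the codes of exponent two. -/
def actO (τ : ℕ × ℕ × ℕ) (v : ℕ) : ℕ := linV τ.1 τ.2.1 τ.2.2 (v / 2)

/-- All the triples. -/
def cube : List (ℕ × ℕ × ℕ) := evens.flatMap fun a => evens.flatMap fun b => evens.map fun c => (a, b, c)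

/-- The triples giving injective maps. -/
def isos : List (ℕ × ℕ × ℕ) := cube.filter fun τ => evens.all fun v => v == 0 || actO τ v != 0

theorem mem_evens : ∀ v, v < 64 → smulV 2 v = 0 → v ∈ evens := by decide +kernel

theorem evens_lt : ∀ v ∈ evens, v < 64 ∧ smulV 2 v = 0 := by decide +kernel

theorem evens_half : ∀ v ∈ evens, smulV 2 (v / 2) = v ∧ linV 2 8 32 (v / 2) = v := by decide +kernel

theorem sub_eq_zero : ∀ u, u < 64 → ∀ v, v < 64 → addV u (smulV 3 v) = 0 → u = v := by decide +kernel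

theorem isos_length : isos.length = 168 := by decide +kernel

theorem isos_nodup : isos.Nodup := by decide +kernel

theorem cube_mem {a b c : ℕ} (ha : a ∈ evens) (hb : b ∈ evens) (hc : c ∈ evens) : (a, b, c) ∈ cube :=
  List.mem_flatMap.2 ⟨a, ha, List.mem_flatMap.2 ⟨b, hb, List.mem_map.2 ⟨c, hc, rfl⟩⟩⟩

/-- The action of `x` for a parameter. -/
def actL (r v : ℕ) : ℕ := linV 4 16 r v

theorem x_cases : ∀ r, r < 64 → (actL r)^[7] 1 = 1 → (∀ v, v < 64 → actL r v = v → v = 0) →
    r = 25 ∨ r = 45 := by decide +kernel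

theorem x_inverse : (actL 25)^[4] 1 ≠ linV 1 ((actL 25)^[6] 1) ((actL 25)^[5] 1) 25 := by decide +kernel

theorem y_value : (actL 45)^[4] 1 = 62 := by decide +kernel

theorem actS_evens : ∀ v ∈ evens, actS v ∈ evens ∧ actO (2, 32, 8) v = actS v ∧ actS (actS v) = v ∧
    actX v ∈ evens ∧ actY v ∈ evens ∧ actS (actY v) = actY (actY (actS v)) ∧
    actS (actX (actS (actX (actS (actX v))))) = v := by decide +kernel

/-- The linear map `s x`. -/
def actSX (v : ℕ) : ℕ := actS (actX v)

/-- The conditions on the linear map of `s`. -/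
def sCond (p q r : ℕ) : Prop :=
  ∀ v ∈ [1, 4, 16], linV p q r (linV p q r v) = v ∧ linV p q r (actY v) = actY (actY (linV p q r v)) ∧
    linV p q r (actX (linV p q r (actX (linV p q r (actX v))))) = v

instance (p q r : ℕ) : Decidable (sCond p q r) := List.decidableBAll _ _

set_option synthInstance.maxSize 2000 in
theorem s_unique : ∀ p, p < 64 → smulV 2 p = 2 → ∀ q, q < 64 → smulV 2 q = 32 → ∀ r, r < 64 →
    smulV 2 r = 8 → sCond p q r → p = 3 ∧ q = 16 ∧ r = 4 := by decide +kernel

theorem square_fixed : ∀ w, w < 64 → actS w = w → actY w = w → w = 0 ∨ w = 2 := by decide +kernel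

theorem square_zero : ∀ v, v < 64 → ∀ w, (w = 0 ∨ w = 2) → addV (addV v (actS v)) w = 0 → w = 0 := by
  intro v hv w hw
  rcases hw with rfl | rfl
  · exact fun _ => rfl
  · revert v
    decide +kernel

theorem invol_conj : ∀ τ ∈ isos, (∀ v ∈ evens, actO τ (actO τ v) = v) → (∃ v ∈ evens, actO τ v ≠ v) →
    ∃ g ∈ isos, ∀ v ∈ [2, 8, 32], actO τ (actO g v) = actO g (actS v) := by decide +kernel

theorem cube_sum : ∀ u, u < 64 → actSX u = u → ∃ c, c < 2 ∧ ∃ j, j < 4 ∧
    addV (addV (addV j (actSX j)) (actSX (actSX j))) u = vF c := by decide +kernel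

/-- The action on codes of the normal form with code `64 q`. -/
def actQ (q v : ℕ) : ℕ := actXn (cI (64 * q)) (actYn (cJ (64 * q)) (actT (cM (64 * q)) v))

theorem actQ_inj : ∀ q, q < 168 → ∀ q', q' < 168 → actQ q 2 = actQ q' 2 → actQ q 8 = actQ q' 8 →
    actQ q 32 = actQ q' 32 → q = q' := by decide +kernel

end Cfsg.Agent.HSLocal.Coord.Shape
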