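import Cfsg.Agent.Lib.HSLocal.Coord.HLift

/-!
The second system of coordinates `s ↦ s t`.
-/

set_option autoImplicit false
set_option maxRecDepth 100000
set_option linter.unusedSectionVars false

namespace Cfsg.Agent.HSLocal.Coord

namespace MR

variable {X : Type*} [Group X] (M : MR X 0)

theorem val_cons (k : ℕ) (w : List ℕ) : M.val (k :: w) = M.gen k * M.val w := by simp [val]

theorem val_nil : M.val [] = 1 := by simp [val]

theorem x_inv : M.x⁻¹ = M.x ^ 6 := inv_eq_of_mul_eq_one_right (by rw [← pow_succ', M.x7])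

/-- The coordinates with `s t` in place of `s`. -/
def twist : MR X 0 where
  x := M.x
  y := M.y
  s := M.s * (M.e * M.e)
  e := M.e
  x7 := M.x7
  y3 := M.y3
  ss := by
    have h := M.val_eq_one (u := [2, 3, 3, 2, 3, 3]) (by decide +kernel)
    simpa [val_cons, val_nil, gen, mul_assoc] using h
  yx := M.yx
  sy := by
    have h := M.val_eq (u := [2, 3, 3, 1]) (w := [1, 1, 2, 3, 3]) (by decide +kernel)
    simpa [val_cons, val_nil, gen, mul_assoc, pow_succ] using h
  sxs := by
    have h := M.val_eq (u := [2, 3, 3, 0, 2, 3, 3]) (w := [0, 0, 0, 0, 0, 0, 2, 3, 3, 0, 0, 0, 0, 0, 0])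
      (by decide +kernel)
    simpa [val_cons, val_nil, gen, mul_assoc, pow_succ] using h
  abel := M.abel
  xh := M.xh
  ye := M.ye
  yh := M.yh
  se := by
    have h := M.val_eq (u := [2, 3, 3, 3]) (w := [3, 3, 3, 2, 3, 3]) (by decide +kernel)
    simpa [val_cons, val_nil, gen, mul_assoc, pow_succ] using h
  sf := by
    have h := M.val_eq (u := [2, 3, 3, 0, 3, 0, 0, 0, 0, 0, 0])
      (w := [0, 0, 3, 0, 0, 0, 0, 0, 0, 0, 0, 0, 0, 0, 0, 2, 3, 3]) (by decide +kernel)
    simpa [val_cons, val_nil, gen, mul_assoc, pow_succ, M.x_inv] using h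

theorem vc_twist (m : ℕ) : M.vc (actXn m 2) = M.x ^ m * M.vc 2 * (M.x ^ m)⁻¹ := by
  rw [xn_vc, mul_inv_cancel_right]

theorem el_twist (n : ℕ) : M.twist.el n = M.el (twC n) := by
  unfold twC
  rcases hm : cM n with _ | k
  · rw [el, el, hm]; rfl
  · show M.twist.el n = M.el (mulV n (actXn (7 - k % 7) 2))
    rw [el_mulV, el, el, hm]
    show M.vc (cV n) * M.x ^ cI n * M.y ^ cJ n * (M.s * (M.e * M.e) * M.x ^ k) =
      M.vc (cV n) * M.x ^ cI n * M.y ^ cJ n * (M.s * M.x ^ k) * M.vc (actXn (7 - k % 7) 2)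
    have h7 : M.x ^ k * M.x ^ (7 - k % 7) = 1 := by
      rw [← pow_add, show k + (7 - k % 7) = 7 * (k / 7 + 1) by omega, pow_mul, M.x7, one_pow]
    have e1 : M.x ^ k = (M.x ^ (7 - k % 7))⁻¹ := eq_inv_of_mul_eq_one_left h7
    have e2 : M.e * M.e = M.vc 2 := by simp [vc, vec, pow_two]
    rw [vc_twist, e2, e1]
    group

theorem el_twC_twC (n : ℕ) : M.el (twC (twC n)) = M.el n := by
  have h1 : cM (twC n) = cM n := by
    unfold twC
    rcases hm : cM n with _ | k
    · exact hm
    · simp only [mulV, pack, cM]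
      have hV := Nat.mod_lt (addV (cV n) (actXn (cI n) (actYn (cJ n) (actT (cM n) (actXn (7 - k % 7) 2)))))
        (show 64 > 0 by norm_num)
      simp only [cM] at hm hV ⊢
      omega
  have h2 : twC (twC n) = twC (twC n) := rfl
  rcases hm : cM n with _ | k
  · have : twC n = n := by unfold twC; rw [hm]
    rw [this, this]
  · have e : ∀ w, cM w = k + 1 → M.el (twC w) = M.el w * M.vc (actXn (7 - k % 7) 2) := fun w hw => by
      unfold twC
      rw [hw]
      exact M.el_mulV w _
    rw [e _ (h1.trans hm), e n hm, mul_assoc, vc_twist]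
    have e4 : M.vc 2 * M.vc 2 = 1 := by rw [mul_vc, show addV 2 2 = 0 from rfl, vc, vec_zero]
    calc M.el n * (M.x ^ (7 - k % 7) * M.vc 2 * (M.x ^ (7 - k % 7))⁻¹ *
        (M.x ^ (7 - k % 7) * M.vc 2 * (M.x ^ (7 - k % 7))⁻¹)) =
        M.el n * (M.x ^ (7 - k % 7) * (M.vc 2 * M.vc 2) * (M.x ^ (7 - k % 7))⁻¹) := by group
      _ = _ := by rw [e4, mul_one, mul_inv_cancel, mul_one]

end MR

theorem twC_class (n : ℕ) : twC n / 64 = n / 64 := by
  unfold twC
  rcases hm : cM n with _ | k
  · rfl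
  · simp only [mulV, pack]
    generalize addV _ _ = w
    unfold cI cJ
    have : cM n = n / 1344 := rfl
    omega

theorem twC_lt {n : ℕ} (hn : n < 10752) : twC n < 10752 := by
  have := twC_class n
  omega

variable {G : Type*} [Group G] [Finite G] {t : G} {R V : Subgroup G}

/-- The twisted coordinates. -/
def RCoord.twist (C : RCoord t R V 0) : RCoord t R V 0 where
  P := C.P.twist
  two := by
    rw [C.P.el_twist, show twC 2 = 2 from rfl, C.two]
  inj n hn m hm e := by
    rw [C.P.el_twist, C.P.el_twist] at e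
    have e' := C.inj _ (twC_lt hn) _ (twC_lt hm) e
    refine C.inj n hn m hm ?_
    rw [← C.P.el_twC_twC n, ← C.P.el_twC_twC m, e']
  memN g := by
    rw [C.memN]
    constructor <;> rintro ⟨n, hn, rfl⟩
    · exact ⟨twC n, twC_lt hn, by rw [C.P.el_twist, C.P.el_twC_twC]⟩
    · exact ⟨twC n, twC_lt hn, by rw [C.P.el_twist]⟩
  memB n hn := by
    rw [C.P.el_twist, C.memB _ (twC_lt hn), isB_iff, isB_iff, twC_class]
    exact and_congr_left' (iff_of_true (twC_lt hn) hn)
  memR g := by
    have h : ∀ n ∈ coreList 0, twC n ∈ coreList 0 := fun n hn => by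
      rw [← coreL_eq 0 (by simp)] at hn ⊢
      have hs := twist_ok
      rw [Bool.and_eq_true] at hs
      have := List.all_eq_true.1 hs.1 n hn
      simp only [Bool.and_eq_true, memB_iff] at this
      exact this.1.1
    rw [C.memR]
    constructor <;> rintro ⟨n, hn, rfl⟩
    · exact ⟨twC n, h n hn, by rw [C.P.el_twist, C.P.el_twC_twC]⟩
    · exact ⟨twC n, h n hn, by rw [C.P.el_twist]⟩

theorem twL_ok : (targetA = mkL (nib targetA 0) (nib targetA 1) (nib targetA 2) (nib targetA 3)) ∧
    ∀ x < 16, appL twL (appL twL x) = x ∧ appL targetA x = appL twL (appL targetB (appL twL x)) := by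
  decide +kernel

theorem RCoord.act_twist (C : RCoord t R V 0) {h : G} (hA : C.Act h targetB) :
    C.twist.Act h targetA := by
  refine ⟨twL_ok.1, fun n hn m hm e => ?_⟩
  have hs := twist_ok
  rw [Bool.and_eq_true] at hs
  have k : ∀ p ∈ coreL 0, twC p ∈ coreL 0 ∧ clsC 0 (twC p) = appL twL (clsC 0 p) := fun p hp => by
    have := List.all_eq_true.1 hs.1 p hp
    simp only [Bool.and_eq_true, memB_iff, Nat.beq_eq] at this
    exact this.1
  change C.P.twist.el m = h * C.P.twist.el n * h⁻¹ at e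
  rw [C.P.el_twist, C.P.el_twist] at e
  have := hA.2 _ (k n hn).1 _ (k m hm).1 e
  rw [(k n hn).2, (k m hm).2] at this
  rw [(twL_ok.2 _ (clsC_lt (Or.inl rfl) hn)).2, ← this, (twL_ok.2 _ (clsC_lt (Or.inl rfl) hm)).1]

end Cfsg.Agent.HSLocal.Coord
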