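import Mathlib

/-!
Codes for the elements of an abelian group generated by three elements of exponent four.
-/

set_option autoImplicit false

namespace Cfsg.Agent.HSLocal.Coord

/-- The code of a vector over the integers modulo four. -/
def mkV (a b c : ℕ) : ℕ := a % 4 + 4 * (b % 4) + 16 * (c % 4)

/-- The sum of two vectors. -/
def addV (u v : ℕ) : ℕ := mkV (u % 4 + v % 4) (u / 4 % 4 + v / 4 % 4) (u / 16 % 4 + v / 16 % 4)

/-- A multiple of a vector. -/
def smulV (n u : ℕ) : ℕ := mkV (n * (u % 4)) (n * (u / 4 % 4)) (n * (u / 16 % 4))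

/-- The linear map with three given images. -/
def linV (p q r v : ℕ) : ℕ :=
  addV (addV (smulV (v % 4) p) (smulV (v / 4 % 4) q)) (smulV (v / 16 % 4) r)

variable {X : Type*} [Group X]

/-- The element of a code. -/
def vec (e f h : X) (v : ℕ) : X := e ^ (v % 4) * f ^ (v / 4 % 4) * h ^ (v / 16 % 4)

theorem mkV_parts (a b c : ℕ) :
    mkV a b c % 4 = a % 4 ∧ mkV a b c / 4 % 4 = b % 4 ∧ mkV a b c / 16 % 4 = c % 4 := by
  unfold mkV
  omega

theorem vec_mkV {e f h : X} (he : e ^ 4 = 1) (hf : f ^ 4 = 1) (hh : h ^ 4 = 1) (a b c : ℕ) :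
    vec e f h (mkV a b c) = e ^ a * f ^ b * h ^ c := by
  obtain ⟨h1, h2, h3⟩ := mkV_parts a b c
  rw [vec, h1, h2, h3, ← pow_eq_pow_mod a he, ← pow_eq_pow_mod b hf, ← pow_eq_pow_mod c hh]

/-- An abelian group with three generators of exponent four. -/
structure Abel4 (e f h : X) : Prop where
  e4 : e ^ 4 = 1
  f4 : f ^ 4 = 1
  h4 : h ^ 4 = 1
  ef : Commute e f
  eh : Commute e h
  fh : Commute f h

variable {e f h : X}

theorem Abel4.mul_vec (A : Abel4 e f h) (u v : ℕ) : vec e f h u * vec e f h v = vec e f h (addV u v) := by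
  rw [addV, vec_mkV A.e4 A.f4 A.h4, pow_add, pow_add, pow_add, vec, vec]
  simp only [mul_assoc]
  have k1 : ∀ (i j : ℕ) (z : X), h ^ i * (e ^ j * z) = e ^ j * (h ^ i * z) := fun i j z => by
    rw [← mul_assoc, ← (A.eh.pow_pow j i).eq, mul_assoc]
  have k2 : ∀ (i j : ℕ) (z : X), f ^ i * (e ^ j * z) = e ^ j * (f ^ i * z) := fun i j z => by
    rw [← mul_assoc, ← (A.ef.pow_pow j i).eq, mul_assoc]
  have k3 : ∀ (i j : ℕ) (z : X), h ^ i * (f ^ j * z) = f ^ j * (h ^ i * z) := fun i j z => by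
    rw [← mul_assoc, ← (A.fh.pow_pow j i).eq, mul_assoc]
  rw [k1, k2, k3]

theorem Abel4.vec_pow (A : Abel4 e f h) (u n : ℕ) : vec e f h u ^ n = vec e f h (smulV n u) := by
  rw [smulV, vec_mkV A.e4 A.f4 A.h4, vec, (Commute.mul_left (A.eh.pow_pow _ _) (A.fh.pow_pow _ _)).mul_pow,
    (A.ef.pow_pow _ _).mul_pow, ← pow_mul, ← pow_mul, ← pow_mul]
  simp only [Nat.mul_comm n]

theorem Abel4.map_vec {Y : Type*} [Group Y] (A : Abel4 e f h) (φ : Y →* X) (e' f' h' : Y) (p q r : ℕ)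
    (hp : φ e' = vec e f h p) (hq : φ f' = vec e f h q) (hr : φ h' = vec e f h r) (v : ℕ) :
    φ (vec e' f' h' v) = vec e f h (linV p q r v) := by
  rw [vec, map_mul, map_mul, map_pow, map_pow, map_pow, hp, hq, hr, A.vec_pow, A.vec_pow, A.vec_pow,
    A.mul_vec, A.mul_vec, linV]

theorem Abel4.conj_vec (A : Abel4 e f h) (g : X) (p q r : ℕ) (hp : g * e = vec e f h p * g)
    (hq : g * f = vec e f h q * g) (hr : g * h = vec e f h r * g) (v : ℕ) :
    g * vec e f h v = vec e f h (linV p q r v) * g := by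
  have k : ∀ z w : X, g * z = w * g → (MulAut.conj g).toMonoidHom z = w := fun z w e1 => by
    show g * z * g⁻¹ = w
    rw [e1, mul_inv_cancel_right]
  have := A.map_vec (MulAut.conj g).toMonoidHom e f h p q r (k _ _ hp) (k _ _ hq) (k _ _ hr) v
  rw [← this]
  show g * _ = g * _ * g⁻¹ * g
  rw [inv_mul_cancel_right]

theorem vec_zero (e f h : X) : vec e f h 0 = 1 := by simp [vec]

end Cfsg.Agent.HSLocal.Coord
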